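import Mathlib

set_option autoImplicit false

namespace Cfsg.Agent.Lib.Helper16.A4GL2

open Matrix

/-! ### arithmetic of `ZMod (2 ^ k)` -/

section ZM

variable {k : ℕ}

/-- reduction modulo 2. -/
noncomputable def phi (k : ℕ) (hk : 1 ≤ k) : ZMod (2 ^ k) →+* ZMod 2 :=
  ZMod.castHom (dvd_pow_self 2 (by omega)) (ZMod 2)

theorem phi_ker (hk : 1 ≤ k) (x : ZMod (2 ^ k)) (h : phi k hk x = 0) : ∃ y, x = 2 * y := by
  have hne : NeZero (2 ^ k) := ⟨by positivity⟩
  have h1 : ((x.val : ℕ) : ZMod (2 ^ k)) = x := ZMod.natCast_zmod_val x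
  have h2 : phi k hk x = ((x.val : ℕ) : ZMod 2) := by
    conv_lhs => rw [← h1]
    exact map_natCast _ _
  rw [h2, ZMod.natCast_eq_zero_iff] at h
  obtain ⟨m, hm⟩ := h
  refine ⟨(m : ZMod (2 ^ k)), ?_⟩
  rw [← h1, hm]
  push_cast
  ring

theorem two_pow_eq_zero (k : ℕ) : (2 : ZMod (2 ^ k)) ^ k = 0 := by
  have h := ZMod.natCast_self (2 ^ k)
  push_cast at h
  exact h

theorem isUnit_one_add_two (y : ZMod (2 ^ k)) : IsUnit (1 + 2 * y) := by
  apply IsNilpotent.isUnit_one_add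
  exact ⟨k, by rw [mul_pow, two_pow_eq_zero, zero_mul]⟩

theorem isUnit_of_phi (hk : 1 ≤ k) (x : ZMod (2 ^ k)) (h : phi k hk x = 1) : IsUnit x := by
  have h1 : phi k hk (x - 1) = 0 := by rw [map_sub, h, map_one, sub_self]
  obtain ⟨y, hy⟩ := phi_ker hk _ h1
  have h2 : x = 1 + 2 * y := by rw [← hy]; ring
  rw [h2]
  exact isUnit_one_add_two y

theorem two_mat_pow (k : ℕ) : (2 : Matrix (Fin 2) (Fin 2) (ZMod (2 ^ k))) ^ k = 0 := by
  have h : ((2 ^ k : ℕ) : Matrix (Fin 2) (Fin 2) (ZMod (2 ^ k))) = 0 := by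
    ext i j
    rw [Matrix.natCast_apply]
    split_ifs
    · exact ZMod.natCast_self (2 ^ k)
    · simp
  push_cast at h
  exact h

theorem isUnit_one_add_two_mat (Y : Matrix (Fin 2) (Fin 2) (ZMod (2 ^ k))) :
    IsUnit (1 + 2 * Y) := by
  apply IsNilpotent.isUnit_one_add
  refine ⟨k, ?_⟩
  have hc : Commute (2 : Matrix (Fin 2) (Fin 2) (ZMod (2 ^ k))) Y := by
    have := Nat.cast_commute 2 Y
    simpa using this
  rw [hc.mul_pow, two_mat_pow, zero_mul]

theorem mat_ker (hk : 1 ≤ k) (M : Matrix (Fin 2) (Fin 2) (ZMod (2 ^ k)))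
    (h : (phi k hk).mapMatrix M = 1) : ∃ Y, M = 1 + 2 * Y := by
  have h1 : ∀ i j, ∃ y, M i j - (1 : Matrix (Fin 2) (Fin 2) (ZMod (2 ^ k))) i j = 2 * y := by
    intro i j
    apply phi_ker hk
    have h2 := congrFun (congrFun h i) j
    rw [RingHom.mapMatrix_apply, Matrix.map_apply] at h2
    rw [map_sub, h2, Matrix.one_apply, Matrix.one_apply]
    split_ifs
    · rw [map_one, sub_self]
    · rw [map_zero, sub_self]
  choose y hy using h1
  refine ⟨Matrix.of y, ?_⟩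
  ext i j
  rw [Matrix.add_apply, two_mul, Matrix.add_apply, Matrix.of_apply]
  linear_combination hy i j

theorem two_mul_eq_zero (hk : 1 ≤ k) (x : ZMod (2 ^ k)) (h : 2 * x = 0) :
    x = 0 ∨ x = 2 ^ (k - 1) := by
  have hne : NeZero (2 ^ k) := ⟨by positivity⟩
  have h1 : ((x.val : ℕ) : ZMod (2 ^ k)) = x := ZMod.natCast_zmod_val x
  have h2 : ((2 * x.val : ℕ) : ZMod (2 ^ k)) = 0 := by
    push_cast
    rw [h1, h]
  rw [ZMod.natCast_eq_zero_iff] at h2
  have h3 : 2 ^ k = 2 * 2 ^ (k - 1) := by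
    rw [← pow_succ']
    congr 1
    omega
  have h2' : 2 * 2 ^ (k - 1) ∣ 2 * x.val := by
    rw [← h3]
    exact h2
  have h4 : 2 ^ (k - 1) ∣ x.val := (Nat.mul_dvd_mul_iff_left (by norm_num)).mp h2'
  obtain ⟨m, hm⟩ := h4
  have h5 : x.val < 2 ^ k := ZMod.val_lt x
  have h6 : 0 < 2 ^ (k - 1) := by positivity
  have h7 : m < 2 := by
    by_contra hcon
    have : 2 ^ (k - 1) * 2 ≤ 2 ^ (k - 1) * m := Nat.mul_le_mul_left _ (by omega)
    omega
  interval_cases m
  · left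
    rw [← h1, hm]
    simp
  · right
    rw [← h1, hm]
    simp

theorem two_mul_half (hk : 1 ≤ k) : (2 : ZMod (2 ^ k)) * 2 ^ (k - 1) = 0 := by
  rw [← pow_succ']
  have h3 : k - 1 + 1 = k := by omega
  rw [h3]
  exact two_pow_eq_zero k

end ZM

/-! ### elements of order 3 -/

theorem mod2_cube : ∀ T : Matrix (Fin 2) (Fin 2) (ZMod 2), T * T * T = 1 →
    T = 1 ∨ (T 1 0 = 1 ∧ (T - 1) * T = 1) := by
  decide

theorem t_lemma {k : ℕ} (hk : 1 ≤ k) (t : Matrix (Fin 2) (Fin 2) (ZMod (2 ^ k)))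
    (h3 : t * t * t = 1) (h1 : t ≠ 1) : t * t + t + 1 = 0 ∧ IsUnit (t 1 0) := by
  have hT : (phi k hk).mapMatrix t * (phi k hk).mapMatrix t * (phi k hk).mapMatrix t = 1 := by
    rw [← map_mul, ← map_mul, h3, map_one]
  rcases mod2_cube _ hT with hc | ⟨hc1, hc2⟩
  · exfalso
    obtain ⟨Y, hY⟩ := mat_ker hk t hc
    have h4 : t * t + t + 1 = 1 + 2 * (1 + 3 * Y + 2 * (Y * Y)) := by
      rw [hY]
      noncomm_ring
    have h5 : IsUnit (t * t + t + 1) := by
      rw [h4]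
      exact isUnit_one_add_two_mat _
    have h6 : (t - 1) * (t * t + t + 1) = 0 := by
      have : (t - 1) * (t * t + t + 1) = t * t * t - 1 := by noncomm_ring
      rw [this, h3, sub_self]
    have h7 := (h5.mul_left_eq_zero).mp h6
    exact h1 (sub_eq_zero.mp h7)
  · constructor
    · have h4 : (phi k hk).mapMatrix ((t - 1) * t) = 1 := by
        rw [map_mul, map_sub, map_one]
        exact hc2
      obtain ⟨Y, hY⟩ := mat_ker hk _ h4
      have h5 : IsUnit ((t - 1) * t) := by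
        rw [hY]
        exact isUnit_one_add_two_mat _
      have h6 : (t - 1) * t * (t * t + t + 1) = 0 := by
        have : (t - 1) * t * (t * t + t + 1) = t * t * t * t - t := by noncomm_ring
        rw [this, h3, one_mul, sub_self]
      exact (h5.mul_right_eq_zero).mp h6
    · apply isUnit_of_phi hk
      have h4 : (phi k hk).mapMatrix t 1 0 = phi k hk (t 1 0) := by
        rw [RingHom.mapMatrix_apply, Matrix.map_apply]
      rw [← h4]
      exact hc1

end Cfsg.Agent.Lib.Helper16.A4GL2
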