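import Mathlib
import Cfsg.Agent.Lib.Helper16.A4GL2a

set_option autoImplicit false

namespace Cfsg.Agent.Lib.Helper16.A4GL2

open Matrix

section gen

variable {R : Type*} [CommRing R]

/-- the companion matrix of `X² + X + 1`. -/
def cM (R : Type*) [CommRing R] : Matrix (Fin 2) (Fin 2) R := !![0, -1; 1, -1]

/-- its inverse. -/
def cM' (R : Type*) [CommRing R] : Matrix (Fin 2) (Fin 2) R := !![-1, 1; -1, 0]

theorem cM_mul : cM R * cM' R = 1 := by
  ext i j
  fin_cases i <;> fin_cases j <;> simp [cM, cM', Matrix.mul_apply, Fin.sum_univ_two]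

theorem cM'_mul : cM' R * cM R = 1 := by
  ext i j
  fin_cases i <;> fin_cases j <;> simp [cM, cM', Matrix.mul_apply, Fin.sum_univ_two]

/-- the companion matrix as an invertible matrix. -/
def Cc (R : Type*) [CommRing R] : GL (Fin 2) R := ⟨cM R, cM' R, cM_mul, cM'_mul⟩

theorem Cc_val : (Cc R).val = cM R := rfl

theorem Cc_inv_val : ((Cc R)⁻¹).val = cM' R := rfl

theorem conj_lemma (t : GL (Fin 2) R) (h : t.val * t.val + t.val + 1 = 0)
    (hu : IsUnit (t.val 1 0)) : ∃ g : GL (Fin 2) R, g⁻¹ * t * g = Cc R := by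
  obtain ⟨gm, hgm⟩ : ∃ gm : Matrix (Fin 2) (Fin 2) R, gm = !![1, t.val 0 0; 0, t.val 1 0] :=
    ⟨_, rfl⟩
  have hg : IsUnit gm := by
    rw [Matrix.isUnit_iff_isUnit_det, hgm, Matrix.det_fin_two_of]
    simpa using hu
  obtain ⟨g, hgv⟩ : ∃ g : GL (Fin 2) R, g.val = gm := ⟨hg.unit, rfl⟩
  refine ⟨g, ?_⟩
  rw [mul_assoc, inv_mul_eq_iff_eq_mul]
  apply Units.ext
  rw [Units.val_mul, Units.val_mul, hgv, Cc_val, hgm]
  have h00 := congrFun (congrFun h 0) 0
  have h10 := congrFun (congrFun h 1) 0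
  simp only [Matrix.add_apply, Matrix.mul_apply, Fin.sum_univ_two, Matrix.one_apply_eq,
    Matrix.zero_apply] at h00 h10
  have h10' : (1 : Matrix (Fin 2) (Fin 2) R) 1 0 = 0 := by simp
  rw [h10'] at h10
  ext i j
  fin_cases i <;> fin_cases j
  · simp [cM, Matrix.mul_apply, Fin.sum_univ_two]
  · simp [cM, Matrix.mul_apply, Fin.sum_univ_two]
    linear_combination h00
  · simp [cM, Matrix.mul_apply, Fin.sum_univ_two]
  · simp [cM, Matrix.mul_apply, Fin.sum_univ_two]
    linear_combination h10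

theorem a_lemma (a : Matrix (Fin 2) (Fin 2) R) (h1 : a * a = 1)
    (h2 : a * (cM R * a * cM' R) = cM R * cM R * a * cM' R * cM' R) :
    ∃ x y : R, 2 * x = 0 ∧ 2 * y = 0 ∧ a = !![1 + x, x + y; y, 1 + x] := by
  obtain ⟨p, q, u, v, rfl⟩ : ∃ p q u v : R, a = !![p, q; u, v] :=
    ⟨_, _, _, _, Matrix.eta_fin_two a⟩
  have hb : cM R * !![p, q; u, v] * cM' R = !![u + v, -u; u + v - p - q, p - u] := by
    ext i j
    fin_cases i <;> fin_cases j <;> simp [cM, cM', Matrix.mul_apply, Fin.sum_univ_two] <;> ring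
  have hd : cM R * cM R * !![p, q; u, v] * cM' R * cM' R =
      !![v - q, p + q - u - v; -q, p + q] := by
    ext i j
    fin_cases i <;> fin_cases j <;> simp [cM, cM', Matrix.mul_apply, Fin.sum_univ_two] <;> ring
  rw [hb, hd, Matrix.mul_fin_two] at h2
  rw [Matrix.mul_fin_two, Matrix.one_fin_two] at h1
  have E1 : p * p + q * u = 1 := by simpa using congrFun (congrFun h1 0) 0
  have E2 : p * q + q * v = 0 := by simpa using congrFun (congrFun h1 0) 1
  have E3 : u * p + v * u = 0 := by simpa using congrFun (congrFun h1 1) 0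
  have E4 : u * q + v * v = 1 := by simpa using congrFun (congrFun h1 1) 1
  have F1 : p * (u + v) + q * (u + v - p - q) = v - q := by
    simpa using congrFun (congrFun h2 0) 0
  have F2 : p * (-u) + q * (p - u) = p + q - u - v := by
    simpa using congrFun (congrFun h2 0) 1
  have F3 : u * (u + v) + v * (u + v - p - q) = -q := by
    simpa using congrFun (congrFun h2 1) 0
  have F4 : u * (-u) + v * (p - u) = p + q := by
    simpa using congrFun (congrFun h2 1) 1
  have T1 : p - v = 0 := by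
    linear_combination (q - v) * E2 + (-p) * E4 + (1 + v + u) * F1 + (2 * v + u - q) * F2 - F3
  have T2 : 2 * (p - 1) = 0 := by
    linear_combination (u - q) * E1 + (-1 - v + p) * E2 + (1 + 2 * v + u - p) * E3 +
      (2 + v - p) * E4 + (-u) * F1 + F2 + (-2 - v) * F3 + (-2) * F4
  have T3 : 2 * u = 0 := by
    linear_combination (-u) * E1 + (-1 - v + 2 * q) * E2 + (-2 * v - u + p) * E3 +
      (-v - p) * E4 + (2 + 2 * v + 2 * u) * F1 + (1 + 3 * v + u - 2 * q) * F2 + (-1 + v) * F3
  have T4 : q - u - p + 1 = 0 := by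
    linear_combination (1 + v - q) * E2 - E3 + (-1 + p) * E4 + (-1 - v - u) * F1 +
      (-1 - 2 * v - u + q) * F2 + 2 * F3 + F4
  refine ⟨p - 1, u, T2, T3, ?_⟩
  have e1 : v = p := by linear_combination -T1
  have e2 : q = p - 1 + u := by linear_combination T4
  rw [e1, e2]
  congr 1
  ring_nf

end gen

end Cfsg.Agent.Lib.Helper16.A4GL2
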