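import Mathlib
import Cfsg.Agent.Lib.Helper16.A4GL2b

set_option autoImplicit false

namespace Cfsg.Agent.Lib.Helper16.A4GL2

open Matrix

/-- the standard involution. -/
def A0m (k : ℕ) : Matrix (Fin 2) (Fin 2) (ZMod (2 ^ k)) :=
  !![1 + 2 ^ (k - 1), 2 ^ (k - 1); 0, 1 + 2 ^ (k - 1)]

theorem mat_eq {R : Type*} {a b c d a' b' c' d' : R} (h1 : a = a') (h2 : b = b') (h3 : c = c')
    (h4 : d = d') : !![a, b; c, d] = !![a', b'; c', d'] := by
  subst h1 h2 h3 h4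
  rfl

theorem conj_c {R : Type*} [CommRing R] (p q u v : R) :
    cM R * !![p, q; u, v] * cM' R = !![u + v, -u; u + v - p - q, p - u] := by
  ext i j
  fin_cases i <;> fin_cases j <;> simp [cM, cM', Matrix.mul_apply, Fin.sum_univ_two] <;> ring

theorem conj_c' {R : Type*} [CommRing R] (p q u v : R) :
    cM' R * !![p, q; u, v] * cM R = !![v - q, p + q - u - v; -q, p + q] := by
  ext i j
  fin_cases i <;> fin_cases j <;> simp [cM, cM', Matrix.mul_apply, Fin.sum_univ_two] <;> ring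

theorem cM_sq {R : Type*} [CommRing R] : cM R ^ 2 = cM' R := by
  rw [pow_two]
  ext i j
  fin_cases i <;> fin_cases j <;> simp [cM, cM', Matrix.mul_apply, Fin.sum_univ_two]

theorem cM'_sq {R : Type*} [CommRing R] : cM' R ^ 2 = cM R := by
  rw [pow_two]
  ext i j
  fin_cases i <;> fin_cases j <;> simp [cM, cM', Matrix.mul_apply, Fin.sum_univ_two]

theorem normal_form {k : ℕ} (hk : 1 ≤ k) (a : Matrix (Fin 2) (Fin 2) (ZMod (2 ^ k)))
    (h1 : a * a = 1)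
    (h2 : a * (cM _ * a * cM' _) = cM _ * cM _ * a * cM' _ * cM' _) (hne : a ≠ 1) :
    ∃ j : ℕ, cM' _ ^ j * a * cM _ ^ j = A0m k := by
  obtain ⟨x, y, hx, hy, rfl⟩ := a_lemma a h1 h2
  obtain ⟨h, hdef⟩ : ∃ h : ZMod (2 ^ k), h = 2 ^ (k - 1) := ⟨_, rfl⟩
  have hh : (2 : ZMod (2 ^ k)) * h = 0 := by
    rw [hdef]
    exact two_mul_half hk
  have hx' := two_mul_eq_zero hk x hx
  have hy' := two_mul_eq_zero hk y hy
  rw [← hdef] at hx' hy'
  have hA : A0m k = !![1 + h, h; 0, 1 + h] := by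
    rw [hdef]
    rfl
  rw [hA]
  rcases hx' with hx0 | hx0 <;> rcases hy' with hy0 | hy0
  · exfalso
    apply hne
    rw [hx0, hy0]
    ext i j
    fin_cases i <;> fin_cases j <;> simp
  · refine ⟨2, ?_⟩
    rw [cM_sq, cM'_sq, conj_c, hx0, hy0]
    apply mat_eq <;> first | ring1 | linear_combination hh | linear_combination (-1) * hh
  · refine ⟨0, ?_⟩
    rw [pow_zero, pow_zero, one_mul, mul_one, hx0, hy0]
    apply mat_eq <;> first | ring1 | linear_combination hh | linear_combination (-1) * hh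
  · refine ⟨1, ?_⟩
    rw [pow_one, pow_one, conj_c', hx0, hy0]
    apply mat_eq <;> first | ring1 | linear_combination hh | linear_combination (-1) * hh

/-- the structure of the alternating group of degree 4. -/
theorem a4_perm : ∀ x : Equiv.Perm (Fin 4), Equiv.Perm.sign x = 1 →
    ∃ i : Fin 2, ∃ j : Fin 2, ∃ l : Fin 3,
      x = (Equiv.swap 0 1 * Equiv.swap 2 3) ^ (i : ℕ) *
        (c[(0 : Fin 4), 1, 2] * (Equiv.swap 0 1 * Equiv.swap 2 3) * c[(0 : Fin 4), 1, 2]⁻¹) ^ (j : ℕ) *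
        c[(0 : Fin 4), 1, 2] ^ (l : ℕ) := by
  decide

theorem a4_struct : ∃ a t : alternatingGroup (Fin 4), a ≠ 1 ∧ t ≠ 1 ∧ a * a = 1 ∧
    t * t * t = 1 ∧ a * (t * a * t⁻¹) = t * t * a * t⁻¹ * t⁻¹ ∧
    ∀ x : alternatingGroup (Fin 4), ∃ i j l : ℕ, x = a ^ i * (t * a * t⁻¹) ^ j * t ^ l := by
  refine ⟨⟨Equiv.swap 0 1 * Equiv.swap 2 3, Equiv.Perm.mem_alternatingGroup.mpr (by decide)⟩,
    ⟨c[(0 : Fin 4), 1, 2], Equiv.Perm.mem_alternatingGroup.mpr (by decide)⟩, ?_, ?_, ?_, ?_, ?_, ?_⟩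
  · intro h
    have := congrArg Subtype.val h
    revert this
    decide
  · intro h
    have := congrArg Subtype.val h
    revert this
    decide
  · apply Subtype.ext
    show (Equiv.swap (0 : Fin 4) 1 * Equiv.swap 2 3) * (Equiv.swap 0 1 * Equiv.swap 2 3) = 1
    decide
  · apply Subtype.ext
    show c[(0 : Fin 4), 1, 2] * c[(0 : Fin 4), 1, 2] * c[(0 : Fin 4), 1, 2] = 1
    decide
  · apply Subtype.ext
    show (Equiv.swap (0 : Fin 4) 1 * Equiv.swap 2 3) *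
        (c[(0 : Fin 4), 1, 2] * (Equiv.swap 0 1 * Equiv.swap 2 3) * c[(0 : Fin 4), 1, 2]⁻¹) =
      c[(0 : Fin 4), 1, 2] * c[(0 : Fin 4), 1, 2] * (Equiv.swap 0 1 * Equiv.swap 2 3) *
        c[(0 : Fin 4), 1, 2]⁻¹ * c[(0 : Fin 4), 1, 2]⁻¹
    decide
  · rintro ⟨x, hx⟩
    obtain ⟨i, j, l, h⟩ := a4_perm x (Equiv.Perm.mem_alternatingGroup.mp hx)
    refine ⟨i, j, l, ?_⟩
    apply Subtype.ext
    exact h

theorem struct_of_equiv {G : Type*} [Group G] (H : Subgroup G)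
    (e : ↥H ≃* ↥(alternatingGroup (Fin 4))) :
    ∃ a t : G, a ∈ H ∧ t ∈ H ∧ a ≠ 1 ∧ t ≠ 1 ∧ a * a = 1 ∧ t * t * t = 1 ∧
      a * (t * a * t⁻¹) = t * t * a * t⁻¹ * t⁻¹ ∧
      ∀ x ∈ H, ∃ i j l : ℕ, x = a ^ i * (t * a * t⁻¹) ^ j * t ^ l := by
  obtain ⟨a, t, ha1, ht1, ha2, ht3, hrel, hall⟩ := a4_struct
  refine ⟨(e.symm a : G), (e.symm t : G), (e.symm a).2, (e.symm t).2, ?_, ?_, ?_, ?_, ?_, ?_⟩
  · intro h
    apply ha1
    have h' : e.symm a = 1 := Subtype.ext h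
    have := congrArg e h'
    rw [e.apply_symm_apply, map_one] at this
    exact this
  · intro h
    apply ht1
    have h' : e.symm t = 1 := Subtype.ext h
    have := congrArg e h'
    rw [e.apply_symm_apply, map_one] at this
    exact this
  · have := congrArg (fun z => ((e.symm z : ↥H) : G)) ha2
    simpa using this
  · have := congrArg (fun z => ((e.symm z : ↥H) : G)) ht3
    simpa using this
  · have := congrArg (fun z => ((e.symm z : ↥H) : G)) hrel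
    simpa using this
  · intro x hx
    obtain ⟨i, j, l, h⟩ := hall (e ⟨x, hx⟩)
    refine ⟨i, j, l, ?_⟩
    have := congrArg (fun z => ((e.symm z : ↥H) : G)) h
    simpa using this

/-- the standard copy of the alternating group of degree 4. -/
def S0 (k : ℕ) : Set (GL (Fin 2) (ZMod (2 ^ k))) :=
  {y | ∃ A : GL (Fin 2) (ZMod (2 ^ k)), A.val = A0m k ∧ ∃ i j l : ℕ,
    y = A ^ i * (Cc _ * A * (Cc _)⁻¹) ^ j * Cc _ ^ l}

theorem key {k : ℕ} (hk : 2 ≤ k) (H : Subgroup (GL (Fin 2) (ZMod (2 ^ k))))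
    (e : ↥H ≃* ↥(alternatingGroup (Fin 4))) :
    ∃ γ : GL (Fin 2) (ZMod (2 ^ k)), ∀ x, x ∈ H ↔ γ⁻¹ * x * γ ∈ S0 k := by
  obtain ⟨a, t, haH, htH, ha1, ht1, ha2, ht3, hrel, hall⟩ := struct_of_equiv H e
  have hk1 : 1 ≤ k := by omega
  have htm : t.val * t.val * t.val = 1 := by
    rw [← Units.val_mul, ← Units.val_mul, ht3]
    rfl
  have htne : t.val ≠ 1 := fun h => ht1 (Units.ext h)
  obtain ⟨hq, hu⟩ := t_lemma hk1 t.val htm htne
  obtain ⟨g, hg⟩ := conj_lemma t hq hu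
  obtain ⟨a', ha'⟩ : ∃ a', a' = g⁻¹ * a * g := ⟨_, rfl⟩
  have ha'2 : a' * a' = 1 := by
    rw [ha']
    calc g⁻¹ * a * g * (g⁻¹ * a * g) = g⁻¹ * (a * a) * g := by group
      _ = 1 := by rw [ha2]; group
  have ha'rel : a' * (Cc _ * a' * (Cc _)⁻¹) = Cc _ * Cc _ * a' * (Cc _)⁻¹ * (Cc _)⁻¹ := by
    rw [← hg, ha']
    calc g⁻¹ * a * g * (g⁻¹ * t * g * (g⁻¹ * a * g) * (g⁻¹ * t * g)⁻¹)
        = g⁻¹ * (a * (t * a * t⁻¹)) * g := by group
      _ = g⁻¹ * (t * t * a * t⁻¹ * t⁻¹) * g := by rw [hrel]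
      _ = _ := by group
  have ha'ne : a'.val ≠ 1 := by
    intro h
    have h1 : a' = 1 := Units.ext h
    apply ha1
    have h2 : a = g * a' * g⁻¹ := by rw [ha']; group
    rw [h2, h1]
    group
  have hm2 : a'.val * a'.val = 1 := by
    rw [← Units.val_mul, ha'2]
    rfl
  have hmrel : a'.val * (cM _ * a'.val * cM' _) = cM _ * cM _ * a'.val * cM' _ * cM' _ := by
    have h1 := congrArg Units.val ha'rel
    simpa only [Units.val_mul, Cc_val, Cc_inv_val] using h1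
  obtain ⟨j₀, hj₀⟩ := normal_form hk1 a'.val hm2 hmrel ha'ne
  obtain ⟨D, hD⟩ : ∃ D, D = Cc (ZMod (2 ^ k)) ^ j₀ := ⟨_, rfl⟩
  obtain ⟨A, hA⟩ : ∃ A, A = D⁻¹ * a' * D := ⟨_, rfl⟩
  have hAv : A.val = A0m k := by
    rw [hA, hD, ← inv_pow, Units.val_mul, Units.val_mul, Units.val_pow_eq_pow_val,
      Units.val_pow_eq_pow_val, Cc_val, Cc_inv_val]
    exact hj₀
  obtain ⟨γ, hγ⟩ : ∃ γ, γ = g * D := ⟨_, rfl⟩
  have hDC : D⁻¹ * Cc _ * D = Cc _ := by
    rw [hD, mul_assoc, (Commute.pow_right (Commute.refl _) j₀).eq, inv_mul_cancel_left]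
  have hγt : γ⁻¹ * t * γ = Cc _ := by
    rw [hγ]
    calc (g * D)⁻¹ * t * (g * D) = D⁻¹ * (g⁻¹ * t * g) * D := by group
      _ = D⁻¹ * Cc _ * D := by rw [hg]
      _ = Cc _ := hDC
  have hγa : γ⁻¹ * a * γ = A := by
    rw [hγ, hA, ha']
    group
  have hc : ∀ z, γ⁻¹ * z * γ = MulAut.conj γ⁻¹ z := by
    intro z
    rw [MulAut.conj_apply, inv_inv]
  refine ⟨γ, fun x => ?_⟩
  constructor
  · intro hx
    obtain ⟨i, j, l, hxe⟩ := hall x hx
    refine ⟨A, hAv, i, j, l, ?_⟩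
    rw [hxe, ← hγt, ← hγa]
    simp only [hc, map_mul, map_pow, map_inv]
  · rintro ⟨A', hA'v, i, j, l, hxe⟩
    have hAA : A' = A := Units.ext (by rw [hA'v, hAv])
    rw [hAA] at hxe
    have hx : x = a ^ i * (t * a * t⁻¹) ^ j * t ^ l := by
      apply (MulAut.conj γ⁻¹).injective
      rw [← hc, hxe, ← hγt, ← hγa]
      simp only [hc, map_mul, map_pow, map_inv]
    rw [hx]
    exact H.mul_mem (H.mul_mem (H.pow_mem haH i)
      (H.pow_mem (H.mul_mem (H.mul_mem htH haH) (H.inv_mem htH)) j)) (H.pow_mem htH l)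

end Cfsg.Agent.Lib.Helper16.A4GL2
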