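import Cfsg.Agent.Lib.Helper16.FrakH2
import Cfsg.Agent.Lib.Helper16.Asym2
import Cfsg.Agent.Lib.Helper17.CharP3
import Cfsg.Agent.S0029
import Cfsg.Agent.S0012

set_option autoImplicit false

namespace Cfsg.Agent.Lib.Helper16.Asym5

open Cfsg Cfsg.Agent.Lib.Helper16.Basic Cfsg.Agent.Lib.Helper16.Residual
  Cfsg.Agent.Lib.Helper16.PReduced Cfsg.Agent.Lib.Helper16.PReduced2
  Cfsg.Agent.Lib.Helper16.PReduced3 Cfsg.Agent.Lib.Helper16.PReduced4
  Cfsg.Agent.Lib.Helper16.WeaklyClosed
  Cfsg.Agent.Lib.Helper16.PClosed Cfsg.Agent.Lib.Helper16.BasicProperty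
  Cfsg.Agent.Lib.Helper16.Asym Cfsg.Agent.Lib.Helper16.FrakH
  Cfsg.Agent.Lib.Helper17.CharP3
open scoped commutatorElement

variable {G : Type*} [Group G] [Finite G] {p : ℕ} [Fact p.Prime]

theorem le_pCoreOf_of_coprime_mem {Y L V Md : Subgroup G} (hYL : Y ≤ L) (hVp : IsPGroup p V)
    (hYV : Y ≤ V) (hMdV : Md ≤ Subgroup.normalizer (V : Set G))
    (hx : ∀ x ∈ (⨆ l : ↥L, Y.map (MulAut.conj (l : G)).toMonoidHom),
      (orderOf x).Coprime p → x ∈ Md) :
    Y ≤ pCoreOf p L := by
  classical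
  have hYp : IsPGroup p Y := hVp.to_le hYV
  obtain ⟨D, hD⟩ : ∃ D : Subgroup G, D = ⨆ l : ↥L, Y.map (MulAut.conj (l : G)).toMonoidHom :=
    ⟨_, rfl⟩
  rw [← hD] at hx
  have hLD : L ≤ Subgroup.normalizer (D : Set G) := by
    rw [hD]; exact iSup_conj_le_normalizer Y L
  have hYlD : ∀ l : ↥L, Y.map (MulAut.conj (l : G)).toMonoidHom ≤ D := by
    intro l
    rw [hD]
    exact le_iSup (fun l : ↥L => Y.map (MulAut.conj (l : G)).toMonoidHom) l
  have hYD : Y ≤ D := by
    have h1 := hYlD 1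
    rwa [Subgroup.coe_one, conj_one] at h1
  have hDL : D ≤ L := by
    rw [hD]
    apply iSup_le
    intro l z hz
    rw [mem_conj] at hz
    have hz' : z = l * ((l : G)⁻¹ * z * l) * (l : G)⁻¹ := by group
    rw [hz']
    exact L.mul_mem (L.mul_mem l.2 (hYL hz)) (L.inv_mem l.2)
  suffices hDp : IsPGroup p D from hYD.trans (le_pCoreOf hDL hLD hDp)
  have hRD : (pResidual p ↥D).map D.subtype ≤ D := pResidualOf_le D
  have hDR : D ≤ Subgroup.normalizer (((pResidual p ↥D).map D.subtype : Subgroup G) : Set G) :=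
    le_normalizer_residual D
  have hLR : L ≤ Subgroup.normalizer (((pResidual p ↥D).map D.subtype : Subgroup G) : Set G) :=
    hLD.trans (normalizer_le_normalizer_pResidualOf D)
  have hRMd : (pResidual p ↥D).map D.subtype ≤ Md := by
    rw [pResidualOf_eq_closure, Subgroup.closure_le]
    rintro x ⟨hxD, hxc⟩
    exact hx x hxD hxc
  obtain ⟨T⟩ : Nonempty (Sylow p ↥D) := inferInstance
  have hTR := sylow_sup_residual D T
  generalize (pResidual p ↥D).map D.subtype = R at *
  have hLE : L ≤ Subgroup.normalizer ((pCoreOf p R : Subgroup G) : Set G) :=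
    hLR.trans (Cfsg.Agent.Lib.Helper16.CharP.normalizer_le_normalizer_pCoreOf R)
  have hDE : D ≤ Subgroup.normalizer ((pCoreOf p R : Subgroup G) : Set G) := hDL.trans hLE
  have hRY : ⁅R, Y⁆ ≤ pCoreOf p R := by
    have h1 : ⁅R, Y⁆ ≤ V ⊓ R :=
      le_inf ((Subgroup.commutator_mono le_rfl hYV).trans
        (commutator_le_right_of_le_normalizer (hRMd.trans hMdV)))
        (commutator_le_left_of_le_normalizer (hYD.trans hDR))
    refine h1.trans (le_pCoreOf inf_le_right ?_ (hVp.to_le inf_le_left))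
    exact (le_inf (hRMd.trans hMdV) Subgroup.le_normalizer).trans
      (Cfsg.Agent.Lib.Helper16.CharP.inf_normalizer_le _ _)
  have hstab : D ≤ stab R (pCoreOf p R) := by
    conv_lhs => rw [hD]
    apply iSup_le
    intro l y hy
    refine ⟨hDE (hYlD l hy), fun u hu => ?_⟩
    have e1 := conj_commutator R Y (l : G)
    rw [(conj_eq_self_iff R (l : G)).2 (hLR l.2)] at e1
    have e2 := conj_mono (l : G) hRY
    rw [e1, (conj_eq_self_iff _ (l : G)).2 (hLE l.2)] at e2
    exact e2 (Subgroup.commutator_mem_commutator hu hy)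
  have hET : pCoreOf p R ≤ (T : Subgroup ↥D).map D.subtype :=
    (le_pCoreOf ((pCoreOf_le R).trans hRD) hDE pCoreOf_isPGroup).trans
      (Subgroup.map_mono (pCore_le_sylow T))
  have hTD : (T : Subgroup ↥D).map D.subtype ≤ D := Subgroup.map_subtype_le _
  have hDT : D ≤ Subgroup.normalizer (((T : Subgroup ↥D).map D.subtype : Subgroup G) : Set G) := by
    conv_lhs => rw [← hTR]
    apply sup_le Subgroup.le_normalizer
    intro r hr
    apply conj_eq_of_le
    intro z hz
    rw [mem_conj] at hz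
    have hz' : z = ⁅r, r⁻¹ * z * r⁆ * (r⁻¹ * z * r) := by
      rw [commutatorElement_def]; group
    rw [hz']
    exact Subgroup.mul_mem _ (hET ((hstab (hTD hz)).2 r hr)) hz
  have hTn : (T : Subgroup ↥D).Normal := by
    have hn := Subgroup.normal_subgroupOf_of_le_normalizer hDT
    have e : ((T : Subgroup ↥D).map D.subtype).subgroupOf D = T :=
      Subgroup.comap_map_eq_self_of_injective D.subtype_injective _
    rwa [e] at hn
  have hDle : D ≤ (T : Subgroup ↥D).map D.subtype := by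
    conv_lhs => rw [hD]
    apply iSup_le
    intro l
    obtain ⟨T₂, hT₂⟩ := exists_sylow_sub_ge (isPGroup_conj hYp (l : G)) (hYlD l)
    haveI := Sylow.unique_of_normal T hTn
    rw [Subsingleton.elim T₂ T] at hT₂
    exact hT₂
  exact (T.isPGroup'.map D.subtype).to_le hDle

theorem coprime_centralizes {A : Subgroup G} (hAp : IsPGroup p A) {x : G}
    (hxA : x ∈ Subgroup.normalizer (A : Set G)) (hxc : (orderOf x).Coprime p)
    (hx : x ∈ stab A ⁅A, A⁆) : x ∈ Subgroup.centralizer (A : Set G) := by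
  have hAfr : ⁅A, A⁆ ≤ (frattini ↥A).map A.subtype := by
    rw [← Subgroup.map_subtype_commutator]
    exact Subgroup.map_mono (Cfsg.Agent.S0012.result p hAp).1
  have hz : Subgroup.zpowers x ≤ stab A ⁅A, A⁆ := by
    rw [Subgroup.zpowers_le]; exact hx
  have hzN : Subgroup.zpowers x ≤ Subgroup.normalizer (A : Set G) := by
    rw [Subgroup.zpowers_le]; exact hxA
  have hcop : (Nat.card (Subgroup.zpowers x)).Coprime (Nat.card (frattini ↥A)) := by
    rw [Nat.card_zpowers]
    obtain ⟨n, hn⟩ := (IsPGroup.iff_card.1 (hAp.to_subgroup (frattini ↥A)))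
    rw [hn]
    exact Nat.Coprime.pow_right n hxc
  have h1 := Cfsg.Agent.S0029.result (Subgroup.zpowers x) A hzN hcop (by
    intro a ha k hk
    apply hAfr
    have h2 := (hz ha).2 k hk
    have h3 : a * k * a⁻¹ * k⁻¹ = ⁅k, a⁆⁻¹ := by
      rw [commutatorElement_def]; group
    rw [h3]
    exact Subgroup.inv_mem _ h2)
  exact h1 (Subgroup.mem_zpowers x)

end Cfsg.Agent.Lib.Helper16.Asym5
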