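import Cfsg.Agent.Lib.Helper16.FrakH

set_option autoImplicit false

namespace Cfsg.Agent.Lib.Helper16.FrakH

open Cfsg Cfsg.Agent.Lib.Helper16.Basic Cfsg.Agent.Lib.Helper16.Residual
  Cfsg.Agent.Lib.Helper16.PReduced Cfsg.Agent.Lib.Helper16.PReduced2
  Cfsg.Agent.Lib.Helper16.PReduced3 Cfsg.Agent.Lib.Helper16.PReduced4
  Cfsg.Agent.Lib.Helper16.WeaklyClosed
  Cfsg.Agent.Lib.Helper16.PClosed Cfsg.Agent.Lib.Helper16.BasicProperty
  Cfsg.Agent.Lib.Helper16.Kieler
open scoped commutatorElement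

variable {G : Type*} [Group G] {p : ℕ} [Finite G] [Fact p.Prime] {P Y H : Subgroup G}

theorem FH.normalizes (h : FH p P Y H) {Q₁ : Subgroup G}
    (hHQ : H ≤ Subgroup.normalizer (Q₁ : Set G)) (hQP : Q₁ ≤ Subgroup.normalizer (P : Set G)) :
    Q₁ ≤ Subgroup.normalizer (H : Set G) := by
  intro q hq
  apply conj_eq_of_le
  have hW : H ≤ ⨆ k : ↥H, P.map (MulAut.conj (k : G)).toMonoidHom := by
    conv_lhs => rw [← h.nc_P]
    apply nc_le_of _ (iSup_conj_le_normalizer P H)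
    refine le_trans ?_ (le_iSup _ (1 : ↥H))
    intro y hy
    exact ⟨y, hy, by simp⟩
  refine (conj_mono q hW).trans ?_
  rw [Subgroup.map_iSup]
  apply iSup_le
  intro k
  rw [conj_conj]
  have hq' : (k : G)⁻¹ * q * k ∈ Q₁ := by
    have h1 := (Subgroup.mem_normalizer_iff.1 (Subgroup.inv_mem _ (hHQ k.2)) q).1 hq
    rwa [inv_inv] at h1
  have e : q * (k : G) = k * ((k : G)⁻¹ * q * k) := by group
  rw [e, ← conj_conj, (conj_eq_self_iff P _).2 (hQP hq')]
  intro z hz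
  rw [mem_conj] at hz
  have hz' : z = k * ((k : G)⁻¹ * z * k) * (k : G)⁻¹ := by group
  rw [hz']
  exact H.mul_mem (H.mul_mem k.2 (h.sub hz)) (H.inv_mem k.2)

theorem FH.sup (h : FH p P Y H) {Q₁ : Subgroup G} (hQp : IsPGroup p Q₁)
    (hHQ : H ≤ Subgroup.normalizer (Q₁ : Set G)) (hQH : Q₁ ≤ Subgroup.normalizer (H : Set G)) :
    FH p (P ⊔ Q₁) Y (H ⊔ Q₁) := by
  refine ⟨IsPGroup.to_sup_of_normal_right' h.isPGroup hQp (h.sub.trans hHQ),
    h.le.trans le_sup_left, sup_le_sup_right h.sub _, ?_, ?_⟩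
  · intro hcon
    apply h.not_le
    exact (le_inf hcon (h.le.trans h.sub)).trans (pCoreOf_inf_le le_sup_left)
  · intro X hPX hlt
    have hXH : X ⊓ H < H := by
      apply lt_of_le_of_ne inf_le_right
      intro heq
      exact (not_le_of_gt hlt) (sup_le (inf_eq_right.1 heq) (le_sup_right.trans hPX))
    have h1 := h.min (X ⊓ H) (le_inf (le_sup_left.trans hPX) h.sub) hXH
    refine h1.trans (pCoreOf_le_of_normal inf_le_left ?_)
    have hXN : X ≤ Subgroup.normalizer (H : Set G) :=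
      hlt.le.trans (sup_le Subgroup.le_normalizer hQH)
    exact (le_inf Subgroup.le_normalizer hXN).trans
      (Cfsg.Agent.Lib.Helper16.CharP.inf_normalizer_le _ _)

theorem residual_sup_eq {H Q₁ : Subgroup G} (hQp : IsPGroup p Q₁)
    (hQH : Q₁ ≤ Subgroup.normalizer (H : Set G)) :
    (pResidual p ↥H).map H.subtype = (pResidual p ↥(H ⊔ Q₁)).map (H ⊔ Q₁).subtype := by
  apply le_antisymm (pResidualOf_mono le_sup_left)
  have h1 : (pResidual p ↥(H ⊔ Q₁)).map (H ⊔ Q₁).subtype ≤ H :=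
    residual_le_of_le_sup hQp hQH (by rw [sup_comm])
  have h2 := pResidualOf_mono (p := p) h1
  rwa [pResidualOf_idem] at h2

end Cfsg.Agent.Lib.Helper16.FrakH
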