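import Mathlib
import Cfsg.Agent.Lib.Helper16.Basic

set_option autoImplicit false

namespace Cfsg.Agent.Lib.Helper16.FrakL

open Cfsg.Agent.Lib.Helper16.Basic

variable {H : Type*} [Group H]

abbrev cjs (g : H) (Q : Subgroup H) : Subgroup H := Q.map (MulAut.conj g).toMonoidHom

theorem mem_cjs {g x : H} {Q : Subgroup H} : x ∈ cjs g Q ↔ g⁻¹ * x * g ∈ Q := mem_conj Q g x

theorem conj_mem_cjs {g x : H} {Q : Subgroup H} (hx : x ∈ Q) : g * x * g⁻¹ ∈ cjs g Q :=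
  conj_mem_conj Q g hx

theorem mem_normalizer_of {Q : Subgroup H} {x : H} (h1 : ∀ d ∈ Q, x * d * x⁻¹ ∈ Q)
    (h2 : ∀ d ∈ Q, x⁻¹ * d * x ∈ Q) : x ∈ Subgroup.normalizer (Q : Set H) := by
  rw [Subgroup.mem_normalizer_iff]
  intro d
  constructor
  · exact h1 d
  · intro h
    have := h2 _ h
    have e : x⁻¹ * (x * d * x⁻¹) * x = d := by group
    rwa [e] at this

/-- The abstract frak-L configuration inside the group `H` (playing the role of `L`). -/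
structure Setup (A Y C : Subgroup H) : Prop where
  An : ∀ x a, a ∈ A → x * a * x⁻¹ ∈ A
  Yc : ∀ y ∈ Y, ∀ y' ∈ Y, y * y' = y' * y
  AY : ∀ a ∈ A, ∀ y ∈ Y, a * y * a⁻¹ ∈ Y
  gen : ∀ K : Subgroup H, Y ≤ K → (∀ x, ∀ k ∈ K, x * k * x⁻¹ ∈ K) → ∀ z, z ∈ K
  max : ∀ K : Subgroup H, Y ≤ K → (∃ z, z ∉ K) → ∀ k ∈ K, ∀ y ∈ Y, k * y * k⁻¹ ∈ Y
  nn : ¬ ∀ x, ∀ y ∈ Y, x * y * x⁻¹ ∈ Y
  Acl : ∀ D : Subgroup H, (∀ d, d ∈ Y → d ∈ A → d ∈ D) → (∀ x, ∀ d ∈ D, x * d * x⁻¹ ∈ D) → A ≤ D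
  CY : C ≤ Y
  CA : C ≤ A
  CZ : ∀ c ∈ C, ∀ x, x * c = c * x
  Cmem : ∀ c ∈ Y, (∀ x, x * c = c * x) → c ∈ C

def GenPair (Y : Subgroup H) (g : H) : Prop :=
  ∀ K : Subgroup H, Y ≤ K → (∀ y ∈ Y, g * y * g⁻¹ ∈ K) → ∀ z, z ∈ K

namespace Setup

variable {A Y C : Subgroup H}

theorem conj (S : Setup A Y C) (g : H) : Setup A (cjs g Y) C where
  An := S.An
  Yc := by
    intro y hy y' hy'
    rw [mem_cjs] at hy hy'
    have := S.Yc _ hy _ hy'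
    calc y * y' = g * ((g⁻¹ * y * g) * (g⁻¹ * y' * g)) * g⁻¹ := by group
      _ = g * ((g⁻¹ * y' * g) * (g⁻¹ * y * g)) * g⁻¹ := by rw [this]
      _ = y' * y := by group
  AY := by
    intro a ha y hy
    rw [mem_cjs] at hy ⊢
    have ha' : g⁻¹ * a * g ∈ A := by simpa using S.An g⁻¹ a ha
    have := S.AY _ ha' _ hy
    have e : g⁻¹ * (a * y * a⁻¹) * g = g⁻¹ * a * g * (g⁻¹ * y * g) * (g⁻¹ * a * g)⁻¹ := by group
    rw [e]; exact this
  gen := by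
    intro K hK hn
    apply S.gen K _ hn
    intro y hy
    have h1 : g * y * g⁻¹ ∈ K := hK (conj_mem_cjs hy)
    have h2 := hn g⁻¹ _ h1
    have e : g⁻¹ * (g * y * g⁻¹) * g⁻¹⁻¹ = y := by group
    rwa [e] at h2
  max := by
    intro K hK hne k hk y hy
    rw [mem_cjs] at hy ⊢
    have hK' : Y ≤ cjs g⁻¹ K := by
      intro y0 hy0
      rw [mem_cjs]
      have := hK (conj_mem_cjs (g := g) hy0)
      simpa using this
    have hne' : ∃ z, z ∉ cjs g⁻¹ K := by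
      obtain ⟨z, hz⟩ := hne
      refine ⟨g⁻¹ * z * g, ?_⟩
      rw [mem_cjs]
      intro h
      apply hz
      have e : g⁻¹⁻¹ * (g⁻¹ * z * g) * g⁻¹ = z := by group
      rwa [e] at h
    have hk' : g⁻¹ * k * g ∈ cjs g⁻¹ K := by
      rw [mem_cjs]
      have e : g⁻¹⁻¹ * (g⁻¹ * k * g) * g⁻¹ = k := by group
      rw [e]; exact hk
    have := S.max _ hK' hne' _ hk' _ hy
    have e : g⁻¹ * (k * y * k⁻¹) * g = g⁻¹ * k * g * (g⁻¹ * y * g) * (g⁻¹ * k * g)⁻¹ := by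
      group
    rw [e]; exact this
  nn := by
    intro h
    apply S.nn
    intro x y hy
    have h1 := h (g * x * g⁻¹) (g * y * g⁻¹) (conj_mem_cjs hy)
    rw [mem_cjs] at h1
    have e : g⁻¹ * (g * x * g⁻¹ * (g * y * g⁻¹) * (g * x * g⁻¹)⁻¹) * g = x * y * x⁻¹ := by
      group
    rwa [e] at h1
  Acl := by
    intro D hD hn
    apply S.Acl D _ hn
    intro d hdY hdA
    have h1 : g * d * g⁻¹ ∈ D := hD _ (conj_mem_cjs hdY) (S.An g d hdA)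
    have h2 := hn g⁻¹ _ h1
    have e : g⁻¹ * (g * d * g⁻¹) * g⁻¹⁻¹ = d := by group
    rwa [e] at h2
  CY := by
    intro c hc
    rw [mem_cjs]
    have h1 := S.CZ c hc g
    have e : g⁻¹ * c * g = c := by rw [mul_assoc, ← h1]; group
    rw [e]; exact S.CY hc
  CA := S.CA
  CZ := S.CZ
  Cmem := by
    intro c hc hz
    rw [mem_cjs] at hc
    have e : g⁻¹ * c * g = c := by rw [mul_assoc, ← hz g]; group
    rw [e] at hc
    exact S.Cmem c hc hz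

theorem comm_mem_Y (S : Setup A Y C) {y a : H} (hy : y ∈ Y) (ha : a ∈ A) :
    y * a * y⁻¹ * a⁻¹ ∈ Y := by
  have h1 : a * y⁻¹ * a⁻¹ ∈ Y := S.AY a ha _ (Y.inv_mem hy)
  have e : y * a * y⁻¹ * a⁻¹ = y * (a * y⁻¹ * a⁻¹) := by group
  rw [e]; exact Y.mul_mem hy h1

theorem comm_mem_A (S : Setup A Y C) (x : H) {a : H} (ha : a ∈ A) : x * a * x⁻¹ * a⁻¹ ∈ A :=
  A.mul_mem (S.An x a ha) (A.inv_mem ha)

theorem not_le_A (S : Setup A Y C) : ¬ Y ≤ A := by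
  intro h
  have h1 := S.gen A h (fun x k hk => S.An x k hk)
  apply S.nn
  intro x y hy
  exact S.AY x (h1 x) y hy

theorem genPair_of_not (S : Setup A Y C) {g : H}
    (hg : ¬ ∀ y ∈ Y, ∀ y' ∈ Y, (g * y * g⁻¹) * y' * (g * y * g⁻¹)⁻¹ ∈ Y) : GenPair Y g := by
  intro K hK hgK
  by_contra hne
  push_neg at hne
  apply hg
  intro y hy y' hy'
  exact S.max K hK hne _ (hgK y hy) y' hy'

theorem exists_genPair (S : Setup A Y C) : ∃ g, GenPair Y g := by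
  by_contra hcon
  push_neg at hcon
  have h1 : ∀ g, ∀ y ∈ Y, ∀ y' ∈ Y, (g * y * g⁻¹) * y' * (g * y * g⁻¹)⁻¹ ∈ Y := by
    intro g
    by_contra h
    exact hcon g (S.genPair_of_not h)
  have h2 : ∀ g, ∀ y ∈ Y, g * y * g⁻¹ ∈ Subgroup.normalizer (Y : Set H) := by
    intro g y hy
    apply mem_normalizer_of
    · intro d hd; exact h1 g y hy d hd
    · intro d hd
      have := h1 g y⁻¹ (Y.inv_mem hy) d hd
      have e : g * y⁻¹ * g⁻¹ * d * (g * y⁻¹ * g⁻¹)⁻¹ = (g * y * g⁻¹)⁻¹ * d * (g * y * g⁻¹) := by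
        group
      rwa [e] at this
  obtain ⟨K, hKdef⟩ : ∃ K : Subgroup H,
      K = Subgroup.closure {z | ∃ g, ∃ y ∈ Y, z = g * y * g⁻¹} := ⟨_, rfl⟩
  have hYK : Y ≤ K := by
    intro y hy
    rw [hKdef]
    apply Subgroup.subset_closure
    exact ⟨1, y, hy, by group⟩
  have hKN : K ≤ Subgroup.normalizer (Y : Set H) := by
    rw [hKdef, Subgroup.closure_le]
    rintro z ⟨g, y, hy, rfl⟩
    exact h2 g y hy
  have hKn : ∀ x, ∀ k ∈ K, x * k * x⁻¹ ∈ K := by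
    intro x k hk
    rw [hKdef] at hk ⊢
    induction hk using Subgroup.closure_induction with
    | mem z hz =>
      obtain ⟨g, y, hy, rfl⟩ := hz
      apply Subgroup.subset_closure
      exact ⟨x * g, y, hy, by group⟩
    | one =>
      have e : x * 1 * x⁻¹ = 1 := by group
      rw [e]; exact Subgroup.one_mem _
    | mul a b _ _ iha ihb =>
      have e : x * (a * b) * x⁻¹ = (x * a * x⁻¹) * (x * b * x⁻¹) := by group
      rw [e]; exact Subgroup.mul_mem _ iha ihb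
    | inv a _ iha =>
      have e : x * a⁻¹ * x⁻¹ = (x * a * x⁻¹)⁻¹ := by group
      rw [e]; exact Subgroup.inv_mem _ iha
  have h3 := S.gen K hYK hKn
  apply S.nn
  intro x y hy
  exact (Subgroup.mem_normalizer_iff.1 (hKN (h3 x)) y).1 hy

theorem exists_mul (S : Setup A Y C) {g : H} (hg : GenPair Y g) :
    ∀ a ∈ A, ∃ b b', b ∈ Y ∧ b ∈ A ∧ b' ∈ cjs g Y ∧ b' ∈ A ∧ a = b * b' := by
  have S' := S.conj g
  obtain ⟨D, hD⟩ : ∃ D : Subgroup H, ∀ a, a ∈ D ↔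
      ∃ b b', b ∈ Y ∧ b ∈ A ∧ b' ∈ cjs g Y ∧ b' ∈ A ∧ a = b * b' := by
    refine ⟨{ carrier := {a | ∃ b b', b ∈ Y ∧ b ∈ A ∧ b' ∈ cjs g Y ∧ b' ∈ A ∧ a = b * b'}
              mul_mem' := ?_
              one_mem' := ⟨1, 1, Y.one_mem, A.one_mem, (cjs g Y).one_mem, A.one_mem, by simp⟩
              inv_mem' := ?_ }, fun a => Iff.rfl⟩
    · rintro _ _ ⟨b₁, b₁', h1, h2, h3, h4, rfl⟩ ⟨b₂, b₂', h5, h6, h7, h8, rfl⟩
      exact ⟨b₁ * (b₁' * b₂ * b₁'⁻¹), b₁' * b₂', Y.mul_mem h1 (S.AY _ h4 _ h5),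
        A.mul_mem h2 (S.An _ _ h6), (cjs g Y).mul_mem h3 h7, A.mul_mem h4 h8, by group⟩
    · rintro _ ⟨b, b', h1, h2, h3, h4, rfl⟩
      refine ⟨b'⁻¹ * b⁻¹ * b', b'⁻¹, ?_, ?_, (cjs g Y).inv_mem h3, A.inv_mem h4, by group⟩
      · have := S.AY _ (A.inv_mem h4) _ (Y.inv_mem h1)
        simpa using this
      · have := S.An b'⁻¹ _ (A.inv_mem h2)
        simpa using this
  have hYD : ∀ y ∈ Y, ∀ d ∈ D, y * d * y⁻¹ ∈ D := by
    intro y hy d hd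
    rw [hD] at hd ⊢
    obtain ⟨b, b', h1, h2, h3, h4, rfl⟩ := hd
    refine ⟨b * (y * b' * y⁻¹ * b'⁻¹), b', Y.mul_mem h1 (S.comm_mem_Y hy h4),
      A.mul_mem h2 (S.comm_mem_A y h4), h3, h4, ?_⟩
    have := S.Yc y hy b h1
    calc y * (b * b') * y⁻¹ = (y * b) * b' * y⁻¹ := by group
      _ = (b * y) * b' * y⁻¹ := by rw [this]
      _ = b * (y * b' * y⁻¹ * b'⁻¹) * b' := by group
  have hY'D : ∀ y' ∈ cjs g Y, ∀ d ∈ D, y' * d * y'⁻¹ ∈ D := by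
    intro y' hy' d hd
    rw [hD] at hd ⊢
    obtain ⟨b, b', h1, h2, h3, h4, rfl⟩ := hd
    have hc1 : y' * b * y'⁻¹ * b⁻¹ ∈ cjs g Y := S'.comm_mem_Y hy' h2
    have hc2 : y' * b * y'⁻¹ * b⁻¹ ∈ A := S.comm_mem_A y' h2
    have hc3 : b⁻¹ * (y' * b * y'⁻¹ * b⁻¹) * b ∈ cjs g Y := by
      have := S'.AY b⁻¹ (A.inv_mem h2) _ hc1
      simpa using this
    have hc4 : b⁻¹ * (y' * b * y'⁻¹ * b⁻¹) * b ∈ A := by
      have := S.An b⁻¹ _ hc2
      simpa using this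
    refine ⟨b, b⁻¹ * (y' * b * y'⁻¹ * b⁻¹) * b * b', h1, h2, (cjs g Y).mul_mem hc3 h3,
      A.mul_mem hc4 h4, ?_⟩
    have hc := S'.Yc y' hy' b' h3
    calc y' * (b * b') * y'⁻¹ = y' * b * y'⁻¹ * (y' * b') * y'⁻¹ := by group
      _ = y' * b * y'⁻¹ * (b' * y') * y'⁻¹ := by rw [hc]
      _ = b * (b⁻¹ * (y' * b * y'⁻¹ * b⁻¹) * b * b') := by group
  have hN : ∀ z, z ∈ Subgroup.normalizer (D : Set H) := by
    apply hg
    · intro y hy
      apply mem_normalizer_of (hYD y hy)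
      intro d hd
      have := hYD y⁻¹ (Y.inv_mem hy) d hd
      simpa using this
    · intro y hy
      have hy' : g * y * g⁻¹ ∈ cjs g Y := conj_mem_cjs hy
      apply mem_normalizer_of (hY'D _ hy')
      intro d hd
      have := hY'D _ ((cjs g Y).inv_mem hy') d hd
      simpa using this
  have hAD : A ≤ D := by
    apply S.Acl
    · intro d hdY hdA
      rw [hD]
      exact ⟨d, 1, hdY, hdA, (cjs g Y).one_mem, A.one_mem, by simp⟩
    · intro x d hd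
      exact (Subgroup.mem_normalizer_iff.1 (hN x) d).1 hd
  intro a ha
  exact (hD a).1 (hAD ha)

theorem inter_mem (S : Setup A Y C) {g : H} (hg : GenPair Y g) {b : H} (h1 : b ∈ Y)
    (h2 : b ∈ cjs g Y) : b ∈ C := by
  apply S.Cmem b h1
  have S' := S.conj g
  have h3 : ∀ z, z ∈ Subgroup.centralizer ({b} : Set H) := by
    apply hg
    · intro y hy
      rw [Subgroup.mem_centralizer_iff]
      intro h hh
      rw [Set.mem_singleton_iff.1 hh]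
      exact S.Yc _ h1 _ hy
    · intro y hy
      rw [Subgroup.mem_centralizer_iff]
      intro h hh
      rw [Set.mem_singleton_iff.1 hh]
      exact S'.Yc _ h2 _ (conj_mem_cjs hy)
  intro x
  have := h3 x
  rw [Subgroup.mem_centralizer_iff] at this
  exact (this b rfl).symm

/-- `{x | [x, a] ∈ C}` as a subgroup. -/
def cm (S : Setup A Y C) (a : H) : Subgroup H where
  carrier := {x | x * a * x⁻¹ * a⁻¹ ∈ C}
  one_mem' := by
    show 1 * a * 1⁻¹ * a⁻¹ ∈ C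
    have e : 1 * a * 1⁻¹ * a⁻¹ = 1 := by group
    rw [e]; exact C.one_mem
  mul_mem' := by
    intro x x' hx hx'
    have hc := S.CZ _ hx' x
    have e : x * x' * a * (x * x')⁻¹ * a⁻¹ = (x' * a * x'⁻¹ * a⁻¹) * (x * a * x⁻¹ * a⁻¹) := by
      calc x * x' * a * (x * x')⁻¹ * a⁻¹ = x * (x' * a * x'⁻¹ * a⁻¹) * a * x⁻¹ * a⁻¹ := by group
        _ = (x' * a * x'⁻¹ * a⁻¹) * x * a * x⁻¹ * a⁻¹ := by rw [hc]
        _ = _ := by group
    show x * x' * a * (x * x')⁻¹ * a⁻¹ ∈ C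
    rw [e]; exact C.mul_mem hx' hx
  inv_mem' := by
    intro x hx
    have hc' := S.CZ _ (C.inv_mem hx) x⁻¹
    have e : x⁻¹ * a * x⁻¹⁻¹ * a⁻¹ = (x * a * x⁻¹ * a⁻¹)⁻¹ := by
      calc x⁻¹ * a * x⁻¹⁻¹ * a⁻¹ = x⁻¹ * (x * a * x⁻¹ * a⁻¹)⁻¹ * x := by group
        _ = (x * a * x⁻¹ * a⁻¹)⁻¹ * x⁻¹ * x := by rw [hc']
        _ = _ := by group
    show x⁻¹ * a * x⁻¹⁻¹ * a⁻¹ ∈ C
    rw [e]; exact C.inv_mem hx

theorem mem_cm (S : Setup A Y C) {a x : H} : x ∈ S.cm a ↔ x * a * x⁻¹ * a⁻¹ ∈ C := Iff.rfl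

theorem cm_symm (S : Setup A Y C) {a x : H} (h : x ∈ S.cm a) : a ∈ S.cm x := by
  rw [mem_cm] at h ⊢
  have e : a * x * a⁻¹ * x⁻¹ = (x * a * x⁻¹ * a⁻¹)⁻¹ := by group
  rw [e]; exact C.inv_mem h

theorem comm_YY' (S : Setup A Y C) {g : H} (hg : GenPair Y g) {b b' : H} (hb : b ∈ Y)
    (hbA : b ∈ A) (hb' : b' ∈ cjs g Y) (hb'A : b' ∈ A) : b * b' * b⁻¹ * b'⁻¹ ∈ C := by
  have S' := S.conj g
  apply S.inter_mem hg
  · have := S.AY b' hb'A _ (Y.inv_mem hb)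
    have e : b * b' * b⁻¹ * b'⁻¹ = b * (b' * b⁻¹ * b'⁻¹) := by group
    rw [e]; exact Y.mul_mem hb this
  · have := S'.AY b hbA _ hb'
    exact (cjs g Y).mul_mem this ((cjs g Y).inv_mem hb')

theorem comm_C (S : Setup A Y C) : ∀ a ∈ A, ∀ a' ∈ A, a * a' * a⁻¹ * a'⁻¹ ∈ C := by
  obtain ⟨g, hg⟩ := S.exists_genPair
  have S' := S.conj g
  have key : ∀ a' ∈ A, (∀ b ∈ Y, b ∈ A → b ∈ S.cm a') →
      (∀ b' ∈ cjs g Y, b' ∈ A → b' ∈ S.cm a') → ∀ a ∈ A, a ∈ S.cm a' := by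
    intro a' _ h1 h2 a ha
    obtain ⟨b, b', hb, hbA, hb', hb'A, rfl⟩ := S.exists_mul hg a ha
    exact (S.cm a').mul_mem (h1 b hb hbA) (h2 b' hb' hb'A)
  have h1 : ∀ a' ∈ Y, a' ∈ A → ∀ a ∈ A, a ∈ S.cm a' := by
    intro a' ha'Y ha'A
    apply key a' ha'A
    · intro b hb _
      show b * a' * b⁻¹ * a'⁻¹ ∈ C
      rw [S.Yc b hb a' ha'Y]
      have : a' * b * b⁻¹ * a'⁻¹ = 1 := by group
      rw [this]; exact C.one_mem
    · intro b' hb' hb'A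
      have := S.comm_YY' hg ha'Y ha'A hb' hb'A
      have e : b' * a' * b'⁻¹ * a'⁻¹ = (a' * b' * a'⁻¹ * b'⁻¹)⁻¹ := by group
      show b' * a' * b'⁻¹ * a'⁻¹ ∈ C
      rw [e]; exact C.inv_mem this
  have h2 : ∀ a' ∈ cjs g Y, a' ∈ A → ∀ a ∈ A, a ∈ S.cm a' := by
    intro a' ha'Y ha'A
    apply key a' ha'A
    · intro b hb hbA
      exact S.comm_YY' hg hb hbA ha'Y ha'A
    · intro b' hb' _
      show b' * a' * b'⁻¹ * a'⁻¹ ∈ C
      rw [S'.Yc b' hb' a' ha'Y]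
      have : a' * b' * b'⁻¹ * a'⁻¹ = 1 := by group
      rw [this]; exact C.one_mem
  intro a ha a' ha'
  have h3 : a' ∈ S.cm a := by
    apply key a ha _ _ a' ha'
    · intro b hb hbA
      exact S.cm_symm (h1 b hb hbA a ha)
    · intro b' hb' hb'A
      exact S.cm_symm (h2 b' hb' hb'A a ha)
  exact S.cm_symm h3

theorem central_of_forall (S : Setup A Y C) (g : H) {b' : H} (hb' : b' ∈ cjs g Y)
    (hall : ∀ x, x * b' * x⁻¹ * b'⁻¹ ∈ C) : b' ∈ C := by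
  have S' := S.conj g
  have hK : ∀ z, z ∈ Subgroup.centralizer ({b'} : Set H) := by
    apply S'.gen
    · intro y hy
      rw [Subgroup.mem_centralizer_iff]
      intro h hh
      rw [Set.mem_singleton_iff.1 hh]
      exact S'.Yc _ hb' _ hy
    · intro x k hk
      rw [Subgroup.mem_centralizer_iff] at hk ⊢
      intro h hh
      rw [Set.mem_singleton_iff.1 hh]
      have hk' : b' * k = k * b' := hk b' rfl
      have hc := hall x⁻¹
      obtain ⟨c, hcdef⟩ : ∃ c, c = x⁻¹ * b' * x⁻¹⁻¹ * b'⁻¹ := ⟨_, rfl⟩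
      rw [← hcdef] at hc
      have e1 : x⁻¹ * b' * x = c * b' := by rw [hcdef]; group
      have hck := S.CZ c hc k
      calc b' * (x * k * x⁻¹) = x * (x⁻¹ * b' * x) * k * x⁻¹ := by group
        _ = x * (c * b') * k * x⁻¹ := by rw [e1]
        _ = x * c * (b' * k) * x⁻¹ := by group
        _ = x * c * (k * b') * x⁻¹ := by rw [hk']
        _ = x * (c * k) * b' * x⁻¹ := by group
        _ = x * (k * c) * b' * x⁻¹ := by rw [hck]
        _ = x * k * (c * b') * x⁻¹ := by group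
        _ = x * k * (x⁻¹ * b' * x) * x⁻¹ := by rw [e1]
        _ = x * k * x⁻¹ * b' := by group
  have hz : ∀ x, x * b' = b' * x := by
    intro x
    have := hK x
    rw [Subgroup.mem_centralizer_iff] at this
    exact (this b' rfl).symm
  exact S'.Cmem b' hb' hz

theorem fix_mem (S : Setup A Y C) {g : H} (hg : GenPair Y g) {b' : H} (hb' : b' ∈ cjs g Y)
    (hfix : ∀ y ∈ Y, y * b' * y⁻¹ * b'⁻¹ ∈ C) : b' ∈ C := by
  apply S.central_of_forall g hb'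
  have S' := S.conj g
  exact hg (S.cm b') (fun y hy => hfix y hy) (fun y hy => by
    show g * y * g⁻¹ * b' * (g * y * g⁻¹)⁻¹ * b'⁻¹ ∈ C
    rw [S'.Yc _ (conj_mem_cjs hy) _ hb']
    have : b' * (g * y * g⁻¹) * (g * y * g⁻¹)⁻¹ * b'⁻¹ = 1 := by group
    rw [this]; exact C.one_mem)

theorem comm_split (S : Setup A Y C) {y b b' : H} (hyb : y * b = b * y)
    (h1 : y * (b * b') * y⁻¹ * (b * b')⁻¹ ∈ C) : y * b' * y⁻¹ * b'⁻¹ ∈ C := by
  have e : y * (b * b') * y⁻¹ * (b * b')⁻¹ = b * (y * b' * y⁻¹ * b'⁻¹) * b⁻¹ := by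
    calc y * (b * b') * y⁻¹ * (b * b')⁻¹ = (y * b) * b' * y⁻¹ * b'⁻¹ * b⁻¹ := by group
      _ = (b * y) * b' * y⁻¹ * b'⁻¹ * b⁻¹ := by rw [hyb]
      _ = _ := by group
  rw [e] at h1
  have h2 := S.CZ _ h1 b⁻¹
  have e2 : y * b' * y⁻¹ * b'⁻¹ = b⁻¹ * (b * (y * b' * y⁻¹ * b'⁻¹) * b⁻¹) * b := by group
  rw [e2, h2]
  have e3 : b * (y * b' * y⁻¹ * b'⁻¹) * b⁻¹ * b⁻¹ * b = b * (y * b' * y⁻¹ * b'⁻¹) * b⁻¹ := by
    group
  rw [e3]; exact h1

theorem fix_Y (S : Setup A Y C) {a : H} (ha : a ∈ A)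
    (hfix : ∀ y ∈ Y, y * a * y⁻¹ * a⁻¹ ∈ C) : a ∈ Y := by
  obtain ⟨g, hg⟩ := S.exists_genPair
  obtain ⟨b, b', hb, hbA, hb', hb'A, rfl⟩ := S.exists_mul hg a ha
  have : b' ∈ C := by
    apply S.fix_mem hg hb'
    intro y hy
    exact S.comm_split (S.Yc y hy b hb) (hfix y hy)
  exact Y.mul_mem hb (S.CY this)

theorem sq_mem_C (S : Setup A Y C) (hY2 : ∀ y ∈ Y, y * y = 1) : ∀ a ∈ A, a * a ∈ C := by
  obtain ⟨g, hg⟩ := S.exists_genPair
  intro a ha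
  obtain ⟨b, b', hb, hbA, hb', hb'A, rfl⟩ := S.exists_mul hg a ha
  have h1 := S.comm_C b hbA b' hb'A
  have hb2 := hY2 b hb
  have hb'2 : b' * b' = 1 := by
    rw [mem_cjs] at hb'
    have := hY2 _ hb'
    calc b' * b' = g * ((g⁻¹ * b' * g) * (g⁻¹ * b' * g)) * g⁻¹ := by group
      _ = 1 := by rw [this]; group
  have e : b * b' * (b * b') = (b * b' * b⁻¹ * b'⁻¹) * (b' * (b * b) * b') := by group
  rw [e, hb2, mul_one, hb'2, mul_one]
  exact h1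

end Setup

end Cfsg.Agent.Lib.Helper16.FrakL
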