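import Mathlib
import Cfsg.Agent.Lib.Helper16.FrakL1

set_option autoImplicit false

namespace Cfsg.Agent.Lib.Helper16.FrakL

open Cfsg.Agent.Lib.Helper16.Basic

variable {H : Type*} [Group H] {A Y C : Subgroup H} {X : Type*} [Group X]

theorem map_cjs (π : H →* X) (g : H) (Q : Subgroup H) :
    (cjs g Q).map π = cjs (π g) (Q.map π) := by
  ext z
  constructor
  · rintro ⟨w, hw, rfl⟩
    have hw' := mem_cjs.1 hw
    apply mem_cjs.2
    exact ⟨g⁻¹ * w * g, hw', by simp⟩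
  · intro hz
    obtain ⟨w, hw, hwz⟩ := mem_cjs.1 hz
    refine ⟨g * w * g⁻¹, conj_mem_cjs hw, ?_⟩
    rw [map_mul, map_mul, map_inv, hwz]; group

def R1 (E : Subgroup X) : Prop :=
  ∀ x t : X, t ∈ E → t ≠ 1 → x * t * x⁻¹ ∈ Subgroup.normalizer (E : Set X) →
    x ∈ Subgroup.normalizer (E : Set X)

def R2 (E : Subgroup X) : Prop :=
  ∀ h : X, h ≠ 1 → Odd (orderOf h) → ∃ x t : X, t ∈ E ∧ t ≠ 1 ∧
    (x * t * x⁻¹) * h * (x * t * x⁻¹)⁻¹ ∈ Subgroup.zpowers h ∧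
    (x * t * x⁻¹) * h * (x * t * x⁻¹)⁻¹ ≠ h

theorem R1.conj {E : Subgroup X} (h : R1 E) (z : X) : R1 (cjs z E) := by
  intro x t ht ht1 hx
  rw [mem_cjs] at ht
  rw [normalizer_conj, mem_conj] at hx ⊢
  refine h (z⁻¹ * x * z) (z⁻¹ * t * z) ht ?_ ?_
  · intro h0
    apply ht1
    have : t = z * (z⁻¹ * t * z) * z⁻¹ := by group
    rw [this, h0]; group
  · have e : z⁻¹ * x * z * (z⁻¹ * t * z) * (z⁻¹ * x * z)⁻¹ = z⁻¹ * (x * t * x⁻¹) * z := by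
      group
    rw [e]; exact hx

theorem genPair_of_R1 (S : Setup A Y C) (π : H →* X) (hker : π.ker = A)
    (hR : R1 (Y.map π)) {x : H}
    (hx : π x ∉ Subgroup.normalizer ((Y.map π : Subgroup X) : Set X)) : GenPair Y x := by
  apply S.genPair_of_not
  intro hcon
  obtain ⟨y₀, hy₀, hy₀A⟩ : ∃ y₀ ∈ Y, y₀ ∉ A := by
    by_contra h; push_neg at h; exact S.not_le_A h
  apply hx
  apply hR (π x) (π y₀) ⟨y₀, hy₀, rfl⟩
  · intro h1
    apply hy₀A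
    rw [← hker]; exact (MonoidHom.mem_ker).2 h1
  · have hn : x * y₀ * x⁻¹ ∈ Subgroup.normalizer (Y : Set H) := by
      apply mem_normalizer_of
      · intro d hd; exact hcon y₀ hy₀ d hd
      · intro d hd
        have := hcon y₀⁻¹ (Y.inv_mem hy₀) d hd
        have e : x * y₀⁻¹ * x⁻¹ * d * (x * y₀⁻¹ * x⁻¹)⁻¹
            = (x * y₀ * x⁻¹)⁻¹ * d * (x * y₀ * x⁻¹) := by group
        rwa [e] at this
    have := Subgroup.le_normalizer_map π (Subgroup.mem_map_of_mem π hn)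
    simpa using this

theorem exists_not_norm (S : Setup A Y C) (π : H →* X) (hker : π.ker = A) :
    ∃ x, π x ∉ Subgroup.normalizer ((Y.map π : Subgroup X) : Set X) := by
  by_contra hcon; push_neg at hcon
  have h1 := S.gen ((Y.map π).comap π)
    (fun y hy => Subgroup.mem_comap.2 (Subgroup.mem_map_of_mem π hy)) (by
    intro x k hk
    rw [Subgroup.mem_comap] at hk ⊢
    rw [map_mul, map_mul, map_inv]
    exact (Subgroup.mem_normalizer_iff.1 (hcon x) _).1 hk)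
  apply S.nn
  intro x y hy
  have := h1 x
  rw [Subgroup.mem_comap] at this
  obtain ⟨y₁, hy₁, h2⟩ := this
  have ha : y₁⁻¹ * x ∈ A := by
    rw [← hker, MonoidHom.mem_ker, map_mul, map_inv, h2]; group
  have h3 := S.AY _ ha y hy
  have h4 := Y.mul_mem (Y.mul_mem hy₁ h3) (Y.inv_mem hy₁)
  have e : y₁ * (y₁⁻¹ * x * y * (y₁⁻¹ * x)⁻¹) * y₁⁻¹ = x * y * x⁻¹ := by group
  rwa [e] at h4

theorem fix_Y_of_R1 (S : Setup A Y C) (π : H →* X) (hker : π.ker = A) (hR : R1 (Y.map π))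
    {t a : H} (ht : t ∈ Y) (htA : t ∉ A) (ha : a ∈ A) (hfix : t * a * t⁻¹ * a⁻¹ ∈ C) :
    a ∈ Y := by
  obtain ⟨g, hg⟩ := S.exists_genPair
  have S' := S.conj g
  obtain ⟨b, b', hb, hbA, hb', hb'A, rfl⟩ := S.exists_mul hg a ha
  have hfix' : t * b' * t⁻¹ * b'⁻¹ ∈ C := S.comm_split (S.Yc t ht b hb) hfix
  have hb'C : b' ∈ C := by
    apply S.central_of_forall g hb'
    have hR' : R1 ((cjs g Y).map π) := by rw [map_cjs]; exact hR.conj (π g)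
    have hgp : GenPair (cjs g Y) t := by
      apply genPair_of_R1 S' π hker hR'
      intro hn
      rw [map_cjs] at hn
      have h1 : (π g)⁻¹ ∈ Subgroup.normalizer ((cjs (π g) (Y.map π) : Subgroup X) : Set X) := by
        apply (hR.conj (π g)) (π g)⁻¹ (π g * π t * (π g)⁻¹) (conj_mem_cjs ⟨t, ht, rfl⟩)
        · intro h0
          apply htA
          rw [← hker, MonoidHom.mem_ker]
          have : π t = (π g)⁻¹ * (π g * π t * (π g)⁻¹) * π g := by group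
          rw [this, h0]; group
        · have e : (π g)⁻¹ * (π g * π t * (π g)⁻¹) * (π g)⁻¹⁻¹ = π t := by group
          rw [e]; exact hn
      have h2 : π g ∈ Subgroup.normalizer ((Y.map π : Subgroup X) : Set X) := by
        have h3 := Subgroup.inv_mem _ h1
        rw [inv_inv, normalizer_conj, mem_conj] at h3
        have e : (π g)⁻¹ * π g * π g = π g := by group
        rwa [e] at h3
      obtain ⟨x, hx⟩ := exists_not_norm S π hker
      apply hx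
      refine hg ((Subgroup.normalizer ((Y.map π : Subgroup X) : Set X)).comap π) ?_ ?_ x
      · intro y hy
        exact Subgroup.mem_comap.2 (Subgroup.le_normalizer (Subgroup.mem_map_of_mem π hy))
      · intro y hy
        rw [Subgroup.mem_comap, map_mul, map_mul, map_inv]
        exact Subgroup.mul_mem _ (Subgroup.mul_mem _ h2
          (Subgroup.le_normalizer (Subgroup.mem_map_of_mem π hy))) (Subgroup.inv_mem _ h2)
    have hy'cm : ∀ y' ∈ cjs g Y, y' ∈ S.cm b' := by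
      intro y' hy'
      show y' * b' * y'⁻¹ * b'⁻¹ ∈ C
      rw [S'.Yc y' hy' b' hb']
      have : b' * y' * y'⁻¹ * b'⁻¹ = 1 := by group
      rw [this]; exact C.one_mem
    refine hgp (S.cm b') hy'cm ?_
    intro y' hy'
    have h1 : t ∈ S.cm b' := hfix'
    exact (S.cm b').mul_mem ((S.cm b').mul_mem h1 (hy'cm y' hy')) ((S.cm b').inv_mem h1)
  exact Y.mul_mem hb (S.CY hb'C)

theorem fpf_of_R [Finite H] (S : Setup A Y C) (hA2 : IsPGroup 2 A) (hY2 : ∀ y ∈ Y, y * y = 1)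
    (π : H →* X) (hπ : Function.Surjective π) (hker : π.ker = A) (hR1 : R1 (Y.map π))
    (hR2 : R2 (Y.map π))
    (h : H) (hnp : ¬ ∃ k : ℕ, orderOf h = 2 ^ k) (a : H) (ha : a ∈ A)
    (hfix : h * a * h⁻¹ * a⁻¹ ∈ C) : a ∈ C := by
  by_contra haC
  have hord : orderOf h ≠ 0 := (orderOf_pos h).ne'
  obtain ⟨k, m, hm, hkm⟩ := Nat.exists_eq_two_pow_mul_odd hord
  obtain ⟨h', hh'⟩ : ∃ h', h' = h ^ (2 ^ k) := ⟨_, rfl⟩
  have hord' : orderOf h' = m := by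
    rw [hh', orderOf_pow_of_dvd (by positivity) (by rw [hkm]; exact dvd_mul_right _ _), hkm]
    exact Nat.mul_div_cancel_left m (by positivity)
  have hm1 : m ≠ 1 := by rintro rfl; exact hnp ⟨k, by rw [hkm, mul_one]⟩
  have hfix' : h' ∈ S.cm a := by rw [hh']; exact (S.cm a).pow_mem hfix _
  have hπh1 : π h' ≠ 1 := by
    intro h0
    have hA' : h' ∈ A := by rw [← hker]; exact MonoidHom.mem_ker.2 h0
    obtain ⟨j, hj⟩ := hA2 ⟨h', hA'⟩
    have hj' : h' ^ 2 ^ j = 1 := by simpa using congrArg Subtype.val hj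
    have hdvd : m ∣ 2 ^ j := by rw [← hord']; exact orderOf_dvd_of_pow_eq_one hj'
    have hcop : Nat.Coprime m (2 ^ j) := Nat.Coprime.pow_right j (Nat.coprime_two_right.2 hm)
    exact hm1 (Nat.Coprime.eq_one_of_dvd hcop hdvd)
  have hodd : Odd (orderOf (π h')) := by
    have : orderOf (π h') ∣ m := by rw [← hord']; exact orderOf_map_dvd π h'
    exact Odd.of_dvd_nat hm this
  obtain ⟨xb, tb, htbE, htb1, hτ1, hτ2⟩ := hR2 (π h') hπh1 hodd
  obtain ⟨x, rfl⟩ := hπ xb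
  obtain ⟨t, htY, rfl⟩ := htbE
  have htA : t ∉ A := by
    intro h0; apply htb1; rw [← hker] at h0; exact MonoidHom.mem_ker.1 h0
  have S' := S.conj x
  obtain ⟨t', ht'def⟩ : ∃ t', t' = x * t * x⁻¹ := ⟨_, rfl⟩
  have ht'Y : t' ∈ cjs x Y := by rw [ht'def]; exact conj_mem_cjs htY
  have ht'A : t' ∉ A := by
    intro h0; apply htA
    have := S.An x⁻¹ _ h0
    rw [ht'def] at this
    have e : x⁻¹ * (x * t * x⁻¹) * x⁻¹⁻¹ = t := by group
    rwa [e] at this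
  have hπt' : π t' = π x * π t * (π x)⁻¹ := by rw [ht'def]; simp
  rw [← hπt'] at hτ1 hτ2
  have hY'2 : ∀ w ∈ cjs x Y, w * w = 1 := by
    intro w hw
    rw [mem_cjs] at hw
    have := hY2 _ hw
    calc w * w = x * ((x⁻¹ * w * x) * (x⁻¹ * w * x)) * x⁻¹ := by group
      _ = 1 := by rw [this]; group
  have ht'2 : t' * t' = 1 := hY'2 t' ht'Y
  have ht'inv : t'⁻¹ = t' := inv_eq_of_mul_eq_one_left ht'2
  have hW : ∀ a₁ ∈ A, h' ∈ S.cm a₁ → h' ∈ S.cm (t' * a₁ * t'⁻¹) := by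
    intro a₁ ha₁ h1
    obtain ⟨j, hj⟩ := Subgroup.mem_zpowers_iff.1 hτ1
    obtain ⟨a₂, ha₂def⟩ : ∃ a₂, a₂ = (h' ^ j)⁻¹ * (t' * h' * t'⁻¹) := ⟨_, rfl⟩
    have ha₂ : a₂ ∈ A := by
      rw [← hker, MonoidHom.mem_ker, ha₂def]
      simp only [map_mul, map_inv, map_zpow]
      rw [hj]; group
    have h2 : t' * h' * t'⁻¹ ∈ S.cm a₁ := by
      have e : t' * h' * t'⁻¹ = h' ^ j * a₂ := by rw [ha₂def]; group
      rw [e]
      exact (S.cm a₁).mul_mem ((S.cm a₁).zpow_mem h1 j) (S.comm_C a₂ ha₂ a₁ ha₁)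
    have h3 : t' * h' * t'⁻¹ * a₁ * (t' * h' * t'⁻¹)⁻¹ * a₁⁻¹ ∈ C := h2
    have h4 := S.CZ _ h3 t'
    show h' * (t' * a₁ * t'⁻¹) * h'⁻¹ * (t' * a₁ * t'⁻¹)⁻¹ ∈ C
    have e : h' * (t' * a₁ * t'⁻¹) * h'⁻¹ * (t' * a₁ * t'⁻¹)⁻¹
        = t' * (t'⁻¹ * h' * t' * a₁ * (t'⁻¹ * h' * t')⁻¹ * a₁⁻¹) * t'⁻¹ := by group
    rw [e]
    have e2 : t'⁻¹ * h' * t' = t' * h' * t'⁻¹ := by rw [ht'inv]
    rw [e2, h4]
    have e3 : (t' * h' * t'⁻¹ * a₁ * (t' * h' * t'⁻¹)⁻¹ * a₁⁻¹) * t' * t'⁻¹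
        = t' * h' * t'⁻¹ * a₁ * (t' * h' * t'⁻¹)⁻¹ * a₁⁻¹ := by group
    rw [e3]; exact h3
  have hsq := S.sq_mem_C hY2
  obtain ⟨a₁, ha₁A, ha₁C, ha₁h, ha₁t⟩ :
      ∃ a₁ ∈ A, a₁ ∉ C ∧ h' ∈ S.cm a₁ ∧ t' ∈ S.cm a₁ := by
    by_cases hb : a * (t' * a * t'⁻¹) ∈ C
    · refine ⟨a, ha, haC, hfix', ?_⟩
      show t' * a * t'⁻¹ * a⁻¹ ∈ C
      have hc := S.CZ _ hb a⁻¹
      have e : t' * a * t'⁻¹ * a⁻¹ = a⁻¹ * (a * (t' * a * t'⁻¹)) * a⁻¹ := by group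
      rw [e, hc]
      have e2 : a * (t' * a * t'⁻¹) * a⁻¹ * a⁻¹ = a * (t' * a * t'⁻¹) * (a * a)⁻¹ := by group
      rw [e2]; exact C.mul_mem hb (C.inv_mem (hsq a ha))
    · refine ⟨a * (t' * a * t'⁻¹), A.mul_mem ha (S.An t' a ha), hb, ?_, ?_⟩
      · have h1 : a ∈ S.cm h' := S.cm_symm hfix'
        have h2 : t' * a * t'⁻¹ ∈ S.cm h' := S.cm_symm (hW a ha hfix')
        exact S.cm_symm ((S.cm h').mul_mem h1 h2)
      · show t' * (a * (t' * a * t'⁻¹)) * t'⁻¹ * (a * (t' * a * t'⁻¹))⁻¹ ∈ C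
        have e : t' * (a * (t' * a * t'⁻¹)) * t'⁻¹ * (a * (t' * a * t'⁻¹))⁻¹
            = (t' * a * t'⁻¹) * ((t' * t') * a * (t' * t')⁻¹) * (t' * a * t'⁻¹)⁻¹ * a⁻¹ := by
          group
        rw [e, ht'2]
        have e2 : t' * a * t'⁻¹ * (1 * a * 1⁻¹) * (t' * a * t'⁻¹)⁻¹ * a⁻¹
            = (t' * a * t'⁻¹) * a * (t' * a * t'⁻¹)⁻¹ * a⁻¹ := by group
        rw [e2]
        exact S.comm_C _ (S.An t' a ha) a ha
  have hR1' : R1 ((cjs x Y).map π) := by rw [map_cjs]; exact hR1.conj (π x)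
  have ha₁Y : a₁ ∈ cjs x Y := fix_Y_of_R1 S' π hker hR1' ht'Y ht'A ha₁A ha₁t
  have ha₁Y2 : a₁ ∈ cjs h'⁻¹ (cjs x Y) := by
    rw [mem_cjs]
    have hc : h' * a₁ * h'⁻¹ * a₁⁻¹ ∈ C := ha₁h
    have e : h'⁻¹⁻¹ * a₁ * h'⁻¹ = (h' * a₁ * h'⁻¹ * a₁⁻¹) * a₁ := by group
    rw [e]
    exact (cjs x Y).mul_mem (S'.CY hc) ha₁Y
  have hgp : GenPair (cjs x Y) h'⁻¹ := by
    apply genPair_of_R1 S' π hker hR1'
    intro hn
    rw [map_inv] at hn
    have hn' : π h' ∈ Subgroup.normalizer (((cjs x Y).map π : Subgroup X) : Set X) := by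
      have := Subgroup.inv_mem _ hn; rwa [inv_inv] at this
    have hπt'E : π t' ∈ (cjs x Y).map π := ⟨t', ht'Y, rfl⟩
    obtain ⟨z₀, hz₀⟩ : ∃ z₀, z₀ = π t' * π h' * (π t')⁻¹ * (π h')⁻¹ := ⟨_, rfl⟩
    have hz1 : z₀ ∈ (cjs x Y).map π := by
      have h1 := (Subgroup.mem_normalizer_iff.1 hn' (π t')⁻¹).1 (Subgroup.inv_mem _ hπt'E)
      have e : z₀ = π t' * (π h' * (π t')⁻¹ * (π h')⁻¹) := by rw [hz₀]; group
      rw [e]; exact Subgroup.mul_mem _ hπt'E h1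
    have hz2 : z₀ ∈ Subgroup.zpowers (π h') := by
      rw [hz₀]
      exact Subgroup.mul_mem _ hτ1 (Subgroup.inv_mem _ (Subgroup.mem_zpowers _))
    have hz₀2 : z₀ * z₀ = 1 := by
      obtain ⟨w, hw, hwz⟩ := hz1
      rw [← hwz, ← map_mul, hY'2 w hw, map_one]
    have hz₀odd : Odd (orderOf z₀) := by
      have : orderOf z₀ ∣ orderOf (π h') := orderOf_dvd_of_mem_zpowers hz2
      exact Odd.of_dvd_nat hodd this
    have hz₀1 : z₀ = 1 := by
      have h1 : orderOf z₀ ∣ 2 := orderOf_dvd_of_pow_eq_one (by rw [pow_two]; exact hz₀2)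
      have h2 : orderOf z₀ = 1 := by
        rcases (Nat.dvd_prime Nat.prime_two).1 h1 with h | h
        · exact h
        · rw [h] at hz₀odd; exact absurd hz₀odd (by decide)
      exact orderOf_eq_one_iff.1 h2
    apply hτ2
    rw [hz₀1] at hz₀
    calc π t' * π h' * (π t')⁻¹ = (π t' * π h' * (π t')⁻¹ * (π h')⁻¹) * π h' := by group
      _ = π h' := by rw [← hz₀, one_mul]
  exact ha₁C (S'.inter_mem hgp ha₁Y ha₁Y2)

end Cfsg.Agent.Lib.Helper16.FrakL
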