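import Mathlib
import Cfsg.Prelude.Def_LocalEven
import Cfsg.Agent.Lib.Helper13.SL2Syl
import Cfsg.Agent.Lib.Helper21.BaerSuzuki

set_option autoImplicit false

namespace Cfsg.Agent.Lib.Helper16.NatSL2

open Cfsg Cfsg.Agent.S2301 Cfsg.Agent.Lib.Helper13 Cfsg.Agent.Lib.Helper13.SL2Syl

theorem charP_of_card {p : ℕ} [Fact p.Prime] {F : Type*} [Field F] [Fintype F] (n : ℕ)
    (hF : Fintype.card F = p ^ n) : CharP F p := by
  have hpp : p.Prime := Fact.out
  rw [CharP.charP_iff_prime_eq_zero hpp]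
  have h1 : ((Fintype.card F : ℕ) : F) = 0 := Nat.cast_card_eq_zero F
  rw [hF, Nat.cast_pow] at h1
  have hn : n ≠ 0 := by
    rintro rfl
    rw [pow_zero] at hF
    have := Fintype.one_lt_card (α := F)
    omega
  exact (pow_eq_zero_iff hn).mp h1

theorem uMat_mulVec {F : Type*} [Field F] (x : F) (z : Fin 2 → F) :
    (uMat x).1.mulVec z = ![z 0 + x * z 1, z 1] := by
  rw [uMat_val]
  ext i
  fin_cases i <;> simp [Matrix.mulVec, dotProduct, Fin.sum_univ_two]

theorem normal_form {G : Type*} [Group G] [Finite G] {p : ℕ} [Fact p.Prime] {F : Type*} [Field F]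
    [Fintype F] (n : ℕ) (hF : Fintype.card F = p ^ n) (V L : Subgroup G)
    (hnat : Cfsg.IsNaturalSL2Module F V L)
    (hf : L ⊓ Subgroup.centralizer (V : Set G) = ⊥) (S : Sylow p ↥L) :
    ∃ (ρ : L →* Matrix.SpecialLinearGroup (Fin 2) F) (χ : V → (Fin 2 → F)),
      Function.Bijective ρ ∧ Function.Bijective χ ∧ (∀ v w : V, χ (v * w) = χ v + χ w) ∧
      (∀ (l : L) (v : V), ∃ w : V, (w : G) = (l : G) * (v : G) * (l : G)⁻¹ ∧
        χ w = (ρ l).1.mulVec (χ v)) ∧
      (∀ l : L, l ∈ S ↔ ∃ x : F, ρ l = uMat x) := by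
  classical
  haveI : CharP F p := charP_of_card n hF
  obtain ⟨hLN, ρ, ψ, hρs, hker, hact⟩ := hnat
  have hρi : Function.Injective ρ := by
    rw [← MonoidHom.ker_eq_bot_iff, hker, Subgroup.subgroupOf_eq_bot, disjoint_iff, inf_comm]
    exact hf
  obtain ⟨P₀, hP₀⟩ := exists_sylow_US (F := F) p
  obtain ⟨g, hg⟩ := MulAction.exists_smul_eq (Matrix.SpecialLinearGroup (Fin 2) F)
    (S.mapSurjective hρs) P₀
  refine ⟨(MulAut.conj g).toMonoidHom.comp ρ, fun v => g.1.mulVec (ψ (Additive.ofMul v)),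
    ?_, ?_, ?_, ?_, ?_⟩
  · exact (MulAut.conj g).bijective.comp ⟨hρi, hρs⟩
  · constructor
    · intro v w h
      have h1 : (g⁻¹).1.mulVec (g.1.mulVec (ψ (Additive.ofMul v))) =
          (g⁻¹).1.mulVec (g.1.mulVec (ψ (Additive.ofMul w))) := congrArg _ h
      rw [Matrix.mulVec_mulVec, Matrix.mulVec_mulVec, ← Matrix.SpecialLinearGroup.coe_mul,
        inv_mul_cancel, Matrix.SpecialLinearGroup.coe_one, Matrix.one_mulVec,
        Matrix.one_mulVec] at h1
      exact Additive.ofMul.injective (ψ.injective h1)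
    · intro z
      obtain ⟨a, ha⟩ := ψ.surjective ((g⁻¹).1.mulVec z)
      refine ⟨Additive.toMul a, ?_⟩
      show g.1.mulVec (ψ (Additive.ofMul (Additive.toMul a))) = z
      rw [ofMul_toMul, ha, Matrix.mulVec_mulVec, ← Matrix.SpecialLinearGroup.coe_mul,
        mul_inv_cancel, Matrix.SpecialLinearGroup.coe_one, Matrix.one_mulVec]
  · intro v w
    show g.1.mulVec (ψ (Additive.ofMul (v * w))) =
      g.1.mulVec (ψ (Additive.ofMul v)) + g.1.mulVec (ψ (Additive.ofMul w))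
    rw [ofMul_mul, map_add, Matrix.mulVec_add]
  · intro l v
    obtain ⟨w, hw1, hw2⟩ := hact l v
    refine ⟨w, hw1, ?_⟩
    show g.1.mulVec (ψ (Additive.ofMul w)) =
      ((MulAut.conj g) (ρ l)).1.mulVec (g.1.mulVec (ψ (Additive.ofMul v)))
    rw [hw2, Matrix.mulVec_mulVec, Matrix.mulVec_mulVec, ← Matrix.SpecialLinearGroup.coe_mul,
      ← Matrix.SpecialLinearGroup.coe_mul, MulAut.conj_apply]
    have hgg : g * ρ l * g⁻¹ * g = g * ρ l := by group
    rw [hgg]
  · intro l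
    have h1 : l ∈ S ↔ ρ l ∈ (S.mapSurjective hρs : Sylow p _) := by
      show l ∈ S ↔ ρ l ∈ ((S.mapSurjective hρs : Sylow p _) : Subgroup _)
      rw [Sylow.coe_mapSurjective]
      exact (Subgroup.mem_map_iff_mem hρi).symm
    have h2 : g * ρ l * g⁻¹ ∈ (g • (S.mapSurjective hρs) : Sylow p _) ↔
        ρ l ∈ (S.mapSurjective hρs : Sylow p _) := by
      rw [Cfsg.Agent.Lib.Helper21.BaerSuzuki.mem_smul_sylow]
      have : g⁻¹ * (g * ρ l * g⁻¹) * g = ρ l := by group
      rw [this]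
    rw [h1, ← h2, hg]
    show g * ρ l * g⁻¹ ∈ (P₀ : Subgroup _) ↔ ∃ x : F, g * ρ l * g⁻¹ = uMat x
    rw [hP₀]
    constructor
    · intro h
      exact exists_of_mem_US h
    · rintro ⟨x, hx⟩
      rw [hx]; exact uMat_mem x

section coords

variable {G : Type*} [Group G] {F : Type*} [Field F] {V L : Subgroup G}
  (ρ : L →* Matrix.SpecialLinearGroup (Fin 2) F) (χ : V → (Fin 2 → F))

theorem chi_one (hadd : ∀ v w : V, χ (v * w) = χ v + χ w) : χ 1 = 0 := by
  have h := hadd 1 1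
  rw [mul_one] at h
  exact left_eq_add.mp h

theorem chi_inv (hadd : ∀ v w : V, χ (v * w) = χ v + χ w) (v : V) : χ v⁻¹ = -χ v := by
  have h := hadd v v⁻¹
  rw [mul_inv_cancel, chi_one χ hadd] at h
  exact eq_neg_of_add_eq_zero_right h.symm

theorem fix_iff (hχ : Function.Injective χ)
    (hact : ∀ (l : L) (v : V), ∃ w : V, (w : G) = (l : G) * (v : G) * (l : G)⁻¹ ∧
      χ w = (ρ l).1.mulVec (χ v)) (l : L) (x : F) (hl : ρ l = uMat x) (v : V) :
    (l : G) * (v : G) = (v : G) * (l : G) ↔ x * χ v 1 = 0 := by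
  obtain ⟨w, hw1, hw2⟩ := hact l v
  rw [hl, uMat_mulVec] at hw2
  constructor
  · intro h
    have hwv : w = v := by
      apply Subtype.ext
      rw [hw1, h]; group
    rw [hwv] at hw2
    have h0 : χ v 0 = χ v 0 + x * χ v 1 := congrFun hw2 0
    linear_combination (-1 : F) * h0
  · intro h
    have hwv : w = v := by
      apply hχ
      rw [hw2, h, add_zero]
      ext i
      fin_cases i <;> rfl
    have h3 : (v : G) = l * v * (l : G)⁻¹ := by rw [← hw1, hwv]
    calc (l : G) * v = (l * v * (l : G)⁻¹) * l := by group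
      _ = v * l := by rw [← h3]

theorem comm_coord (hadd : ∀ v w : V, χ (v * w) = χ v + χ w)
    (hact : ∀ (l : L) (v : V), ∃ w : V, (w : G) = (l : G) * (v : G) * (l : G)⁻¹ ∧
      χ w = (ρ l).1.mulVec (χ v)) (l : L) (x : F) (hl : ρ l = uMat x) (v : V) :
    ∃ w : V, (w : G) = (v : G) * (l : G) * (v : G)⁻¹ * (l : G)⁻¹ ∧
      χ w = ![-(x * χ v 1), 0] := by
  obtain ⟨w, hw1, hw2⟩ := hact l v⁻¹
  refine ⟨v * w, ?_, ?_⟩
  · rw [Subgroup.coe_mul, hw1, Subgroup.coe_inv]; group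
  · rw [hadd, hw2, hl, uMat_mulVec, chi_inv χ hadd]
    ext i
    fin_cases i
    · show χ v 0 + (-(χ v 0) + x * -(χ v 1)) = -(x * χ v 1)
      ring
    · show χ v 1 + -(χ v 1) = 0
      ring

end coords

end Cfsg.Agent.Lib.Helper16.NatSL2
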