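import Mathlib
import Cfsg.Agent.Lib.Helper13.SL2Syl
import Cfsg.Agent.Lib.Helper16.NatSL2

set_option autoImplicit false

namespace Cfsg.Agent.Lib.Helper16.SL2Quad

open Cfsg.Agent.S2301 Cfsg.Agent.Lib.Helper13 Cfsg.Agent.Lib.Helper13.SL2Syl

section mats

variable {F : Type*} [Field F]

def lMat (s : F) : Matrix.SpecialLinearGroup (Fin 2) F :=
  ⟨!![1, 0; s, 1], by simp [Matrix.det_fin_two]⟩

theorem lMat_val (s : F) : (lMat s).1 = !![1, 0; s, 1] := rfl

def nMat (t : F) : Matrix.SpecialLinearGroup (Fin 2) F := uMat t * lMat (-t⁻¹) * uMat t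

theorem nMat_val {t : F} (ht : t ≠ 0) : (nMat t).1 = !![0, t; -t⁻¹, 0] := by
  show (uMat t).1 * (lMat (-t⁻¹)).1 * (uMat t).1 = _
  rw [uMat_val, lMat_val]
  ext i j
  fin_cases i <;> fin_cases j <;>
    simp [Matrix.mul_apply, Fin.sum_univ_two, mul_inv_cancel₀ ht, inv_mul_cancel₀ ht]

theorem nMat_mul_uMat {t : F} (ht : t ≠ 0) (s : F) :
    nMat t * uMat s = lMat (-s / t ^ 2) * nMat t := by
  apply Subtype.ext
  show (nMat t).1 * (uMat s).1 = (lMat (-s / t ^ 2)).1 * (nMat t).1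
  rw [nMat_val ht, uMat_val, lMat_val]
  ext i j
  fin_cases i <;> fin_cases j <;> simp [Matrix.mul_apply, Fin.sum_univ_two] <;> field_simp <;> ring

theorem nMat_mul_lMat {t : F} (ht : t ≠ 0) (s : F) :
    nMat t * lMat s = uMat (-(t ^ 2 * s)) * nMat t := by
  apply Subtype.ext
  show (nMat t).1 * (lMat s).1 = (uMat (-(t ^ 2 * s))).1 * (nMat t).1
  rw [nMat_val ht, uMat_val, lMat_val]
  ext i j
  fin_cases i <;> fin_cases j <;> simp [Matrix.mul_apply, Fin.sum_univ_two] <;> field_simp <;> ring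

theorem lMat_mul_nMat {t : F} (ht : t ≠ 0) (s : F) :
    lMat s * nMat t = nMat t * uMat (-(s * t ^ 2)) := by
  rw [nMat_mul_uMat ht]
  congr 2
  field_simp

theorem uMat_mul_nMat {t : F} (ht : t ≠ 0) (r : F) :
    uMat r * nMat t = nMat t * lMat (-(r / t ^ 2)) := by
  rw [nMat_mul_lMat ht]
  congr 2
  field_simp

theorem nMat_one_neg : nMat (1 : F) * nMat (-1) = 1 := by
  apply Subtype.ext
  show (nMat (1 : F)).1 * (nMat (-1 : F)).1 = 1
  rw [nMat_val one_ne_zero, nMat_val (neg_ne_zero.mpr one_ne_zero)]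
  ext i j
  fin_cases i <;> fin_cases j <;> simp [Matrix.mul_apply, Fin.sum_univ_two, Matrix.one_apply]

theorem nMat_neg_one : nMat (-1 : F) * nMat 1 = 1 := by
  apply Subtype.ext
  show (nMat (-1 : F)).1 * (nMat (1 : F)).1 = 1
  rw [nMat_val one_ne_zero, nMat_val (neg_ne_zero.mpr one_ne_zero)]
  ext i j
  fin_cases i <;> fin_cases j <;> simp [Matrix.mul_apply, Fin.sum_univ_two, Matrix.one_apply]

theorem hMat_mul {t t' : F} (ht : t ≠ 0) (ht' : t' ≠ 0) :
    nMat (t * t') * nMat (-1) = (nMat t * nMat (-1)) * (nMat t' * nMat (-1)) := by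
  apply Subtype.ext
  show (nMat (t * t')).1 * (nMat (-1 : F)).1 =
    ((nMat t).1 * (nMat (-1 : F)).1) * ((nMat t').1 * (nMat (-1 : F)).1)
  rw [nMat_val ht, nMat_val ht', nMat_val (mul_ne_zero ht ht'),
    nMat_val (neg_ne_zero.mpr one_ne_zero)]
  ext i j
  fin_cases i <;> fin_cases j <;> simp [Matrix.mul_apply, Fin.sum_univ_two] <;> field_simp

theorem lMat_eq_conj (s : F) : lMat s = nMat 1 * uMat (-s) * nMat (-1) := by
  apply Subtype.ext
  show (lMat s).1 = (nMat (1 : F)).1 * (uMat (-s)).1 * (nMat (-1 : F)).1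
  rw [nMat_val one_ne_zero, nMat_val (neg_ne_zero.mpr one_ne_zero), uMat_val, lMat_val]
  ext i j
  fin_cases i <;> fin_cases j <;> simp [Matrix.mul_apply, Fin.sum_univ_two]

theorem lMat_mulVec (s : F) (z : Fin 2 → F) :
    (lMat s).1.mulVec z = ![z 0, s * z 0 + z 1] := by
  rw [lMat_val]
  ext i
  fin_cases i <;> simp [Matrix.mulVec, dotProduct, Fin.sum_univ_two]

theorem gen_induction (P : Matrix.SpecialLinearGroup (Fin 2) F → Prop)
    (hu : ∀ t, P (uMat t)) (hl : ∀ s, P (lMat s)) (hmul : ∀ A B, P A → P B → P (A * B))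
    (A : Matrix.SpecialLinearGroup (Fin 2) F) : P A := by
  refine Cfsg.Agent.Lib.Helper2.SLGen.transvection_induction P ?_ hmul A
  intro i j hij c
  have h01 : ∀ (h : (0 : Fin 2) ≠ 1), Matrix.SpecialLinearGroup.transvection h c = uMat c := by
    intro h
    apply Subtype.ext
    rw [Matrix.SpecialLinearGroup.transvection_coe, uMat_val]
    ext i j
    fin_cases i <;> fin_cases j <;> simp [Matrix.single_apply]
  have h10 : ∀ (h : (1 : Fin 2) ≠ 0), Matrix.SpecialLinearGroup.transvection h c = lMat c := by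
    intro h
    apply Subtype.ext
    rw [Matrix.SpecialLinearGroup.transvection_coe, lMat_val]
    ext i j
    fin_cases i <;> fin_cases j <;> simp [Matrix.single_apply]
  fin_cases i <;> fin_cases j
  · exact absurd rfl hij
  · show P (Matrix.SpecialLinearGroup.transvection _ c)
    rw [h01]; exact hu c
  · show P (Matrix.SpecialLinearGroup.transvection _ c)
    rw [h10]; exact hl c
  · exact absurd rfl hij

end mats

section abs

variable {F : Type*} [Field F] {W : Type*} [AddCommGroup W]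

structure IsAct (act : Matrix.SpecialLinearGroup (Fin 2) F → W →+ W) : Prop where
  one : ∀ w, act 1 w = w
  mul : ∀ g g' w, act (g * g') w = act g (act g' w)

def C1 (act : Matrix.SpecialLinearGroup (Fin 2) F → W →+ W) : AddSubgroup W where
  carrier := {w | ∀ t, act (uMat t) w = w}
  zero_mem' := fun t => map_zero _
  add_mem' := fun ha hb t => by rw [map_add, ha t, hb t]
  neg_mem' := fun ha t => by rw [map_neg, ha t]

def C2 (act : Matrix.SpecialLinearGroup (Fin 2) F → W →+ W) : AddSubgroup W where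
  carrier := {w | ∀ s, act (lMat s) w = w}
  zero_mem' := fun t => map_zero _
  add_mem' := fun ha hb t => by rw [map_add, ha t, hb t]
  neg_mem' := fun ha t => by rw [map_neg, ha t]

variable {act : Matrix.SpecialLinearGroup (Fin 2) F → W →+ W}

theorem mem_C1 {w : W} : w ∈ C1 act ↔ ∀ t, act (uMat t) w = w := Iff.rfl

theorem mem_C2 {w : W} : w ∈ C2 act ↔ ∀ s, act (lMat s) w = w := Iff.rfl

theorem n_C1 (ha : IsAct act) {t : F} (ht : t ≠ 0) {w : W} (hw : w ∈ C1 act) :
    act (nMat t) w ∈ C2 act := by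
  rw [mem_C2]
  intro s
  rw [← ha.mul]
  have h : lMat s * nMat t = nMat t * uMat (-(s * t ^ 2)) := by
    rw [nMat_mul_uMat ht]
    congr 2
    field_simp
  rw [h, ha.mul, mem_C1.1 hw]

theorem n_C2 (ha : IsAct act) {t : F} (ht : t ≠ 0) {w : W} (hw : w ∈ C2 act) :
    act (nMat t) w ∈ C1 act := by
  rw [mem_C1]
  intro r
  rw [← ha.mul]
  have h : uMat r * nMat t = nMat t * lMat (-(r / t ^ 2)) := by
    rw [nMat_mul_lMat ht]
    congr 2
    field_simp
  rw [h, ha.mul, mem_C2.1 hw]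

theorem gen_inv (ha : IsAct act) (A : AddSubgroup W)
    (hu : ∀ t, ∀ w ∈ A, act (uMat t) w ∈ A) (hl : ∀ s, ∀ w ∈ A, act (lMat s) w ∈ A) :
    ∀ g, ∀ w ∈ A, act g w ∈ A := by
  intro g
  refine gen_induction (fun g => ∀ w ∈ A, act g w ∈ A) hu hl ?_ g
  intro g g' hg hg' w hw
  rw [ha.mul]
  exact hg _ (hg' w hw)

theorem inter_zero (ha : IsAct act)
    (hirr : ∀ A : AddSubgroup W, (∀ g, ∀ w ∈ A, act g w ∈ A) → A = ⊥ ∨ A = ⊤)
    (hnt : ∃ g w, act g w ≠ w) {w : W} (h1 : w ∈ C1 act) (h2 : w ∈ C2 act) : w = 0 := by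
  obtain ⟨A, hAdef⟩ : ∃ A : AddSubgroup W, ∀ w, w ∈ A ↔ ∀ g, act g w = w :=
    ⟨{ carrier := {w | ∀ g, act g w = w}
       zero_mem' := fun g => map_zero _
       add_mem' := fun ha hb g => by rw [map_add, ha g, hb g]
       neg_mem' := fun ha g => by rw [map_neg, ha g] }, fun w => Iff.rfl⟩
  have hA : ∀ g, ∀ w ∈ A, act g w ∈ A := by
    intro g w hw
    have : act g w = w := (hAdef w).1 hw g
    rw [this]; exact hw
  have hwA : w ∈ A := by
    rw [hAdef]
    intro g
    exact gen_induction (fun g => act g w = w) (mem_C1.1 h1) (mem_C2.1 h2)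
      (fun g g' hg hg' => by rw [ha.mul, hg', hg]) g
  rcases hirr A hA with h | h
  · rw [h] at hwA; exact (AddSubgroup.mem_bot).1 hwA
  · exfalso
    obtain ⟨g, w', hne⟩ := hnt
    have : w' ∈ A := by rw [h]; exact AddSubgroup.mem_top _
    exact hne ((hAdef w').1 this g)

theorem exists_fix_mod {p : ℕ} [Fact p.Prime] [Fintype F] {n : ℕ} (hF : Fintype.card F = p ^ n)
    [Finite W] (hW : ∃ k, Nat.card W = p ^ k) (ha : IsAct act) (C : AddSubgroup W)
    (hC : ∀ t, ∀ w ∈ C, act (uMat t) w ∈ C) (hne : C ≠ ⊤) :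
    ∃ w, w ∉ C ∧ ∀ t, act (uMat t) w - w ∈ C := by
  classical
  have hpp : p.Prime := Fact.out
  have hC' : ∀ t : Multiplicative F, C ≤ C.comap (act (uMat (Multiplicative.toAdd t))) :=
    fun t w hw => hC _ w hw
  obtain ⟨q, hq⟩ : ∃ q : Multiplicative F → W ⧸ C →+ W ⧸ C, ∀ (t : Multiplicative F) (w : W),
      q t (w : W ⧸ C) = ((act (uMat (Multiplicative.toAdd t)) w : W) : W ⧸ C) :=
    ⟨fun t => QuotientAddGroup.map C C (act (uMat (Multiplicative.toAdd t))) (hC' t),
      fun t w => rfl⟩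
  letI actQ : MulAction (Multiplicative F) (W ⧸ C) :=
    { smul := fun t x => q t x
      one_smul := by
        intro x
        induction x using QuotientAddGroup.induction_on with
        | H w =>
          show q 1 (w : W ⧸ C) = _
          rw [hq, toAdd_one, uMat_zero, ha.one]
      mul_smul := by
        intro t t' x
        induction x using QuotientAddGroup.induction_on with
        | H w =>
          show q (t * t') (w : W ⧸ C) = q t (q t' (w : W ⧸ C))
          rw [hq, hq, hq, toAdd_mul, ← uMat_mul, ha.mul] }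
  have hsmul : ∀ (t : Multiplicative F) (w : W),
      t • ((w : W) : W ⧸ C) = ((act (uMat (Multiplicative.toAdd t)) w : W) : W ⧸ C) := by
    intro t w
    show q t (w : W ⧸ C) = _
    rw [hq]
  have hP : IsPGroup p (Multiplicative F) := by
    apply IsPGroup.of_card (n := n)
    rw [← hF, ← Nat.card_eq_fintype_card]
    exact Nat.card_congr Multiplicative.toAdd
  have h1 := hP.card_modEq_card_fixedPoints (W ⧸ C)
  obtain ⟨k, hk⟩ := hW
  have hdvd : Nat.card (W ⧸ C) ∣ p ^ k := by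
    rw [← hk]
    exact C.index_dvd_card
  obtain ⟨j, -, hj⟩ := (Nat.dvd_prime_pow hpp).1 hdvd
  have hj0 : j ≠ 0 := by
    rintro rfl
    rw [pow_zero] at hj
    exact hne (AddSubgroup.index_eq_one.1 hj)
  have hpd : p ∣ Nat.card (W ⧸ C) := by rw [hj]; exact dvd_pow_self p hj0
  have hex : ∃ x : W ⧸ C, x ∈ MulAction.fixedPoints (Multiplicative F) (W ⧸ C) ∧ x ≠ 0 := by
    by_contra hcon
    push_neg at hcon
    have h0 : (0 : W ⧸ C) ∈ MulAction.fixedPoints (Multiplicative F) (W ⧸ C) := by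
      intro t
      have := hsmul t 0
      rw [map_zero] at this
      exact this
    have hone : Nat.card (MulAction.fixedPoints (Multiplicative F) (W ⧸ C)) = 1 := by
      rw [Nat.card_eq_one_iff_unique]
      refine ⟨⟨fun a b => ?_⟩, ⟨⟨0, h0⟩⟩⟩
      apply Subtype.ext
      rw [hcon a.1 a.2, hcon b.1 b.2]
    rw [hone] at h1
    have h2 : Nat.card (W ⧸ C) % p = 0 := Nat.mod_eq_zero_of_dvd hpd
    have h3 : Nat.card (W ⧸ C) % p = 1 % p := h1
    rw [h2, Nat.mod_eq_of_lt hpp.one_lt] at h3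
    exact zero_ne_one h3
  obtain ⟨x, hx, hx0⟩ := hex
  obtain ⟨w, rfl⟩ := QuotientAddGroup.mk_surjective x
  refine ⟨w, ?_, ?_⟩
  · intro hw
    exact hx0 ((QuotientAddGroup.eq_zero_iff w).2 hw)
  · intro t
    have h4 := hx (Multiplicative.ofAdd t)
    rw [hsmul, toAdd_ofAdd] at h4
    have h5 := (QuotientAddGroup.eq).1 h4
    have h6 : act (uMat t) w - w = -(-act (uMat t) w + w) := by abel
    rw [h6]
    exact C.neg_mem h5

theorem n_eq_D (ha : IsAct act) (hint : ∀ w, w ∈ C1 act → w ∈ C2 act → w = 0) {t : F}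
    (ht : t ≠ 0) {c : W} (hc : c ∈ C2 act) (hD : act (uMat t) c - c ∈ C1 act) :
    act (nMat t) c = act (uMat t) c - c := by
  obtain ⟨a, hadef⟩ : ∃ a, a = act (uMat t) c - c := ⟨_, rfl⟩
  rw [← hadef] at hD ⊢
  have h1 : act (uMat t) c = c + a := by rw [hadef]; abel
  have h2 : act (nMat t) c = c + a + act (nMat t) a := by
    have e1 : act (nMat t) c = act (uMat t) (act (lMat (-t⁻¹)) (act (uMat t) c)) := by
      show act (uMat t * lMat (-t⁻¹) * uMat t) c = _
      rw [ha.mul, ha.mul]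
    have e2 : act (nMat t) a = act (uMat t) (act (lMat (-t⁻¹)) a) := by
      show act (uMat t * lMat (-t⁻¹) * uMat t) a = _
      rw [ha.mul, ha.mul, mem_C1.1 hD t]
    rw [e1, e2, h1, map_add, mem_C2.1 hc (-t⁻¹), map_add, h1]
  have h3 : act (nMat t) c - a = 0 := by
    apply hint
    · exact (C1 act).sub_mem (n_C2 ha ht hc) hD
    · have : act (nMat t) c - a = c + act (nMat t) a := by rw [h2]; abel
      rw [this]
      exact (C2 act).add_mem hc (n_C1 ha ht hD)
  exact sub_eq_zero.mp h3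

end abs

section main

variable {F : Type*} [Field F] [Fintype F] {W : Type*} [AddCommGroup W] [Finite W]
  {act : Matrix.SpecialLinearGroup (Fin 2) F → W →+ W} {p : ℕ} [Fact p.Prime]

theorem quad_of_card {n : ℕ} (hF : Fintype.card F = p ^ n) (hW : ∃ k, Nat.card W = p ^ k)
    (ha : IsAct act)
    (hirr : ∀ A : AddSubgroup W, (∀ g, ∀ w ∈ A, act g w ∈ A) → A = ⊥ ∨ A = ⊤)
    (hnt : ∃ g w, act g w ≠ w)
    (hcard : Nat.card W ≤ Nat.card (C1 act) ^ 2) :
    ∀ t w, act (uMat t) w - w ∈ C1 act := by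
  have hint : ∀ w, w ∈ C1 act → w ∈ C2 act → w = 0 :=
    fun w h1 h2 => inter_zero ha hirr hnt h1 h2
  have h1ne : (1 : F) ≠ 0 := one_ne_zero
  have hm1ne : (-1 : F) ≠ 0 := neg_ne_zero.mpr one_ne_zero
  have hnn : ∀ w, act (nMat 1) (act (nMat (-1)) w) = w := by
    intro w; rw [← ha.mul, nMat_one_neg, ha.one]
  have hnn' : ∀ w, act (nMat (-1)) (act (nMat 1) w) = w := by
    intro w; rw [← ha.mul, nMat_neg_one, ha.one]
  have hc12 : Nat.card (C1 act) ≤ Nat.card (C2 act) := by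
    apply Nat.card_le_card_of_injective
      (fun w : C1 act => (⟨act (nMat 1) w.1, n_C1 ha h1ne w.2⟩ : C2 act))
    intro a b hab
    have h : act (nMat (-1)) (act (nMat 1) a.1) = act (nMat (-1)) (act (nMat 1) b.1) :=
      congrArg (fun x : C2 act => act (nMat (-1)) x.1) hab
    rw [hnn', hnn'] at h
    exact Subtype.ext h
  have hdec : ∀ w : W, ∃ a ∈ C1 act, ∃ b ∈ C2 act, w = a + b := by
    have hinj : Function.Injective (fun x : (C1 act) × (C2 act) => (x.1.1 + x.2.1 : W)) := by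
      rintro ⟨a, b⟩ ⟨a', b'⟩ h
      have h' : a.1 + b.1 = a'.1 + b'.1 := h
      have h0 : a.1 - a'.1 = 0 := by
        apply hint
        · exact (C1 act).sub_mem a.2 a'.2
        · have : a.1 - a'.1 = b'.1 - b.1 := by
            rw [sub_eq_sub_iff_add_eq_add, h', add_comm]
          rw [this]; exact (C2 act).sub_mem b'.2 b.2
      have ha' : a = a' := Subtype.ext (sub_eq_zero.mp h0)
      subst ha'
      have hb' : b = b' := Subtype.ext (add_left_cancel h')
      rw [hb']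
    have hle : Nat.card W ≤ Nat.card ((C1 act) × (C2 act)) := by
      rw [Nat.card_prod]
      calc Nat.card W ≤ Nat.card (C1 act) ^ 2 := hcard
        _ = Nat.card (C1 act) * Nat.card (C1 act) := sq _
        _ ≤ Nat.card (C1 act) * Nat.card (C2 act) := Nat.mul_le_mul_left _ hc12
    have hbij := hinj.bijective_of_nat_card_le hle
    intro w
    obtain ⟨⟨a, b⟩, hab⟩ := hbij.2 w
    exact ⟨a.1, a.2, b.1, b.2, hab.symm⟩
  obtain ⟨E, hE⟩ : ∃ E : AddSubgroup W,
      ∀ c, c ∈ E ↔ (c ∈ C2 act ∧ ∀ t, act (uMat t) c - c ∈ C1 act) :=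
    ⟨{ carrier := {c | c ∈ C2 act ∧ ∀ t, act (uMat t) c - c ∈ C1 act}
       zero_mem' := ⟨(C2 act).zero_mem, fun t => by
          rw [map_zero, sub_zero]; exact (C1 act).zero_mem⟩
       add_mem' := fun {a b} ha' hb' => ⟨(C2 act).add_mem ha'.1 hb'.1, fun t => by
          have : act (uMat t) (a + b) - (a + b) = (act (uMat t) a - a) + (act (uMat t) b - b) := by
            rw [map_add]; abel
          rw [this]; exact (C1 act).add_mem (ha'.2 t) (hb'.2 t)⟩
       neg_mem' := fun {a} ha' => ⟨(C2 act).neg_mem ha'.1, fun t => by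
          have : act (uMat t) (-a) - (-a) = -(act (uMat t) a - a) := by
            rw [map_neg]; abel
          rw [this]; exact (C1 act).neg_mem (ha'.2 t)⟩ }, fun c => Iff.rfl⟩
  obtain ⟨E', hE'⟩ : ∃ E' : AddSubgroup W,
      ∀ c, c ∈ E' ↔ (c ∈ C1 act ∧ ∀ s, act (lMat s) c - c ∈ C2 act) :=
    ⟨{ carrier := {c | c ∈ C1 act ∧ ∀ s, act (lMat s) c - c ∈ C2 act}
       zero_mem' := ⟨(C1 act).zero_mem, fun t => by
          rw [map_zero, sub_zero]; exact (C2 act).zero_mem⟩
       add_mem' := fun {a b} ha' hb' => ⟨(C1 act).add_mem ha'.1 hb'.1, fun t => by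
          have : act (lMat t) (a + b) - (a + b) = (act (lMat t) a - a) + (act (lMat t) b - b) := by
            rw [map_add]; abel
          rw [this]; exact (C2 act).add_mem (ha'.2 t) (hb'.2 t)⟩
       neg_mem' := fun {a} ha' => ⟨(C1 act).neg_mem ha'.1, fun t => by
          have : act (lMat t) (-a) - (-a) = -(act (lMat t) a - a) := by
            rw [map_neg]; abel
          rw [this]; exact (C2 act).neg_mem (ha'.2 t)⟩ }, fun c => Iff.rfl⟩
  have hnE : ∀ t : F, t ≠ 0 → ∀ c ∈ E, act (nMat t) c ∈ E' := by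
    intro t ht c hc
    rw [hE] at hc
    rw [hE']
    refine ⟨n_C2 ha ht hc.1, fun s => ?_⟩
    have : act (lMat s) (act (nMat t) c) - act (nMat t) c
        = act (nMat t) (act (uMat (-(s * t ^ 2))) c - c) := by
      rw [← ha.mul, lMat_mul_nMat ht, ha.mul, map_sub]
    rw [this]
    exact n_C1 ha ht (hc.2 _)
  have hnE' : ∀ t : F, t ≠ 0 → ∀ c ∈ E', act (nMat t) c ∈ E := by
    intro t ht c hc
    rw [hE'] at hc
    rw [hE]
    refine ⟨n_C1 ha ht hc.1, fun r => ?_⟩
    have : act (uMat r) (act (nMat t) c) - act (nMat t) c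
        = act (nMat t) (act (lMat (-(r / t ^ 2))) c - c) := by
      rw [← ha.mul, uMat_mul_nMat ht, ha.mul, map_sub]
    rw [this]
    exact n_C2 ha ht (hc.2 _)
  have hAn : ∀ t : F, t ≠ 0 → ∀ w ∈ E' ⊔ E, act (nMat t) w ∈ E' ⊔ E := by
    intro t ht w hw
    obtain ⟨a, ha', b, hb', rfl⟩ := AddSubgroup.mem_sup.1 hw
    rw [map_add, add_comm]
    exact AddSubgroup.mem_sup.2 ⟨_, hnE t ht b hb', _, hnE' t ht a ha', rfl⟩
  have hAu : ∀ t, ∀ w ∈ E' ⊔ E, act (uMat t) w ∈ E' ⊔ E := by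
    intro t w hw
    by_cases ht : t = 0
    · rw [ht, uMat_zero, ha.one]; exact hw
    obtain ⟨a, ha', b, hb', rfl⟩ := AddSubgroup.mem_sup.1 hw
    have ha1 := ((hE' a).1 ha').1
    have hb2 := (hE b).1 hb'
    have h1 : act (uMat t) b - b = act (nMat t) b := (n_eq_D ha hint ht hb2.1 (hb2.2 t)).symm
    have h2 : act (uMat t) (a + b) = (a + act (nMat t) b) + b := by
      rw [map_add, mem_C1.1 ha1 t, ← h1]; abel
    rw [h2]
    exact AddSubgroup.mem_sup.2 ⟨_, E'.add_mem ha' (hnE t ht b hb'), _, hb', rfl⟩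
  have hAl : ∀ s, ∀ w ∈ E' ⊔ E, act (lMat s) w ∈ E' ⊔ E := by
    intro s w hw
    rw [lMat_eq_conj, ha.mul, ha.mul]
    exact hAn 1 h1ne _ (hAu _ _ (hAn (-1) hm1ne _ hw))
  have hAinv := gen_inv ha (E' ⊔ E) hAu hAl
  have hC1ne : C1 act ≠ ⊤ := by
    intro htop
    obtain ⟨g, w, hne⟩ := hnt
    have hall : ∀ w : W, w = 0 := by
      intro w
      apply hint w
      · rw [htop]; exact AddSubgroup.mem_top _
      · have : w = act (nMat 1) (act (nMat (-1)) w) := (hnn w).symm
        rw [this]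
        apply n_C1 ha h1ne
        rw [htop]; exact AddSubgroup.mem_top _
    apply hne
    rw [hall w, map_zero]
  obtain ⟨w₀, hw₀, hw₀'⟩ := exists_fix_mod hF hW ha (C1 act)
    (fun t w hw => by rw [mem_C1.1 hw t]; exact hw) hC1ne
  obtain ⟨a₀, ha₀, b₀, hb₀, rfl⟩ := hdec w₀
  have hb₀E : b₀ ∈ E := by
    rw [hE]
    refine ⟨hb₀, fun t => ?_⟩
    have := hw₀' t
    have h : act (uMat t) (a₀ + b₀) - (a₀ + b₀) = act (uMat t) b₀ - b₀ := by
      rw [map_add, mem_C1.1 ha₀ t]; abel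
    rwa [h] at this
  have hb₀ne : b₀ ≠ 0 := by
    rintro rfl
    apply hw₀
    rw [add_zero]; exact ha₀
  have hAtop : E' ⊔ E = ⊤ := by
    rcases hirr _ hAinv with h | h
    · exfalso
      have : b₀ ∈ E' ⊔ E := AddSubgroup.mem_sup_right hb₀E
      rw [h] at this
      exact hb₀ne (AddSubgroup.mem_bot.1 this)
    · exact h
  have hEC2 : ∀ c ∈ C2 act, c ∈ E := by
    intro c hc
    have : c ∈ E' ⊔ E := by rw [hAtop]; exact AddSubgroup.mem_top _
    obtain ⟨a, ha', b, hb', hab⟩ := AddSubgroup.mem_sup.1 this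
    have hz : a = 0 := by
      apply hint
      · exact ((hE' a).1 ha').1
      · have : a = c - b := by rw [← hab]; abel
        rw [this]
        exact (C2 act).sub_mem hc ((hE b).1 hb').1
    rw [hz, zero_add] at hab
    rw [← hab]; exact hb'
  intro t w
  obtain ⟨a, ha', b, hb', rfl⟩ := hdec w
  have h : act (uMat t) (a + b) - (a + b) = act (uMat t) b - b := by
    rw [map_add, mem_C1.1 ha' t]; abel
  rw [h]
  exact ((hE b).1 (hEC2 b hb')).2 t

theorem natural_of_quad {n : ℕ} (hF : Fintype.card F = p ^ n) (hW : ∃ k, Nat.card W = p ^ k)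
    (ha : IsAct act)
    (hirr : ∀ A : AddSubgroup W, (∀ g, ∀ w ∈ A, act g w ∈ A) → A = ⊥ ∨ A = ⊤)
    (hnt : ∃ g w, act g w ≠ w)
    (hQ : ∀ t w, act (uMat t) w - w ∈ C1 act) :
    ∃ θ : (Fin 2 → F) ≃+ W, ∀ g z, θ (g.1.mulVec z) = act g (θ z) := by
  have hint : ∀ w, w ∈ C1 act → w ∈ C2 act → w = 0 :=
    fun w h1 h2 => inter_zero ha hirr hnt h1 h2
  have h1ne : (1 : F) ≠ 0 := one_ne_zero
  have hm1ne : (-1 : F) ≠ 0 := neg_ne_zero.mpr one_ne_zero
  have hnn : ∀ w, act (nMat 1) (act (nMat (-1)) w) = w := by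
    intro w; rw [← ha.mul, nMat_one_neg, ha.one]
  have hbot : (⊥ : AddSubgroup W) ≠ ⊤ := by
    intro h
    obtain ⟨g, w, hne⟩ := hnt
    have hw : w = 0 := by
      have : w ∈ (⊥ : AddSubgroup W) := by rw [h]; exact AddSubgroup.mem_top _
      exact AddSubgroup.mem_bot.1 this
    apply hne; rw [hw, map_zero]
  obtain ⟨c, hc0, hc1⟩ := exists_fix_mod hF hW ha ⊥
    (fun t w hw => by rw [AddSubgroup.mem_bot.1 hw, map_zero]; exact AddSubgroup.zero_mem _) hbot
  have hcC1 : c ∈ C1 act := by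
    rw [mem_C1]; intro t
    exact sub_eq_zero.mp (AddSubgroup.mem_bot.1 (hc1 t))
  have hcne : c ≠ 0 := fun h => hc0 (by rw [h]; exact AddSubgroup.zero_mem _)
  have hDadd : ∀ x x' w,
      act (uMat (x + x')) w - w = (act (uMat x) w - w) + (act (uMat x') w - w) := by
    intro x x' w
    have h1 : act (uMat x) (act (uMat x') w - w) = act (uMat x') w - w := mem_C1.1 (hQ x' w) x
    have h2 : act (uMat (x + x')) w = act (uMat x) (act (uMat x') w) := by
      rw [← uMat_mul, ha.mul]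
    have h3 : act (uMat x) (act (uMat x') w) = act (uMat x) w + (act (uMat x') w - w) := by
      have e : act (uMat x) (act (uMat x') w) = act (uMat x) (w + (act (uMat x') w - w)) := by
        congr 1; abel
      rw [e, map_add, h1]
    rw [h2, h3]; abel
  obtain ⟨c₀, hc₀def⟩ : ∃ c₀, c₀ = act (nMat (-1)) c := ⟨_, rfl⟩
  have hc₀ : c₀ ∈ C2 act := by rw [hc₀def]; exact n_C1 ha hm1ne hcC1
  obtain ⟨a, hadef⟩ : ∃ a : F →+ W, ∀ x, a x = act (uMat x) c₀ - c₀ :=
    ⟨AddMonoidHom.mk' (fun x => act (uMat x) c₀ - c₀) (fun x x' => hDadd x x' c₀), fun x => rfl⟩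
  have haC1 : ∀ x, a x ∈ C1 act := fun x => by rw [hadef]; exact hQ x c₀
  obtain ⟨b, hbdef⟩ : ∃ b : F →+ W, ∀ y, b y = act (nMat (-1)) (a y) :=
    ⟨(act (nMat (-1))).comp a, fun y => rfl⟩
  have hbC2 : ∀ y, b y ∈ C2 act := fun y => by rw [hbdef]; exact n_C1 ha hm1ne (haC1 y)
  have k1 : ∀ c' ∈ C2 act, ∀ t : F, t ≠ 0 → act (nMat t) c' = act (uMat t) c' - c' :=
    fun c' hc' t ht => n_eq_D ha hint ht hc' (hQ t c')
  have k3 : ∀ y : F, y ≠ 0 → a y = act (nMat y * nMat (-1)) c := by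
    intro y hy
    rw [hadef, ← k1 c₀ hc₀ y hy, hc₀def, ha.mul]
  have k4 : a 1 = c := by rw [k3 1 h1ne, nMat_one_neg, ha.one]
  have k5 : ∀ t y : F, act (uMat t) (b y) - b y = a (t * y) := by
    intro t y
    by_cases ht : t = 0
    · rw [ht, uMat_zero, ha.one, sub_self, zero_mul, map_zero]
    by_cases hy : y = 0
    · rw [hy, map_zero, map_zero, sub_zero, mul_zero, map_zero]
    have e1 : act (nMat t) (b y) = act ((nMat t * nMat (-1)) * (nMat y * nMat (-1))) c := by
      rw [hbdef, k3 y hy, ha.mul (nMat t * nMat (-1)), ha.mul (nMat t)]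
    rw [← k1 (b y) (hbC2 y) t ht, e1, ← hMat_mul ht hy, ← k3 (t * y) (mul_ne_zero ht hy)]
  have k6 : ∀ y, act (nMat (-1)) (b y) = -a y := by
    intro y
    rw [k1 (b y) (hbC2 y) (-1) hm1ne, k5, neg_one_mul, map_neg]
  have k7 : ∀ z, act (nMat 1) (a z) = -b z := by
    intro z
    have h := congrArg (act (nMat 1)) (k6 z)
    rw [hnn, map_neg] at h
    rw [h, neg_neg]
  have k8 : ∀ x, act (nMat 1) (b x) = a x := by
    intro x
    rw [hbdef, hnn]
  obtain ⟨θ₀, hθ⟩ : ∃ θ₀ : (Fin 2 → F) →+ W, ∀ z, θ₀ z = a (z 0) + b (z 1) :=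
    ⟨a.comp (Pi.evalAddMonoidHom (fun _ : Fin 2 => F) 0) +
      b.comp (Pi.evalAddMonoidHom (fun _ : Fin 2 => F) 1), fun z => rfl⟩
  have hu : ∀ t z, θ₀ ((uMat t).1.mulVec z) = act (uMat t) (θ₀ z) := by
    intro t z
    rw [Cfsg.Agent.Lib.Helper16.NatSL2.uMat_mulVec, hθ, hθ]
    simp only [Matrix.cons_val_zero, Matrix.cons_val_one]
    rw [map_add, map_add, mem_C1.1 (haC1 _) t, ← k5 t (z 1)]
    abel
  have hl : ∀ s z, θ₀ ((lMat s).1.mulVec z) = act (lMat s) (θ₀ z) := by
    intro s z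
    rw [lMat_mulVec, hθ, hθ]
    simp only [Matrix.cons_val_zero, Matrix.cons_val_one]
    rw [lMat_eq_conj, ha.mul, ha.mul]
    have e1 : act (nMat (-1)) (a (z 0) + b (z 1)) = b (z 0) + -a (z 1) := by
      rw [map_add, k6, hbdef]
    have e2 : act (uMat (-s)) (b (z 0) + -a (z 1)) = b (z 0) + a (-s * z 0) + -a (z 1) := by
      rw [map_add, map_neg, mem_C1.1 (haC1 _) (-s), ← k5 (-s) (z 0)]; abel
    have e3 : act (nMat 1) (b (z 0) + a (-s * z 0) + -a (z 1))
        = a (z 0) + -b (-s * z 0) + b (z 1) := by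
      rw [map_add, map_add, map_neg, k8, k7, k7, neg_neg]
    rw [e1, e2, e3, map_add, neg_mul, map_neg]
    abel
  have hall : ∀ g z, θ₀ (g.1.mulVec z) = act g (θ₀ z) := by
    intro g
    refine gen_induction (fun g => ∀ z, θ₀ (g.1.mulVec z) = act g (θ₀ z)) hu hl ?_ g
    intro g g' hg hg' z
    have : (g * g').1.mulVec z = g.1.mulVec (g'.1.mulVec z) := by
      rw [Matrix.mulVec_mulVec]; rfl
    rw [this, hg, hg', ha.mul]
  have ha0 : ∀ y, a y = 0 → y = 0 := by
    intro y hy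
    by_contra hne
    rw [k3 y hne] at hy
    apply hcne
    have : c = act ((nMat y * nMat (-1))⁻¹) (act (nMat y * nMat (-1)) c) := by
      rw [← ha.mul, inv_mul_cancel, ha.one]
    rw [this, hy, map_zero]
  have hinj : Function.Injective θ₀ := by
    rw [injective_iff_map_eq_zero]
    intro z hz
    rw [hθ] at hz
    have h1 : a (z 0) = 0 := by
      apply hint _ (haC1 _)
      have : a (z 0) = -b (z 1) := eq_neg_of_add_eq_zero_left hz
      rw [this]; exact (C2 act).neg_mem (hbC2 _)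
    have h2 : b (z 1) = 0 := by rw [h1, zero_add] at hz; exact hz
    have h3 : a (z 1) = 0 := by rw [← k8, h2, map_zero]
    ext i
    fin_cases i
    · exact ha0 _ h1
    · exact ha0 _ h3
  have hsurj : Function.Surjective θ₀ := by
    have hrange : θ₀.range = ⊤ := by
      rcases hirr θ₀.range (by
        rintro g _ ⟨z, rfl⟩
        exact ⟨g.1.mulVec z, hall g z⟩) with h | h
      · exfalso
        have hmem : c ∈ θ₀.range := ⟨![1, 0], by
          rw [hθ]
          simp only [Matrix.cons_val_zero, Matrix.cons_val_one]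
          rw [k4, map_zero, add_zero]⟩
        rw [h] at hmem
        exact hcne (AddSubgroup.mem_bot.1 hmem)
      · exact h
    exact AddMonoidHom.range_eq_top.1 hrange
  exact ⟨AddEquiv.ofBijective θ₀ ⟨hinj, hsurj⟩, fun g z => hall g z⟩

end main

end Cfsg.Agent.Lib.Helper16.SL2Quad
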