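import Mathlib
import Cfsg.Agent.Lib.Helper16.SL2Quad

set_option autoImplicit false

namespace Cfsg.Agent.Lib.Helper16.SL2Fpf

open Cfsg.Agent.S2301 Cfsg.Agent.Lib.Helper13 Cfsg.Agent.Lib.Helper13.SL2Syl
open Cfsg.Agent.Lib.Helper16.SL2Quad

variable {F : Type*} [Field F] {W : Type*} [AddCommGroup W]
variable {act : Matrix.SpecialLinearGroup (Fin 2) F → W →+ W}

theorem nMat_mulVec {t : F} (ht : t ≠ 0) (z : Fin 2 → F) :
    (nMat t).1.mulVec z = ![t * z 1, -t⁻¹ * z 0] := by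
  rw [nMat_val ht]
  ext i
  fin_cases i <;> simp [Matrix.mulVec, dotProduct, Fin.sum_univ_two]

theorem exists_theta (ha : IsAct act) (hint : ∀ w, w ∈ C1 act → w ∈ C2 act → w = 0)
    (hQ : ∀ t w, act (uMat t) w - w ∈ C1 act) {c : W} (hcC1 : c ∈ C1 act) :
    ∃ θ₀ : (Fin 2 → F) →+ W, (∀ g z, θ₀ (g.1.mulVec z) = act g (θ₀ z)) ∧ θ₀ ![1, 0] = c := by
  have h1ne : (1 : F) ≠ 0 := one_ne_zero
  have hm1ne : (-1 : F) ≠ 0 := neg_ne_zero.mpr one_ne_zero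
  have hnn : ∀ w, act (nMat 1) (act (nMat (-1)) w) = w := by
    intro w; rw [← ha.mul, nMat_one_neg, ha.one]
  have hDadd : ∀ x x' w,
      act (uMat (x + x')) w - w = (act (uMat x) w - w) + (act (uMat x') w - w) := by
    intro x x' w
    have h1 : act (uMat x) (act (uMat x') w - w) = act (uMat x') w - w := mem_C1.1 (hQ x' w) x
    have h2 : act (uMat (x + x')) w = act (uMat x) (act (uMat x') w) := by
      rw [← uMat_mul, ha.mul]
    have h3 : act (uMat x) (act (uMat x') w) = act (uMat x) w + (act (uMat x') w - w) := by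
      have e : act (uMat x) (act (uMat x') w) = act (uMat x) (w + (act (uMat x') w - w)) := by
        congr 1; abel
      rw [e, map_add, h1]
    rw [h2, h3]; abel
  obtain ⟨c₀, hc₀def⟩ : ∃ c₀, c₀ = act (nMat (-1)) c := ⟨_, rfl⟩
  have hc₀ : c₀ ∈ C2 act := by rw [hc₀def]; exact n_C1 ha hm1ne hcC1
  obtain ⟨a, hadef⟩ : ∃ a : F →+ W, ∀ x, a x = act (uMat x) c₀ - c₀ :=
    ⟨AddMonoidHom.mk' (fun x => act (uMat x) c₀ - c₀) (fun x x' => hDadd x x' c₀), fun x => rfl⟩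
  have haC1 : ∀ x, a x ∈ C1 act := fun x => by rw [hadef]; exact hQ x c₀
  obtain ⟨b, hbdef⟩ : ∃ b : F →+ W, ∀ y, b y = act (nMat (-1)) (a y) :=
    ⟨(act (nMat (-1))).comp a, fun y => rfl⟩
  have hbC2 : ∀ y, b y ∈ C2 act := fun y => by rw [hbdef]; exact n_C1 ha hm1ne (haC1 y)
  have k1 : ∀ c' ∈ C2 act, ∀ t : F, t ≠ 0 → act (nMat t) c' = act (uMat t) c' - c' :=
    fun c' hc' t ht => n_eq_D ha hint ht hc' (hQ t c')
  have k3 : ∀ y : F, y ≠ 0 → a y = act (nMat y * nMat (-1)) c := by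
    intro y hy
    rw [hadef, ← k1 c₀ hc₀ y hy, hc₀def, ha.mul]
  have k4 : a 1 = c := by rw [k3 1 h1ne, nMat_one_neg, ha.one]
  have k5 : ∀ t y : F, act (uMat t) (b y) - b y = a (t * y) := by
    intro t y
    by_cases ht : t = 0
    · rw [ht, uMat_zero, ha.one, sub_self, zero_mul, map_zero]
    by_cases hy : y = 0
    · rw [hy, map_zero, map_zero, sub_zero, mul_zero, map_zero]
    have e1 : act (nMat t) (b y) = act ((nMat t * nMat (-1)) * (nMat y * nMat (-1))) c := by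
      rw [hbdef, k3 y hy, ha.mul (nMat t * nMat (-1)), ha.mul (nMat t)]
    rw [← k1 (b y) (hbC2 y) t ht, e1, ← hMat_mul ht hy, ← k3 (t * y) (mul_ne_zero ht hy)]
  have k6 : ∀ y, act (nMat (-1)) (b y) = -a y := by
    intro y
    rw [k1 (b y) (hbC2 y) (-1) hm1ne, k5, neg_one_mul, map_neg]
  have k7 : ∀ z, act (nMat 1) (a z) = -b z := by
    intro z
    have h := congrArg (act (nMat 1)) (k6 z)
    rw [hnn, map_neg] at h
    rw [h, neg_neg]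
  have k8 : ∀ x, act (nMat 1) (b x) = a x := by
    intro x
    rw [hbdef, hnn]
  obtain ⟨θ₀, hθ⟩ : ∃ θ₀ : (Fin 2 → F) →+ W, ∀ z, θ₀ z = a (z 0) + b (z 1) :=
    ⟨a.comp (Pi.evalAddMonoidHom (fun _ : Fin 2 => F) 0) +
      b.comp (Pi.evalAddMonoidHom (fun _ : Fin 2 => F) 1), fun z => rfl⟩
  have hu : ∀ t z, θ₀ ((uMat t).1.mulVec z) = act (uMat t) (θ₀ z) := by
    intro t z
    rw [Cfsg.Agent.Lib.Helper16.NatSL2.uMat_mulVec, hθ, hθ]
    simp only [Matrix.cons_val_zero, Matrix.cons_val_one]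
    rw [map_add, map_add, mem_C1.1 (haC1 _) t, ← k5 t (z 1)]
    abel
  have hl : ∀ s z, θ₀ ((lMat s).1.mulVec z) = act (lMat s) (θ₀ z) := by
    intro s z
    rw [lMat_mulVec, hθ, hθ]
    simp only [Matrix.cons_val_zero, Matrix.cons_val_one]
    rw [lMat_eq_conj, ha.mul, ha.mul]
    have e1 : act (nMat (-1)) (a (z 0) + b (z 1)) = b (z 0) + -a (z 1) := by
      rw [map_add, k6, hbdef]
    have e2 : act (uMat (-s)) (b (z 0) + -a (z 1)) = b (z 0) + a (-s * z 0) + -a (z 1) := by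
      rw [map_add, map_neg, mem_C1.1 (haC1 _) (-s), ← k5 (-s) (z 0)]; abel
    have e3 : act (nMat 1) (b (z 0) + a (-s * z 0) + -a (z 1))
        = a (z 0) + -b (-s * z 0) + b (z 1) := by
      rw [map_add, map_add, map_neg, k8, k7, k7, neg_neg]
    rw [e1, e2, e3, map_add, neg_mul, map_neg]
    abel
  have hall : ∀ g z, θ₀ (g.1.mulVec z) = act g (θ₀ z) := by
    intro g
    refine gen_induction (fun g => ∀ z, θ₀ (g.1.mulVec z) = act g (θ₀ z)) hu hl ?_ g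
    intro g g' hg hg' z
    have : (g * g').1.mulVec z = g.1.mulVec (g'.1.mulVec z) := by
      rw [Matrix.mulVec_mulVec]; rfl
    rw [this, hg, hg', ha.mul]
  refine ⟨θ₀, hall, ?_⟩
  rw [hθ]
  simp only [Matrix.cons_val_zero, Matrix.cons_val_one]
  rw [k4, map_zero, add_zero]

theorem trace_of_fix (ha : IsAct act) (hint : ∀ w, w ∈ C1 act → w ∈ C2 act → w = 0)
    (hQ : ∀ t w, act (uMat t) w - w ∈ C1 act)
    (hsum : ∀ v, ∃ c₁ ∈ C1 act, ∃ c₂ ∈ C2 act, v = c₁ + c₂)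
    (g : Matrix.SpecialLinearGroup (Fin 2) F) {v : W} (hv : v ≠ 0) (hfix : act g v = v) :
    g.1 0 0 + g.1 1 1 = 2 := by
  obtain ⟨c₁, hc₁, c₂', hc₂', rfl⟩ := hsum v
  have h1ne : (1 : F) ≠ 0 := one_ne_zero
  have hm1ne : (-1 : F) ≠ 0 := neg_ne_zero.mpr one_ne_zero
  obtain ⟨c₂, hc₂def⟩ : ∃ c₂, c₂ = act (nMat 1) c₂' := ⟨_, rfl⟩
  have hc₂ : c₂ ∈ C1 act := by rw [hc₂def]; exact n_C2 ha h1ne hc₂'
  obtain ⟨θ₁, hθ₁, hθ₁c⟩ := exists_theta ha hint hQ hc₁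
  obtain ⟨θ₂, hθ₂, hθ₂c⟩ := exists_theta ha hint hQ hc₂
  have hback : act (nMat (-1)) c₂ = c₂' := by
    rw [hc₂def, ← ha.mul, nMat_neg_one, ha.one]
  have hc₂'eq : c₂' = θ₂ ![0, 1] := by
    rw [← hback, ← hθ₂c, ← hθ₂, nMat_mulVec hm1ne]
    congr 1
    ext i; fin_cases i <;> simp
  -- general facts for an equivariant θ
  have hT1 : ∀ θ : (Fin 2 → F) →+ W, (∀ g z, θ (g.1.mulVec z) = act g (θ z)) →
      ∀ x, θ ![x, 0] ∈ C1 act := by
    intro θ hθ x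
    rw [mem_C1]
    intro t
    rw [← hθ, Cfsg.Agent.Lib.Helper16.NatSL2.uMat_mulVec]
    congr 1
    ext i; fin_cases i <;> simp
  have hT2 : ∀ θ : (Fin 2 → F) →+ W, (∀ g z, θ (g.1.mulVec z) = act g (θ z)) →
      ∀ y, θ ![0, y] ∈ C2 act := by
    intro θ hθ y
    rw [mem_C2]
    intro s
    rw [← hθ, lMat_mulVec]
    congr 1
    ext i; fin_cases i <;> simp
  have hsplit : ∀ θ : (Fin 2 → F) →+ W, ∀ x y, θ ![x, y] = θ ![x, 0] + θ ![0, y] := by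
    intro θ x y
    rw [← map_add]
    congr 1
    ext i; fin_cases i <;> simp
  -- the scaling operator
  obtain ⟨D, hDdef⟩ : ∃ D : F → W →+ W, ∀ l w, D l w = act (nMat l) (act (nMat (-1)) w) :=
    ⟨fun l => (act (nMat l)).comp (act (nMat (-1))), fun l w => rfl⟩
  have hDθ : ∀ θ : (Fin 2 → F) →+ W, (∀ g z, θ (g.1.mulVec z) = act g (θ z)) →
      ∀ l : F, l ≠ 0 → ∀ x, θ ![l * x, 0] = D l (θ ![x, 0]) := by
    intro θ hθ l hl x
    rw [hDdef, ← hθ, ← hθ, nMat_mulVec hm1ne, nMat_mulVec hl]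
    congr 1
    ext i; fin_cases i <;> simp
  have hscale : ∀ l x y : F, θ₁ ![x, 0] + θ₂ ![y, 0] = 0 →
      θ₁ ![l * x, 0] + θ₂ ![l * y, 0] = 0 := by
    intro l x y h
    by_cases hl : l = 0
    · have e : (![0, 0] : Fin 2 → F) = 0 := by ext i; fin_cases i <;> simp
      rw [hl, zero_mul, zero_mul, e, map_zero, map_zero, add_zero]
    · rw [hDθ θ₁ hθ₁ l hl, hDθ θ₂ hθ₂ l hl, ← map_add, h, map_zero]
  have hDinj : ∀ l : F, l ≠ 0 → ∀ w, D l w = 0 → w = 0 := by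
    intro l hl w hw
    rw [hDdef, ← ha.mul] at hw
    have : w = act ((nMat l * nMat (-1))⁻¹) (act (nMat l * nMat (-1)) w) := by
      rw [← ha.mul, inv_mul_cancel, ha.one]
    rw [this, hw, map_zero]
  -- the fixed point equations
  have hg1 : g.1.mulVec ![1, 0] = ![g.1 0 0, g.1 1 0] := by
    ext i; fin_cases i <;> simp [Matrix.mulVec, dotProduct, Fin.sum_univ_two]
  have hg2 : g.1.mulVec ![0, 1] = ![g.1 0 1, g.1 1 1] := by
    ext i; fin_cases i <;> simp [Matrix.mulVec, dotProduct, Fin.sum_univ_two]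
  have hfix' : (θ₁ ![g.1 0 0, 0] + θ₂ ![g.1 0 1, 0] - θ₁ ![1, 0])
      + (θ₁ ![0, g.1 1 0] + θ₂ ![0, g.1 1 1] - θ₂ ![0, 1]) = 0 := by
    have h1 : act g (c₁ + c₂') = θ₁ ![g.1 0 0, g.1 1 0] + θ₂ ![g.1 0 1, g.1 1 1] := by
      rw [map_add, ← hθ₁c, hc₂'eq, ← hθ₁, ← hθ₂, hg1, hg2]
    rw [h1, hsplit θ₁, hsplit θ₂] at hfix
    have h2 : c₁ + c₂' = θ₁ ![1, 0] + θ₂ ![0, 1] := by rw [hθ₁c, ← hc₂'eq]
    rw [h2] at hfix
    rw [← sub_eq_zero] at hfix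
    rw [← hfix]; abel
  have hP : θ₁ ![g.1 0 0, 0] + θ₂ ![g.1 0 1, 0] - θ₁ ![1, 0] ∈ C1 act :=
    (C1 act).sub_mem ((C1 act).add_mem (hT1 θ₁ hθ₁ _) (hT1 θ₂ hθ₂ _)) (hT1 θ₁ hθ₁ _)
  have hP2 : θ₁ ![0, g.1 1 0] + θ₂ ![0, g.1 1 1] - θ₂ ![0, 1] ∈ C2 act :=
    (C2 act).sub_mem ((C2 act).add_mem (hT2 θ₁ hθ₁ _) (hT2 θ₂ hθ₂ _)) (hT2 θ₂ hθ₂ _)
  have hE1' : θ₁ ![g.1 0 0, 0] + θ₂ ![g.1 0 1, 0] - θ₁ ![1, 0] = 0 := by
    apply hint _ hP
    have : θ₁ ![g.1 0 0, 0] + θ₂ ![g.1 0 1, 0] - θ₁ ![1, 0]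
        = -(θ₁ ![0, g.1 1 0] + θ₂ ![0, g.1 1 1] - θ₂ ![0, 1]) := eq_neg_of_add_eq_zero_left hfix'
    rw [this]; exact (C2 act).neg_mem hP2
  have hE2' : θ₁ ![0, g.1 1 0] + θ₂ ![0, g.1 1 1] - θ₂ ![0, 1] = 0 := by
    rw [hE1', zero_add] at hfix'; exact hfix'
  have hsub : ∀ θ : (Fin 2 → F) →+ W, ∀ x y : F, θ ![x - y, 0] = θ ![x, 0] - θ ![y, 0] := by
    intro θ x y
    rw [← map_sub]
    congr 1
    ext i; fin_cases i <;> simp
  have hsub2 : ∀ θ : (Fin 2 → F) →+ W, ∀ x y : F, θ ![0, x - y] = θ ![0, x] - θ ![0, y] := by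
    intro θ x y
    rw [← map_sub]
    congr 1
    ext i; fin_cases i <;> simp
  have hE1 : θ₁ ![g.1 0 0 - 1, 0] + θ₂ ![g.1 0 1, 0] = 0 := by
    rw [hsub, ← hE1']; abel
  have hE2 : θ₁ ![0, g.1 1 0] + θ₂ ![0, g.1 1 1 - 1] = 0 := by
    rw [hsub2, ← hE2']; abel
  have hswap : ∀ θ : (Fin 2 → F) →+ W, (∀ g z, θ (g.1.mulVec z) = act g (θ z)) →
      ∀ y, θ ![y, 0] = act (nMat 1) (θ ![0, y]) := by
    intro θ hθ y
    rw [← hθ, nMat_mulVec h1ne]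
    congr 1
    ext i; fin_cases i <;> simp
  have hE3 : θ₁ ![g.1 1 0, 0] + θ₂ ![g.1 1 1 - 1, 0] = 0 := by
    rw [hswap θ₁ hθ₁, hswap θ₂ hθ₂, ← map_add, hE2, map_zero]
  have hdet : g.1 0 0 * g.1 1 1 - g.1 0 1 * g.1 1 0 = 1 := by
    rw [← Matrix.det_fin_two]; exact g.2
  by_contra htr
  obtain ⟨δ, hδdef⟩ : ∃ δ : F, δ = 2 - (g.1 0 0 + g.1 1 1) := ⟨_, rfl⟩
  have hδ : δ ≠ 0 := by
    rw [hδdef]
    intro h0
    exact htr (sub_eq_zero.1 h0).symm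
  -- eliminate
  have hA1 := hscale (g.1 1 1 - 1) _ _ hE1
  have hA2 := hscale (g.1 0 1) _ _ hE3
  have hB1 := hscale (g.1 1 0) _ _ hE1
  have hB2 := hscale (g.1 0 0 - 1) _ _ hE3
  have hc₁0 : θ₁ ![δ, 0] = 0 := by
    have e1 : δ = (g.1 1 1 - 1) * (g.1 0 0 - 1) - g.1 0 1 * g.1 1 0 := by
      rw [hδdef]; linear_combination (-1 : F) * hdet
    have e2 : (g.1 1 1 - 1) * g.1 0 1 = g.1 0 1 * (g.1 1 1 - 1) := mul_comm _ _
    rw [e1, hsub]
    rw [e2] at hA1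
    have : θ₁ ![(g.1 1 1 - 1) * (g.1 0 0 - 1), 0] - θ₁ ![g.1 0 1 * g.1 1 0, 0]
        = (θ₁ ![(g.1 1 1 - 1) * (g.1 0 0 - 1), 0] + θ₂ ![g.1 0 1 * (g.1 1 1 - 1), 0])
          - (θ₁ ![g.1 0 1 * g.1 1 0, 0] + θ₂ ![g.1 0 1 * (g.1 1 1 - 1), 0]) := by abel
    rw [this, hA1, hA2, sub_zero]
  have hc₂0 : θ₂ ![δ, 0] = 0 := by
    have e1 : δ = (g.1 0 0 - 1) * (g.1 1 1 - 1) - g.1 1 0 * g.1 0 1 := by
      rw [hδdef]; linear_combination (-1 : F) * hdet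
    have e2 : (g.1 0 0 - 1) * g.1 1 0 = g.1 1 0 * (g.1 0 0 - 1) := mul_comm _ _
    rw [e1, hsub]
    rw [e2] at hB2
    have : θ₂ ![(g.1 0 0 - 1) * (g.1 1 1 - 1), 0] - θ₂ ![g.1 1 0 * g.1 0 1, 0]
        = (θ₁ ![g.1 1 0 * (g.1 0 0 - 1), 0] + θ₂ ![(g.1 0 0 - 1) * (g.1 1 1 - 1), 0])
          - (θ₁ ![g.1 1 0 * (g.1 0 0 - 1), 0] + θ₂ ![g.1 1 0 * g.1 0 1, 0]) := by abel
    rw [this, hB2, hB1, sub_zero]
  have hc₁z : c₁ = 0 := by
    apply hDinj δ hδ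
    have := hDθ θ₁ hθ₁ δ hδ 1
    rw [mul_one, hθ₁c] at this
    rw [← this]; exact hc₁0
  have hc₂z : c₂ = 0 := by
    apply hDinj δ hδ
    have := hDθ θ₂ hθ₂ δ hδ 1
    rw [mul_one, hθ₂c] at this
    rw [← this]; exact hc₂0
  apply hv
  rw [hc₁z, ← hback, hc₂z, map_zero, add_zero]

theorem pow_eq_one_of_trace {p : ℕ} [Fact p.Prime] [CharP F p]
    (g : Matrix.SpecialLinearGroup (Fin 2) F) (htr : g.1 0 0 + g.1 1 1 = 2) : g ^ p = 1 := by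
  have hdet : g.1 0 0 * g.1 1 1 - g.1 0 1 * g.1 1 0 = 1 := by
    rw [← Matrix.det_fin_two]; exact g.2
  have hsq : (g.1 - 1) * (g.1 - 1) = 0 := by
    ext i j
    fin_cases i <;> fin_cases j
    · simp only [Matrix.mul_apply, Fin.sum_univ_two, Matrix.sub_apply, Matrix.one_apply_eq,
        Matrix.zero_apply, Fin.zero_eta, Fin.mk_one, Fin.isValue, ne_eq, zero_ne_one,
        one_ne_zero, not_false_eq_true, Matrix.one_apply_ne, sub_zero]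
      linear_combination (g.1 0 0) * htr - hdet
    · simp only [Matrix.mul_apply, Fin.sum_univ_two, Matrix.sub_apply, Matrix.one_apply_eq,
        Matrix.zero_apply, Fin.zero_eta, Fin.mk_one, Fin.isValue, ne_eq, zero_ne_one,
        one_ne_zero, not_false_eq_true, Matrix.one_apply_ne, sub_zero]
      linear_combination (g.1 0 1) * htr
    · simp only [Matrix.mul_apply, Fin.sum_univ_two, Matrix.sub_apply, Matrix.one_apply_eq,
        Matrix.zero_apply, Fin.zero_eta, Fin.mk_one, Fin.isValue, ne_eq, zero_ne_one,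
        one_ne_zero, not_false_eq_true, Matrix.one_apply_ne, sub_zero]
      linear_combination (g.1 1 0) * htr
    · simp only [Matrix.mul_apply, Fin.sum_univ_two, Matrix.sub_apply, Matrix.one_apply_eq,
        Matrix.zero_apply, Fin.zero_eta, Fin.mk_one, Fin.isValue, ne_eq, zero_ne_one,
        one_ne_zero, not_false_eq_true, Matrix.one_apply_ne, sub_zero]
      linear_combination (g.1 1 1) * htr - hdet
  have h1 : (g.1 - 1) ^ p = g.1 ^ p - 1 := by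
    have := sub_pow_char_of_commute (Commute.one_right g.1) (p := p)
    rw [one_pow] at this; exact this
  have h2 : (g.1 - 1) ^ p = 0 := by
    have hp2 : 2 ≤ p := (Fact.out : p.Prime).two_le
    obtain ⟨k, rfl⟩ : ∃ k, p = 2 + k := ⟨p - 2, by omega⟩
    rw [pow_add, pow_two, hsq, zero_mul]
  have h3 : g.1 ^ p = 1 := by rw [h1] at h2; exact sub_eq_zero.1 h2
  apply Subtype.ext
  rw [Matrix.SpecialLinearGroup.coe_pow]
  exact h3

end Cfsg.Agent.Lib.Helper16.SL2Fpf
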