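import Mathlib
import Cfsg.Agent.Lib.Helper16.FrakL1
import Cfsg.Agent.Lib.Helper16.SL2Fpf
import Cfsg.Agent.Lib.Helper21.BaerSuzuki

set_option autoImplicit false

namespace Cfsg.Agent.Lib.Helper16.FrakL

open Cfsg.Agent.S2301 Cfsg.Agent.Lib.Helper13 Cfsg.Agent.Lib.Helper13.SL2Syl
open Cfsg.Agent.Lib.Helper16.SL2Quad Cfsg.Agent.Lib.Helper16.SL2Fpf
open Cfsg.Agent.Lib.Helper16.Basic

variable {H : Type*} [Group H] {A Y C : Subgroup H}

/-- conjugation by `x` on the normal subgroup `A`. -/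
def cA (S : Setup A Y C) (x : H) : ↥A →* ↥A where
  toFun a := ⟨x * a * x⁻¹, S.An x a a.2⟩
  map_one' := Subtype.ext (by
    show x * ((1 : ↥A) : H) * x⁻¹ = ((1 : ↥A) : H)
    simp)
  map_mul' a b := Subtype.ext (by
    show x * ((a : H) * b) * x⁻¹ = (x * a * x⁻¹) * (x * b * x⁻¹)
    group)

theorem cA_coe (S : Setup A Y C) (x : H) (a : ↥A) : ((cA S x a : ↥A) : H) = x * a * x⁻¹ := rfl

theorem normal_CA (S : Setup A Y C) : (C.subgroupOf A).Normal := by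
  constructor
  intro c hc a
  rw [Subgroup.mem_subgroupOf] at hc ⊢
  have h1 := S.CZ _ hc (a : H)
  have e : ((a * c * a⁻¹ : ↥A) : H) = (c : H) := by
    show (a : H) * c * (a : H)⁻¹ = c
    rw [h1]; group
  rw [e]; exact hc

theorem exists_aligned {p : ℕ} [Fact p.Prime] {F : Type*} [Field F] [Fintype F] [CharP F p]
    (φ₀ : H →* Matrix.SpecialLinearGroup (Fin 2) F) (hφ₀ : Function.Surjective φ₀)
    (hYp : IsPGroup p Y) (hcard : Nat.card (Y.map φ₀) = Fintype.card F) :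
    ∃ φ : H →* Matrix.SpecialLinearGroup (Fin 2) F, Function.Surjective φ ∧ φ.ker = φ₀.ker ∧
      (∀ t, ∃ y ∈ Y, φ y = uMat t) ∧ (∀ y ∈ Y, ∃ t, φ y = uMat t) := by
  classical
  have hE : IsPGroup p (Y.map φ₀) := hYp.map φ₀
  obtain ⟨P, hP⟩ := hE.exists_le_sylow
  obtain ⟨P₀, hP₀⟩ := exists_sylow_US (F := F) p
  obtain ⟨g₀, hg₀⟩ := MulAction.exists_smul_eq (Matrix.SpecialLinearGroup (Fin 2) F) P P₀
  obtain ⟨φ, hφdef⟩ : ∃ φ : H →* Matrix.SpecialLinearGroup (Fin 2) F,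
      ∀ x, φ x = g₀ * φ₀ x * g₀⁻¹ :=
    ⟨(MulAut.conj g₀).toMonoidHom.comp φ₀, fun x => rfl⟩
  have h2 : ∀ y ∈ Y, φ y ∈ US F := by
    intro y hy
    have h1 : φ y ∈ (g₀ • P : Sylow p (Matrix.SpecialLinearGroup (Fin 2) F)) := by
      rw [Cfsg.Agent.Lib.Helper21.BaerSuzuki.mem_smul_sylow, hφdef]
      have e : g₀⁻¹ * (g₀ * φ₀ y * g₀⁻¹) * g₀ = φ₀ y := by group
      rw [e]
      exact hP (Subgroup.mem_map_of_mem φ₀ hy)
    rw [hg₀] at h1
    rw [← hP₀]; exact h1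
  have hle : Y.map φ ≤ US F := by
    rintro _ ⟨y, hy, rfl⟩
    exact h2 y hy
  have hmap : Y.map φ = (Y.map φ₀).map (MulAut.conj g₀).toMonoidHom := by
    ext z
    constructor
    · rintro ⟨y, hy, rfl⟩
      exact ⟨φ₀ y, Subgroup.mem_map_of_mem φ₀ hy, (hφdef y).symm⟩
    · rintro ⟨_, ⟨y, hy, rfl⟩, rfl⟩
      exact ⟨y, hy, hφdef y⟩
  have hcard2 : Nat.card (Y.map φ) = Fintype.card F := by
    rw [hmap, card_conj, hcard]
  haveI : Finite (US F) := Nat.finite_of_card_ne_zero (by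
    rw [card_US]; exact Fintype.card_ne_zero)
  have heq : Y.map φ = US F := by
    apply Subgroup.eq_of_le_of_card_ge hle
    rw [hcard2, card_US]
  refine ⟨φ, ?_, ?_, ?_, ?_⟩
  · intro z
    obtain ⟨x, hx⟩ := hφ₀ (g₀⁻¹ * z * g₀)
    refine ⟨x, ?_⟩
    rw [hφdef, hx]; group
  · ext x
    rw [MonoidHom.mem_ker, MonoidHom.mem_ker, hφdef]
    constructor
    · intro h
      have : φ₀ x = g₀⁻¹ * (g₀ * φ₀ x * g₀⁻¹) * g₀ := by group
      rw [this, h]; group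
    · intro h
      rw [h]; group
  · intro t
    have : uMat t ∈ Y.map φ := by rw [heq]; exact uMat_mem t
    obtain ⟨y, hy, hyt⟩ := this
    exact ⟨y, hy, hyt⟩
  · intro y hy
    exact exists_of_mem_US (h2 y hy)

theorem fpf_of_SL2 [Finite H] (S : Setup A Y C) {p : ℕ} [Fact p.Prime] (hAp : IsPGroup p A)
    {F : Type*} [Field F] [CharP F p]
    (φ : H →* Matrix.SpecialLinearGroup (Fin 2) F) (hφ : Function.Surjective φ)
    (hker : φ.ker = A)
    (hYU1 : ∀ t, ∃ y ∈ Y, φ y = uMat t) (hYU2 : ∀ y ∈ Y, ∃ t, φ y = uMat t)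
    (h : H) (hnp : ¬ ∃ k : ℕ, orderOf h = p ^ k) (a : H) (ha : a ∈ A)
    (hfix : h * a * h⁻¹ * a⁻¹ ∈ C) : a ∈ C := by
  classical
  by_contra haC
  have hpp : p.Prime := Fact.out
  haveI hCn : (C.subgroupOf A).Normal := normal_CA S
  letI cQ : CommGroup (↥A ⧸ C.subgroupOf A) :=
    { (inferInstance : Group (↥A ⧸ C.subgroupOf A)) with
      mul_comm := by
        intro u v
        induction u using QuotientGroup.induction_on with
        | H u =>
          induction v using QuotientGroup.induction_on with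
          | H v =>
            rw [← QuotientGroup.mk_mul, ← QuotientGroup.mk_mul, QuotientGroup.eq,
              Subgroup.mem_subgroupOf]
            have := S.comm_C _ (A.inv_mem v.2) _ (A.inv_mem u.2)
            have e : (((u * v)⁻¹ * (v * u) : ↥A) : H)
                = (v : H)⁻¹ * (u : H)⁻¹ * (v : H)⁻¹⁻¹ * (u : H)⁻¹⁻¹ := by
              show ((u : H) * v)⁻¹ * ((v : H) * u) = _
              group
            rw [e]; exact this }
  have hle : ∀ x : H, C.subgroupOf A ≤ (C.subgroupOf A).comap (cA S x) := by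
    intro x c hc
    rw [Subgroup.mem_subgroupOf] at hc
    rw [Subgroup.mem_comap, Subgroup.mem_subgroupOf, cA_coe]
    have h1 := S.CZ _ hc x
    rw [h1]
    have e : (c : H) * x * x⁻¹ = c := by group
    rw [e]; exact hc
  obtain ⟨cq, hcq⟩ : ∃ cq : H → (↥A ⧸ C.subgroupOf A) →* (↥A ⧸ C.subgroupOf A),
      ∀ x (u : ↥A), cq x (QuotientGroup.mk u) = QuotientGroup.mk (cA S x u) :=
    ⟨fun x => QuotientGroup.map (C.subgroupOf A) (C.subgroupOf A) (cA S x) (hle x),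
      fun x u => rfl⟩
  obtain ⟨σ, hσ⟩ : ∃ σ : Matrix.SpecialLinearGroup (Fin 2) F → H, ∀ g, φ (σ g) = g :=
    ⟨Function.surjInv hφ, Function.surjInv_eq hφ⟩
  obtain ⟨act, hact⟩ : ∃ act : Matrix.SpecialLinearGroup (Fin 2) F →
      Additive (↥A ⧸ C.subgroupOf A) →+ Additive (↥A ⧸ C.subgroupOf A),
      ∀ g (u : ↥A), act g (Additive.ofMul (QuotientGroup.mk u)) =
        Additive.ofMul (QuotientGroup.mk (cA S (σ g) u)) :=
    ⟨fun g => MonoidHom.toAdditive (cq (σ g)), fun g u => by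
      show Additive.ofMul (cq (σ g) (QuotientGroup.mk u)) = _
      rw [hcq]⟩
  have hrep : ∀ w : Additive (↥A ⧸ C.subgroupOf A), ∃ u : ↥A,
      w = Additive.ofMul (QuotientGroup.mk u) := by
    intro w
    obtain ⟨u, hu⟩ := QuotientGroup.mk_surjective (Additive.toMul w)
    exact ⟨u, by rw [hu]; rfl⟩
  have hactx : ∀ (x : H) (u : ↥A), act (φ x) (Additive.ofMul (QuotientGroup.mk u)) =
      Additive.ofMul (QuotientGroup.mk (cA S x u)) := by
    intro x u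
    rw [hact]
    congr 1
    rw [QuotientGroup.eq, Subgroup.mem_subgroupOf]
    obtain ⟨x', hx'⟩ : ∃ x', x' = σ (φ x) := ⟨_, rfl⟩
    rw [← hx']
    have ha₁ : x'⁻¹ * x ∈ A := by
      rw [← hker, MonoidHom.mem_ker, map_mul, map_inv, hx', hσ]; group
    have hc := S.comm_C _ (A.inv_mem u.2) _ ha₁
    have h1 := S.CZ _ hc x'
    have e : (((cA S x' u)⁻¹ * cA S x u : ↥A) : H)
        = x' * ((u : H)⁻¹ * (x'⁻¹ * x) * (u : H)⁻¹⁻¹ * (x'⁻¹ * x)⁻¹) * x'⁻¹ := by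
      show (x' * (u : H) * x'⁻¹)⁻¹ * (x * (u : H) * x⁻¹) = _
      group
    rw [e, h1]
    have e2 : (u : H)⁻¹ * (x'⁻¹ * x) * (u : H)⁻¹⁻¹ * (x'⁻¹ * x)⁻¹ * x' * x'⁻¹
        = (u : H)⁻¹ * (x'⁻¹ * x) * (u : H)⁻¹⁻¹ * (x'⁻¹ * x)⁻¹ := by group
    rw [e2]; exact hc
  have hIsAct : IsAct act := by
    refine ⟨?_, ?_⟩
    · intro w
      obtain ⟨u, rfl⟩ := hrep w
      have h1 := hactx 1 u
      rw [map_one] at h1
      rw [h1]
      congr 2
      apply Subtype.ext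
      rw [cA_coe]; group
    · intro g g' w
      obtain ⟨u, rfl⟩ := hrep w
      have h1 := hactx (σ g * σ g') u
      rw [map_mul, hσ, hσ] at h1
      rw [h1, hact g', hact g]
      congr 2
      apply Subtype.ext
      rw [cA_coe, cA_coe, cA_coe]; group
  have hfixgen : ∀ (Y₁ : Subgroup H) (S₁ : Setup A Y₁ C) (u : ↥A),
      (∀ y ∈ Y₁, act (φ y) (Additive.ofMul (QuotientGroup.mk u)) =
        Additive.ofMul (QuotientGroup.mk u)) ↔ (u : H) ∈ Y₁ := by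
    intro Y₁ S₁ u
    constructor
    · intro hx
      apply S₁.fix_Y u.2
      intro y hy
      have h1 := hx y hy
      rw [hactx] at h1
      have h2 : (QuotientGroup.mk (cA S y u) : ↥A ⧸ C.subgroupOf A) = QuotientGroup.mk u :=
        Additive.ofMul.injective h1
      rw [QuotientGroup.eq, Subgroup.mem_subgroupOf] at h2
      have h3 : (y * (u : H) * y⁻¹)⁻¹ * (u : H) ∈ C := h2
      have hc := S.CZ _ (C.inv_mem h3) (u : H)
      have e : y * (u : H) * y⁻¹ * (u : H)⁻¹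
          = (u : H) * ((y * (u : H) * y⁻¹)⁻¹ * (u : H))⁻¹ * (u : H)⁻¹ := by group
      rw [e, hc]
      have e2 : ((y * (u : H) * y⁻¹)⁻¹ * (u : H))⁻¹ * (u : H) * (u : H)⁻¹
          = ((y * (u : H) * y⁻¹)⁻¹ * (u : H))⁻¹ := by group
      rw [e2]; exact C.inv_mem h3
    · intro hu y hy
      rw [hactx]
      congr 2
      apply Subtype.ext
      rw [cA_coe, S₁.Yc y hy u hu]; group
  have hC1 : ∀ u : ↥A, Additive.ofMul (QuotientGroup.mk u) ∈ C1 act ↔ (u : H) ∈ Y := by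
    intro u
    rw [mem_C1, ← hfixgen Y S u]
    constructor
    · intro h y hy
      obtain ⟨t, ht⟩ := hYU2 y hy
      rw [ht]; exact h t
    · intro h t
      obtain ⟨y, hy, hyt⟩ := hYU1 t
      rw [← hyt]; exact h y hy
  obtain ⟨g', hg'⟩ := hφ (nMat 1)
  have S' := S.conj g'
  have hninv : (nMat (1 : F))⁻¹ = nMat (-1) := inv_eq_of_mul_eq_one_right nMat_one_neg
  have hY'1 : ∀ s, ∃ y' ∈ cjs g' Y, φ y' = lMat s := by
    intro s
    obtain ⟨y, hy, hyt⟩ := hYU1 (-s)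
    refine ⟨g' * y * g'⁻¹, conj_mem_cjs hy, ?_⟩
    rw [map_mul, map_mul, map_inv, hg', hyt, hninv, lMat_eq_conj]
  have hY'2 : ∀ y' ∈ cjs g' Y, ∃ s, φ y' = lMat s := by
    intro y' hy'
    rw [mem_cjs] at hy'
    obtain ⟨t, ht⟩ := hYU2 _ hy'
    refine ⟨-t, ?_⟩
    rw [lMat_eq_conj, neg_neg, ← ht, map_mul, map_mul, map_inv, hg', hninv]
    have e : nMat 1 * (nMat (-1) * φ y' * nMat 1) * nMat (-1)
        = (nMat 1 * nMat (-1)) * φ y' * (nMat 1 * nMat (-1)) := by group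
    rw [e, nMat_one_neg]; group
  have hC2 : ∀ u : ↥A, Additive.ofMul (QuotientGroup.mk u) ∈ C2 act ↔ (u : H) ∈ cjs g' Y := by
    intro u
    rw [mem_C2, ← hfixgen (cjs g' Y) S' u]
    constructor
    · intro h y hy
      obtain ⟨t, ht⟩ := hY'2 y hy
      rw [ht]; exact h t
    · intro h t
      obtain ⟨y, hy, hyt⟩ := hY'1 t
      rw [← hyt]; exact h y hy
  have hgp : GenPair Y g' := by
    apply S.genPair_of_not
    intro hcon
    obtain ⟨y, hy, hyt⟩ := hYU1 (-1)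
    obtain ⟨y', hy', hyt'⟩ := hYU1 1
    have h1 := hcon y hy y' hy'
    obtain ⟨t, ht⟩ := hYU2 _ h1
    have h2 : φ (g' * y * g'⁻¹) = lMat 1 := by
      rw [map_mul, map_mul, map_inv, hg', hyt, hninv, lMat_eq_conj]
    rw [map_mul, map_mul, map_inv, h2, hyt'] at ht
    have h3 : lMat (1 : F) * uMat 1 = uMat t * lMat 1 := by
      rw [← ht]; group
    have h4 := congrArg (fun m : Matrix.SpecialLinearGroup (Fin 2) F => m.1 1 1) h3
    simp [Matrix.SpecialLinearGroup.coe_mul, uMat_val, lMat_val, Matrix.mul_apply,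
      Fin.sum_univ_two] at h4
  have hQ : ∀ t w, act (uMat t) w - w ∈ C1 act := by
    intro t w
    obtain ⟨u, rfl⟩ := hrep w
    obtain ⟨y, hy, hyt⟩ := hYU1 t
    rw [← hyt, hactx]
    have e : Additive.ofMul (QuotientGroup.mk (cA S y u) : ↥A ⧸ C.subgroupOf A)
        - Additive.ofMul (QuotientGroup.mk u)
        = Additive.ofMul (QuotientGroup.mk (cA S y u * u⁻¹)) := by
      rw [QuotientGroup.mk_mul, QuotientGroup.mk_inv, ← div_eq_mul_inv]; rfl
    rw [e, hC1]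
    exact S.comm_mem_Y hy u.2
  have hint : ∀ w, w ∈ C1 act → w ∈ C2 act → w = 0 := by
    intro w h1 h2
    obtain ⟨u, rfl⟩ := hrep w
    have h3 := S.inter_mem hgp ((hC1 u).1 h1) ((hC2 u).1 h2)
    have h4 : (QuotientGroup.mk u : ↥A ⧸ C.subgroupOf A) = 1 :=
      (QuotientGroup.eq_one_iff u).2 (Subgroup.mem_subgroupOf.2 h3)
    rw [h4]; rfl
  have hsum : ∀ v, ∃ c₁ ∈ C1 act, ∃ c₂ ∈ C2 act, v = c₁ + c₂ := by
    intro v
    obtain ⟨u, rfl⟩ := hrep v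
    obtain ⟨b, b', hb, hbA, hb', hb'A, hbb⟩ := S.exists_mul hgp u u.2
    refine ⟨Additive.ofMul (QuotientGroup.mk ⟨b, hbA⟩), (hC1 _).2 hb,
      Additive.ofMul (QuotientGroup.mk ⟨b', hb'A⟩), (hC2 _).2 hb', ?_⟩
    have e : u = ⟨b, hbA⟩ * ⟨b', hb'A⟩ := Subtype.ext hbb
    conv_lhs => rw [e]
    rfl
  have hw : Additive.ofMul (QuotientGroup.mk (⟨a, ha⟩ : ↥A) : ↥A ⧸ C.subgroupOf A) ≠ 0 := by
    intro h0
    have h1 : (QuotientGroup.mk (⟨a, ha⟩ : ↥A) : ↥A ⧸ C.subgroupOf A) = 1 := h0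
    rw [QuotientGroup.eq_one_iff, Subgroup.mem_subgroupOf] at h1
    exact haC h1
  have hfixw : act (φ h) (Additive.ofMul (QuotientGroup.mk (⟨a, ha⟩ : ↥A)))
      = Additive.ofMul (QuotientGroup.mk (⟨a, ha⟩ : ↥A)) := by
    rw [hactx]
    congr 1
    rw [QuotientGroup.eq, Subgroup.mem_subgroupOf]
    have hc := S.CZ _ (C.inv_mem hfix) a⁻¹
    have e : (((cA S h ⟨a, ha⟩)⁻¹ * ⟨a, ha⟩ : ↥A) : H) = a⁻¹ * (h * a * h⁻¹ * a⁻¹)⁻¹ * a := by
      show (h * a * h⁻¹)⁻¹ * a = _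
      group
    rw [e, hc]
    have e2 : (h * a * h⁻¹ * a⁻¹)⁻¹ * a⁻¹ * a = (h * a * h⁻¹ * a⁻¹)⁻¹ := by group
    rw [e2]; exact C.inv_mem hfix
  have htr := trace_of_fix hIsAct hint hQ hsum (φ h) hw hfixw
  have hpow : φ h ^ p = 1 := pow_eq_one_of_trace (p := p) (φ h) htr
  have hA' : h ^ p ∈ A := by
    rw [← hker, MonoidHom.mem_ker, map_pow]; exact hpow
  obtain ⟨j, hj⟩ := hAp ⟨h ^ p, hA'⟩
  have hj' : (h ^ p) ^ p ^ j = 1 := by simpa using congrArg Subtype.val hj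
  rw [← pow_mul, ← pow_succ'] at hj'
  have hdvd := orderOf_dvd_of_pow_eq_one hj'
  obtain ⟨k, -, hk⟩ := (Nat.dvd_prime_pow hpp).1 hdvd
  exact hnp ⟨k, hk⟩

end Cfsg.Agent.Lib.Helper16.FrakL
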