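import Mathlib
import Cfsg.Agent.Lib.Helper14.SzLink
import Cfsg.Agent.Lib.Helper16.NatSL2
import Cfsg.Agent.Lib.Helper16.FrakL2

set_option autoImplicit false

namespace Cfsg.Agent.Lib.Helper16.FrakL

open Matrix Cfsg.Agent.Lib.Helper3.Sz1 Cfsg.Agent.Lib.Helper3.Sz4 Cfsg.Agent.Lib.Helper14.SzLink

def uM (F : Type*) [Field F] : Matrix (Fin 4) (Fin 4) F :=
  !![1, 1, 0, 1; 0, 1, 1, 1; 0, 0, 1, 1; 0, 0, 0, 1]

def u2M (F : Type*) [Field F] : Matrix (Fin 4) (Fin 4) F :=
  !![1, 0, 1, 1; 0, 1, 0, 1; 0, 0, 1, 0; 0, 0, 0, 1]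

def u3M (F : Type*) [Field F] : Matrix (Fin 4) (Fin 4) F :=
  !![1, 1, 1, 1; 0, 1, 1, 0; 0, 0, 1, 1; 0, 0, 0, 1]

theorem sz2_elements {F : Type*} [Field F] [Fintype F] (hF : Fintype.card F = 2) :
    ∃ u w : ↥(Cfsg.Lie.Sz F 2), (u * u) * (u * u) = 1 ∧ (u * u) * w ≠ w * (u * u) := by
  haveI : Fact (Nat.Prime 2) := ⟨Nat.prime_two⟩
  haveI hchar : CharP F 2 := Cfsg.Agent.Lib.Helper16.NatSL2.charP_of_card 1 (by rw [hF]; norm_num)
  have h2 : (2 : F) = 0 := by
    have := CharP.cast_eq_zero F 2
    exact_mod_cast this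
  have h11 : (1 : F) + 1 = 0 := by rw [one_add_one_eq_two]; exact h2
  have hneg : (-1 : F) = 1 := by
    rw [neg_eq_iff_add_eq_zero]; exact h11
  have e12 : (uM F) * (uM F) = u2M F := by
    ext i j
    fin_cases i <;> fin_cases j <;>
      simp [Matrix.mul_apply, Fin.sum_univ_four, uM, u2M, h11]
  have e13 : (uM F) * (u3M F) = 1 := by
    ext i j
    fin_cases i <;> fin_cases j <;>
      simp [Matrix.mul_apply, Fin.sum_univ_four, uM, u3M, h11, Matrix.one_apply]
  have e31 : (u3M F) * (uM F) = 1 := by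
    ext i j
    fin_cases i <;> fin_cases j <;>
      simp [Matrix.mul_apply, Fin.sum_univ_four, uM, u3M, h11, Matrix.one_apply]
  have e22 : (u2M F) * (u2M F) = 1 := by
    ext i j
    fin_cases i <;> fin_cases j <;>
      simp [Matrix.mul_apply, Fin.sum_univ_four, u2M, h11, Matrix.one_apply]
  obtain ⟨uG, huG⟩ : ∃ uG : Matrix.GeneralLinearGroup (Fin 4) F,
      (uG : Matrix (Fin 4) (Fin 4) F) = uM F := ⟨⟨uM F, u3M F, e13, e31⟩, rfl⟩
  obtain ⟨wG, hwG⟩ : ∃ wG : Matrix.GeneralLinearGroup (Fin 4) F,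
      (wG : Matrix (Fin 4) (Fin 4) F) = Jm := ⟨⟨Jm, Jm, Jm_sq, Jm_sq⟩, rfl⟩
  have hu : uG ∈ Cfsg.Lie.Sz F 2 := by
    apply Subgroup.subset_closure
    refine ⟨(mem_sp4_iff uG).2 ?_, ?_⟩
    · rw [huG]
      unfold FormP
      ext i j
      fin_cases i <;> fin_cases j <;>
        simp [Matrix.mul_apply, Fin.sum_univ_four, uM, Jm, h11, Matrix.transpose_apply]
    · rw [huG]
      ext i j
      fin_cases i <;> fin_cases j <;>
        simp [star4_apply, Cfsg.Lie.pairOf, uM, h11, hneg]
  have hw : wG ∈ Cfsg.Lie.Sz F 2 := by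
    apply Subgroup.subset_closure
    refine ⟨(mem_sp4_iff wG).2 ?_, ?_⟩
    · rw [hwG]
      unfold FormP
      ext i j
      fin_cases i <;> fin_cases j <;>
        simp [Matrix.mul_apply, Fin.sum_univ_four, Jm, h11, Matrix.transpose_apply]
    · rw [hwG]
      ext i j
      fin_cases i <;> fin_cases j <;>
        simp [star4_apply, Cfsg.Lie.pairOf, Jm, h11, hneg]
  refine ⟨⟨uG, hu⟩, ⟨wG, hw⟩, ?_, ?_⟩
  · apply Subtype.ext
    apply Units.ext
    show (uG : Matrix (Fin 4) (Fin 4) F) * (uG : Matrix (Fin 4) (Fin 4) F)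
      * ((uG : Matrix (Fin 4) (Fin 4) F) * (uG : Matrix (Fin 4) (Fin 4) F)) = 1
    rw [huG, e12, e22]
  · intro h
    have h' : (uG * uG) * wG = wG * (uG * uG) := congrArg Subtype.val h
    have h'' : ((uG : Matrix (Fin 4) (Fin 4) F) * (uG : Matrix (Fin 4) (Fin 4) F))
        * (wG : Matrix (Fin 4) (Fin 4) F)
        = (wG : Matrix (Fin 4) (Fin 4) F) * ((uG : Matrix (Fin 4) (Fin 4) F) * (uG : Matrix (Fin 4) (Fin 4) F)) :=
      congrArg Units.val h'
    rw [huG, hwG, e12] at h''
    have h3 := congrFun (congrFun h'' 0) 0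
    simp [Matrix.mul_apply, Fin.sum_univ_four, u2M, Jm] at h3


theorem no_two_invol_gen {X : Type*} [Group X] (e e' : X) (he : e * e = 1) (he' : e' * e' = 1)
    (hgen : ∀ z : X, z ∈ Subgroup.closure ({e, e'} : Set X)) (u w : X)
    (hu4 : (u * u) * (u * u) = 1) (hnc : (u * u) * w ≠ w * (u * u)) : False := by
  have heinv : e⁻¹ = e := inv_eq_of_mul_eq_one_left he
  have he'inv : e'⁻¹ = e' := inv_eq_of_mul_eq_one_left he'
  obtain ⟨R, hR⟩ : ∃ R : Subgroup X, R = Subgroup.zpowers (e * e') := ⟨_, rfl⟩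
  have hinv : ∀ ρ ∈ R, e * ρ * e = ρ⁻¹ := by
    intro ρ hρ
    rw [hR] at hρ
    obtain ⟨n, rfl⟩ := Subgroup.mem_zpowers_iff.1 hρ
    have h1 : e * (e * e') ^ n * e = (e * (e * e') * e⁻¹) ^ n := by
      rw [conj_zpow, heinv]
    have h2 : e * (e * e') * e⁻¹ = (e * e')⁻¹ := by
      rw [_root_.mul_inv_rev, heinv, he'inv]
      have : e * (e * e') * e = (e * e) * e' * e := by group
      rw [this, he, one_mul]
    rw [h1, h2, _root_.inv_zpow]
  have hall : ∀ z : X, z ∈ R ∨ z * e ∈ R := by
    intro z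
    have hz := hgen z
    induction hz using Subgroup.closure_induction with
    | mem y hy =>
      rcases hy with rfl | hy
      · right; rw [he]; exact R.one_mem
      · rw [Set.mem_singleton_iff] at hy
        right
        rw [hy]
        have : e' * e = (e * e')⁻¹ := by rw [_root_.mul_inv_rev, heinv, he'inv]
        rw [this, hR]
        exact Subgroup.inv_mem _ (Subgroup.mem_zpowers _)
    | one => left; exact R.one_mem
    | mul a b _ _ iha ihb =>
      rcases iha with ha | ha <;> rcases ihb with hb | hb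
      · left; exact R.mul_mem ha hb
      · right; rw [mul_assoc]; exact R.mul_mem ha hb
      · right
        have h1 := hinv b hb
        have e1 : a * b * e = (a * e) * (e * b * e) := by
          have : (a * e) * (e * b * e) = a * (e * e) * b * e := by group
          rw [this, he, mul_one]
        rw [e1, h1]
        exact R.mul_mem ha (R.inv_mem hb)
      · left
        have h1 := hinv (b * e) hb
        have e1 : a * b = (a * e) * (e * (b * e) * e) := by
          have : (a * e) * (e * (b * e) * e) = a * (e * e) * b * (e * e) := by group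
          rw [this, he, mul_one, mul_one]
        rw [e1, h1]
        exact R.mul_mem ha (R.inv_mem hb)
    | inv a _ iha =>
      rcases iha with ha | ha
      · left; exact R.inv_mem ha
      · right
        have h1 := hinv (a * e) ha
        have e1 : a⁻¹ * e = ((e * (a * e) * e))⁻¹ := by
          have : (e * (a * e) * e)⁻¹ = (e * e)⁻¹ * a⁻¹ * e⁻¹ := by group
          rw [this, he, inv_one, one_mul, heinv]
        rw [e1, h1, inv_inv]
        exact ha
  have huR : u ∈ R := by
    rcases hall u with h | h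
    · exact h
    · exfalso
      have h1 := hinv (u * e) h
      have hu2 : u * u = 1 := by
        have e1 : u * u = (u * e) * (e * (u * e) * e) := by
          have : (u * e) * (e * (u * e) * e) = u * (e * e) * u * (e * e) := by group
          rw [this, he, mul_one, mul_one]
        rw [e1, h1, mul_inv_cancel]
      apply hnc
      rw [hu2, one_mul, mul_one]
  have hu2R : u * u ∈ R := R.mul_mem huR huR
  have h1 := hinv (u * u) hu2R
  have hu2inv : (u * u)⁻¹ = u * u := inv_eq_of_mul_eq_one_left hu4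
  rw [hu2inv] at h1
  -- e commutes with u*u
  have hce : e * (u * u) = (u * u) * e := by
    have : e * (u * u) = (e * (u * u) * e) * e := by
      rw [mul_assoc (e * (u * u)) e e, he, mul_one]
    rw [this, h1]
  -- e*e' commutes with u*u
  have hcee : (e * e') * (u * u) = (u * u) * (e * e') := by
    rw [hR] at hu2R
    obtain ⟨n, hn⟩ := Subgroup.mem_zpowers_iff.1 hu2R
    rw [← hn]
    exact ((Commute.refl (e * e')).zpow_right n).eq
  have hce' : e' * (u * u) = (u * u) * e' := by
    have e1 : e' = e * (e * e') := by rw [← mul_assoc, he, one_mul]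
    rw [e1, mul_assoc, hcee, ← mul_assoc, hce, mul_assoc]
  have hcent : ∀ z : X, z ∈ Subgroup.centralizer ({u * u} : Set X) := by
    intro z
    have hz := hgen z
    have hle : Subgroup.closure ({e, e'} : Set X) ≤ Subgroup.centralizer ({u * u} : Set X) := by
      rw [Subgroup.closure_le]
      intro y hy
      rw [SetLike.mem_coe, Subgroup.mem_centralizer_iff]
      intro v hv
      rw [Set.mem_singleton_iff.1 hv]
      rcases hy with rfl | hy
      · exact hce.symm
      · rw [Set.mem_singleton_iff] at hy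
        rw [hy]; exact hce'.symm
    exact hle hz
  apply hnc
  have := hcent w
  rw [Subgroup.mem_centralizer_iff] at this
  exact this (u * u) rfl

end Cfsg.Agent.Lib.Helper16.FrakL
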