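import Mathlib
import Cfsg.Agent.Lib.Helper16.FrakL2

set_option autoImplicit false

namespace Cfsg.Agent.Lib.Helper16.FrakL

open DihedralGroup

theorem dihedral_R {n : ℕ} (hn : n.Prime) (hn2 : n ≠ 2) (E : Subgroup (DihedralGroup n))
    (hE2 : ∀ t ∈ E, t * t = 1) (hE1 : E ≠ ⊥) : R1 E ∧ R2 E := by
  haveI : Fact n.Prime := ⟨hn⟩
  have h2ne : (2 : ZMod n) ≠ 0 := by
    intro h
    have h' : ((2 : ℕ) : ZMod n) = 0 := by exact_mod_cast h
    rw [ZMod.natCast_eq_zero_iff] at h'
    exact hn2 ((Nat.prime_dvd_prime_iff_eq hn Nat.prime_two).1 h')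
  have hdbl : ∀ k : ZMod n, k + k = 0 → k = 0 := by
    intro k hk
    have : (2 : ZMod n) * k = 0 := by rw [two_mul]; exact hk
    rcases mul_eq_zero.1 this with h | h
    · exact absurd h h2ne
    · exact h
  have hrot : ∀ k : ZMod n, r k ∈ E → k = 0 := by
    intro k hk
    have := hE2 _ hk
    rw [r_mul_r, one_def] at this
    exact hdbl k (r.inj this)
  obtain ⟨i, hi⟩ : ∃ i, sr i ∈ E := by
    obtain ⟨⟨t, ht⟩, ht1⟩ := (Subgroup.ne_bot_iff_exists_ne_one).1 hE1
    cases t with
    | r k =>
      exfalso
      apply ht1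
      apply Subtype.ext
      show r k = 1
      rw [hrot k ht]; rfl
    | sr i => exact ⟨i, ht⟩
  have hEel : ∀ e ∈ E, e = 1 ∨ e = sr i := by
    intro e he
    cases e with
    | r k => left; rw [hrot k he]; rfl
    | sr j =>
      right
      have h1 : sr i * sr j ∈ E := E.mul_mem hi he
      rw [sr_mul_sr] at h1
      have := hrot _ h1
      rw [sub_eq_zero.1 this]
  have hconj : ∀ x : DihedralGroup n, ∀ j, ∃ j', x * sr j * x⁻¹ = sr j' := by
    intro x j
    cases x with
    | r k =>
      refine ⟨j - k - k, ?_⟩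
      have h1 : (r k : DihedralGroup n)⁻¹ = r (-k) := rfl
      rw [h1, r_mul_sr, sr_mul_r]
      congr 1
      ring
    | sr k =>
      refine ⟨k - (j - k), ?_⟩
      have h1 : (sr k : DihedralGroup n)⁻¹ = sr k := rfl
      rw [h1, sr_mul_sr, r_mul_sr]
  refine ⟨?_, ?_⟩
  · intro x t ht ht1 hx
    have htsr : t = sr i := by
      rcases hEel t ht with h | h
      · exact absurd h ht1
      · exact h
    rw [htsr] at hx
    obtain ⟨i', hi'⟩ := hconj x i
    rw [hi'] at hx
    have h1 := (Subgroup.mem_normalizer_iff.1 hx (sr i)).1 hi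
    have h2 : (sr i' : DihedralGroup n)⁻¹ = sr i' := rfl
    rw [h2, sr_mul_sr, r_mul_sr] at h1
    have h3 : i' = i := by
      rcases hEel _ h1 with h | h
      · rw [one_def] at h; cases h
      · have h4 := sr.inj h
        have h5 : (i' - i) + (i' - i) = 0 := by linear_combination h4
        exact sub_eq_zero.1 (hdbl _ h5)
    rw [h3] at hi'
    apply mem_normalizer_of
    · intro d hd
      rcases hEel d hd with h | h
      · rw [h]
        have : x * 1 * x⁻¹ = 1 := by group
        rw [this]; exact E.one_mem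
      · rw [h, hi']; exact hi
    · intro d hd
      rcases hEel d hd with h | h
      · rw [h]
        have : x⁻¹ * 1 * x = 1 := by group
        rw [this]; exact E.one_mem
      · rw [h]
        have : x⁻¹ * sr i * x = sr i := by
          calc x⁻¹ * sr i * x = x⁻¹ * (x * sr i * x⁻¹) * x := by rw [hi']
            _ = sr i := by group
        rw [this]; exact hi
  · intro h hh1 hodd
    cases h with
    | sr k =>
      exfalso
      rw [orderOf_sr] at hodd
      exact absurd hodd (by decide)
    | r k =>
      have hk : k ≠ 0 := by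
        rintro rfl
        exact hh1 rfl
      have e : (1 * sr i * 1⁻¹) * r k * (1 * sr i * 1⁻¹)⁻¹ = (r k)⁻¹ := by
        have h1 : (1 : DihedralGroup n) * sr i * 1⁻¹ = sr i := by group
        have h2 : (sr i : DihedralGroup n)⁻¹ = sr i := rfl
        have h3 : (r k : DihedralGroup n)⁻¹ = r (-k) := rfl
        rw [h1, h2, h3, sr_mul_r, sr_mul_sr]
        congr 1
        ring
      refine ⟨1, sr i, hi, ?_, ?_, ?_⟩
      · intro h0
        rw [one_def] at h0
        cases h0
      · rw [e]; exact Subgroup.inv_mem _ (Subgroup.mem_zpowers _)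
      · rw [e]
        intro h0
        have h3 : (r k : DihedralGroup n)⁻¹ = r (-k) := rfl
        rw [h3] at h0
        have h4 := r.inj h0
        apply hk
        apply hdbl
        linear_combination (-1 : ZMod n) * h4

end Cfsg.Agent.Lib.Helper16.FrakL
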