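import Mathlib
import Cfsg.Prelude.Def_LocalStructure
import Cfsg.Agent.Lib.Helper16.PReduced2
import Cfsg.Agent.Lib.Helper16.FrakL3
import Cfsg.Agent.Lib.Helper16.FrakL4
import Cfsg.Agent.Lib.Helper16.FrakL5

set_option autoImplicit false

namespace Cfsg.Agent.Lib.Helper16.FrakL

open Cfsg Cfsg.Agent.Lib.Helper16.Basic Cfsg.Agent.Lib.Helper16.PReduced2

theorem sz2_elements' {F : Type*} [Field F] [Fintype F] (hF : Fintype.card F = 2) (s : ℕ)
    (hs : s = 2) :
    ∃ u w : ↥(Cfsg.Lie.Sz F s), (u * u) * (u * u) = 1 ∧ (u * u) * w ≠ w * (u * u) := by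
  subst hs
  exact sz2_elements hF

theorem frakL_core {G : Type*} [Group G] [Finite G] {p : ℕ} [Fact p.Prime] (M L : Subgroup G)
    (hSz : ∀ (F : Type) [Field F] [Fintype F] (m : ℕ), 1 ≤ m →
      Fintype.card F = 2 ^ (2 * m + 1) →
      ∀ E : Subgroup ↥(Cfsg.Lie.Sz F (2 ^ (m + 1))), (∀ t ∈ E, t * t = 1) →
        Nat.card E = 2 ^ (2 * m + 1) → R1 E ∧ R2 E)
    (hL : Cfsg.IsInFrakL p M L) (h : G) (hh : h ∈ L) (hnp : ¬ ∃ k : ℕ, orderOf h = p ^ k) :
    ∀ a ∈ Cfsg.pCoreOf p L,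
      h * a * h⁻¹ * a⁻¹ ∈ Cfsg.largestPReducedOf p M ⊓ Subgroup.centralizer ((L : Subgroup G) : Set G) →
      a ∈ Cfsg.largestPReducedOf p M ⊓ Subgroup.centralizer ((L : Subgroup G) : Set G) := by
  classical
  have hpp : p.Prime := Fact.out
  have hPR := pr_largest (p := p) M
  obtain ⟨Y, hYdef⟩ : ∃ Y, Y = Cfsg.largestPReducedOf p M := ⟨_, rfl⟩
  rw [← hYdef] at hPR ⊢
  unfold Cfsg.IsInFrakL at hL
  rw [← hYdef] at hL
  obtain ⟨hYL, hAcl, hAN, hmin, hchar, ⟨hlt, hmax⟩, hcases⟩ := hL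
  have hYcomm : ∀ y ∈ Y, ∀ y' ∈ Y, y * y' = y' * y := by
    intro y hy y' hy'
    exact congrArg Subtype.val (hPR.el.1.is_comm.comm ⟨y, hy⟩ ⟨y', hy'⟩)
  have hYpow : ∀ y ∈ Y, y ^ p = 1 := hPR.el.2
  have hYp : IsPGroup p Y := hPR.isPGroup
  obtain ⟨AH, hAH⟩ : ∃ AH : Subgroup ↥L, AH = Cfsg.pCore p ↥L := ⟨_, rfl⟩
  obtain ⟨YH, hYH⟩ : ∃ YH : Subgroup ↥L, YH = Y.subgroupOf L := ⟨_, rfl⟩
  obtain ⟨CH, hCH⟩ : ∃ CH : Subgroup ↥L, CH = YH ⊓ Subgroup.center ↥L := ⟨_, rfl⟩
  have hmemYH : ∀ x : ↥L, x ∈ YH ↔ (x : G) ∈ Y := by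
    intro x; rw [hYH, Subgroup.mem_subgroupOf]
  have hAHn : AH.Normal := by rw [hAH]; exact pCore_normal' (p := p) ↥L
  have hAHp : IsPGroup p AH := by rw [hAH]; exact pCore_isPGroup
  have hmemAH : ∀ x : ↥L, x ∈ AH ↔ (x : G) ∈ Cfsg.pCoreOf p L := by
    intro x
    rw [hAH]
    constructor
    · intro hx; exact ⟨x, hx, rfl⟩
    · rintro ⟨x', hx', hxx⟩
      have : x' = x := Subtype.ext hxx
      rw [← this]; exact hx'
  have hYHp : IsPGroup p YH := by rw [hYH]; exact hYp.comap_subtype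
  have hCHn : CH.Normal := by
    constructor
    intro c hc x
    rw [hCH] at hc ⊢
    have h1 := (Subgroup.mem_center_iff.1 (Subgroup.mem_inf.1 hc).2) x
    have e : x * c * x⁻¹ = c := by rw [h1]; group
    rw [e]; exact hc
  have hCHp : IsPGroup p CH := by
    apply hYHp.to_le
    rw [hCH]; exact inf_le_left
  have hnc : Subgroup.normalClosure ((YH : Subgroup ↥L) : Set ↥L) = ⊤ := by
    rw [hYH]; exact hmin.1
  have hS : Setup AH YH CH := by
    refine ⟨?_, ?_, ?_, ?_, ?_, ?_, ?_, ?_, ?_, ?_, ?_⟩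
    · intro x a ha
      exact hAHn.conj_mem a ha x
    · intro y hy y' hy'
      apply Subtype.ext
      exact hYcomm _ ((hmemYH y).1 hy) _ ((hmemYH y').1 hy')
    · intro a ha y hy
      rw [hmemYH] at hy ⊢
      have h1 : (a : G) ∈ Subgroup.normalizer (Y : Set G) := hAN ((hmemAH a).1 ha)
      exact (Subgroup.mem_normalizer_iff.1 h1 _).1 hy
    · intro K hK hKn z
      haveI : K.Normal := ⟨fun k hk x => hKn x k hk⟩
      have h1 : Subgroup.normalClosure ((YH : Subgroup ↥L) : Set ↥L) ≤ K :=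
        Subgroup.normalClosure_le_normal hK
      rw [hnc] at h1
      exact h1 (Subgroup.mem_top z)
    · intro K hK ⟨z, hz⟩ k hk y hy
      have hXL : K.map L.subtype ≤ L := Subgroup.map_subtype_le K
      have hYX : Y ≤ K.map L.subtype := by
        intro y0 hy0
        exact ⟨⟨y0, hYL hy0⟩, hK ((hmemYH _).2 hy0), rfl⟩
      have hne : K.map L.subtype ≠ L := by
        intro h0
        apply hz
        have : (z : G) ∈ K.map L.subtype := by rw [h0]; exact z.2
        obtain ⟨z', hz', hzz⟩ := this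
        have : z' = z := Subtype.ext hzz
        rw [← this]; exact hz'
      have h1 := hmax _ hYX (lt_of_le_of_ne hXL hne)
      have h2 : (k : G) ∈ Subgroup.normalizer (Y : Set G) :=
        (Subgroup.mem_inf.1 (h1 ⟨k, hk, rfl⟩)).2
      rw [hmemYH] at hy ⊢
      exact (Subgroup.mem_normalizer_iff.1 h2 _).1 hy
    · intro hall
      obtain ⟨x, hxL, hxN⟩ := SetLike.exists_of_lt hlt
      apply hxN
      refine Subgroup.mem_inf.2 ⟨hxL, ?_⟩
      apply mem_normalizer_of
      · intro d hd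
        have := hall ⟨x, hxL⟩ ⟨d, hYL hd⟩ ((hmemYH _).2 hd)
        exact (hmemYH _).1 this
      · intro d hd
        have := hall ⟨x, hxL⟩⁻¹ ⟨d, hYL hd⟩ ((hmemYH _).2 hd)
        have h3 := (hmemYH _).1 this
        simpa using h3
    · intro D hD hDn
      haveI : D.Normal := ⟨fun d hd x => hDn x d hd⟩
      have h1 : AH = Subgroup.normalClosure
          (((Y ⊓ Cfsg.pCoreOf p L).subgroupOf L : Subgroup ↥L) : Set ↥L) := by
        apply Subgroup.map_injective L.subtype_injective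
        rw [hAH]
        exact hAcl
      rw [h1]
      apply Subgroup.normalClosure_le_normal
      intro d hd
      rw [SetLike.mem_coe, Subgroup.mem_subgroupOf] at hd
      exact hD d ((hmemYH d).2 (Subgroup.mem_inf.1 hd).1) ((hmemAH d).2 (Subgroup.mem_inf.1 hd).2)
    · rw [hCH]; exact inf_le_left
    · rw [hAH]; exact le_pCore hCHn hCHp
    · intro c hc x
      rw [hCH] at hc
      exact Subgroup.mem_center_iff.1 (Subgroup.mem_inf.1 hc).2 x
    · intro c hc hz
      rw [hCH]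
      exact Subgroup.mem_inf.2 ⟨hc, Subgroup.mem_center_iff.2 hz⟩
  have hrel : (Y ⊓ Cfsg.pCoreOf p L).relIndex Y = AH.relIndex YH := by
    rw [Subgroup.inf_relIndex_left]
    have h1 : AH.map L.subtype = Cfsg.pCoreOf p L := by rw [hAH]; rfl
    have h2 : YH.map L.subtype = Y := by rw [hYH]; exact Subgroup.map_subgroupOf_eq_of_le hYL
    rw [← h1]
    conv_lhs => rw [← h2]
    rw [Subgroup.relIndex_map_map_of_injective _ _ L.subtype_injective]
  have hquot : ∀ (X : Type) [Group X] (e : ↥L ⧸ Cfsg.pCore p ↥L ≃* X),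
      ∃ π : ↥L →* X, Function.Surjective π ∧ π.ker = AH := by
    intro X _ e
    refine ⟨e.toMonoidHom.comp (QuotientGroup.mk' (Cfsg.pCore p ↥L)), ?_, ?_⟩
    · intro z
      obtain ⟨q, hq⟩ := e.surjective z
      obtain ⟨x, hx⟩ := QuotientGroup.mk_surjective q
      exact ⟨x, by
        show e (QuotientGroup.mk x) = z
        rw [hx, hq]⟩
    · ext x
      rw [MonoidHom.mem_ker, hAH]
      show e (QuotientGroup.mk x) = 1 ↔ _
      constructor
      · intro h0
        have : (QuotientGroup.mk x : ↥L ⧸ Cfsg.pCore p ↥L) = 1 := by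
          apply e.injective; rw [h0, map_one]
        exact (QuotientGroup.eq_one_iff x).1 this
      · intro h0
        rw [(QuotientGroup.eq_one_iff x).2 h0, map_one]
  intro a ha hfix
  obtain ⟨a', ha', rfl⟩ := ha
  have ha'AH : a' ∈ AH := by rw [hAH]; exact ha'
  have hfixH : (⟨h, hh⟩ : ↥L) * a' * (⟨h, hh⟩ : ↥L)⁻¹ * a'⁻¹ ∈ CH := by
    rw [hCH]
    have h1 := (Subgroup.mem_inf.1 hfix)
    refine Subgroup.mem_inf.2 ⟨(hmemYH _).2 h1.1, ?_⟩
    rw [Subgroup.mem_center_iff]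
    intro x
    apply Subtype.ext
    exact Subgroup.mem_centralizer_iff.1 h1.2 (x : G) x.2
  have hnpH : ¬ ∃ k : ℕ, orderOf (⟨h, hh⟩ : ↥L) = p ^ k := by
    rw [Subgroup.orderOf_mk]; exact hnp
  have key : a' ∈ CH := by
    rcases hcases with ⟨F, instF, instFt, hFcard, ⟨e⟩⟩ |
      ⟨hp2, F, instF, instFt, m, hF, hFrel, ⟨e⟩⟩ | ⟨hp2, r, hr, hr2, ⟨e⟩⟩
    · letI := instF
      letI := instFt
      have hcardF : Fintype.card F = AH.relIndex YH := by rw [hFcard, hrel]
      have hdvd : Fintype.card F ∣ Nat.card YH := by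
        rw [hcardF]; exact Subgroup.relIndex_dvd_card _ _
      obtain ⟨k, hk⟩ := hYHp.exists_card_eq
      rw [hk] at hdvd
      obtain ⟨n, -, hn⟩ := (Nat.dvd_prime_pow hpp).1 hdvd
      haveI hchar : CharP F p := Cfsg.Agent.Lib.Helper16.NatSL2.charP_of_card n hn
      obtain ⟨φ₀, hφ₀s, hφ₀k⟩ := hquot _ e
      have hcardE : Nat.card (YH.map φ₀) = Fintype.card F := by
        rw [← Subgroup.relIndex_ker, hφ₀k, hcardF]
      obtain ⟨φ, hφs, hφk, hYU1, hYU2⟩ := exists_aligned (p := p) φ₀ hφ₀s hYHp hcardE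
      exact fpf_of_SL2 hS hAHp φ hφs (hφk.trans hφ₀k) hYU1 hYU2 ⟨h, hh⟩ hnpH a' ha'AH hfixH
    · letI := instF
      letI := instFt
      subst hp2
      obtain ⟨π, hπs, hπk⟩ := hquot _ e
      have hcardE : Nat.card (YH.map π) = Fintype.card F := by
        rw [← Subgroup.relIndex_ker, hπk, ← hrel, ← hFrel]
      have hY2 : ∀ y ∈ YH, y * y = 1 := by
        intro y hy
        apply Subtype.ext
        have := hYpow _ ((hmemYH y).1 hy)
        rw [pow_two] at this; exact this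
      have hE2 : ∀ t ∈ YH.map π, t * t = 1 := by
        rintro _ ⟨y, hy, rfl⟩
        rw [← map_mul, hY2 y hy, map_one]
      by_cases hm : 1 ≤ m
      · obtain ⟨hR1, hR2⟩ := hSz F m hm hF (YH.map π) hE2 (by rw [hcardE, hF])
        exact fpf_of_R hS hAHp hY2 π hπs hπk hR1 hR2 ⟨h, hh⟩ hnpH a' ha'AH hfixH
      · exfalso
        have hm0 : m = 0 := by omega
        subst hm0
        have hF2 : Fintype.card F = 2 := by rw [hF]; norm_num
        obtain ⟨u, w, hu4, hnc2⟩ := sz2_elements' hF2 (2 ^ (0 + 1)) (by norm_num)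
        obtain ⟨g, hg⟩ := hS.exists_genPair
        obtain ⟨y₀, hy₀, hy₀A⟩ : ∃ y₀ ∈ YH, y₀ ∉ AH := by
          by_contra hc; push_neg at hc; exact hS.not_le_A hc
        have hπy₀ : π y₀ ≠ 1 := by
          intro h0; apply hy₀A; rw [← hπk]; exact MonoidHom.mem_ker.2 h0
        have hc2 : Nat.card (YH.map π) = 2 := by rw [hcardE, hF2]
        obtain ⟨z, hz, huniq⟩ := (Nat.card_eq_two_iff' (1 : ↥(YH.map π))).1 hc2
        have hE : ∀ y ∈ YH, π y = 1 ∨ π y = π y₀ := by
          intro y hy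
          by_cases h1 : π y = 1
          · left; exact h1
          · right
            have e1 : (⟨π y, ⟨y, hy, rfl⟩⟩ : ↥(YH.map π)) = z :=
              huniq _ (fun h0 => h1 (congrArg Subtype.val h0))
            have e2 : (⟨π y₀, ⟨y₀, hy₀, rfl⟩⟩ : ↥(YH.map π)) = z :=
              huniq _ (fun h0 => hπy₀ (congrArg Subtype.val h0))
            exact congrArg Subtype.val (e1.trans e2.symm)
        have hgen : ∀ z : ↥(Cfsg.Lie.Sz F (2 ^ (0 + 1))),
            z ∈ Subgroup.closure ({π y₀, π (g * y₀ * g⁻¹)} : Set ↥(Cfsg.Lie.Sz F (2 ^ (0 + 1)))) := by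
          intro z
          obtain ⟨x, rfl⟩ := hπs z
          refine hg ((Subgroup.closure ({π y₀, π (g * y₀ * g⁻¹)} :
            Set ↥(Cfsg.Lie.Sz F (2 ^ (0 + 1))))).comap π) ?_ ?_ x
          · intro y hy
            rw [Subgroup.mem_comap]
            rcases hE y hy with h1 | h1
            · rw [h1]; exact Subgroup.one_mem _
            · rw [h1]; exact Subgroup.subset_closure (Set.mem_insert _ _)
          · intro y hy
            rw [Subgroup.mem_comap]
            rcases hE y hy with h1 | h1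
            · have : π (g * y * g⁻¹) = 1 := by
                rw [map_mul, map_mul, map_inv, h1]; group
              rw [this]; exact Subgroup.one_mem _
            · have : π (g * y * g⁻¹) = π (g * y₀ * g⁻¹) := by
                rw [map_mul, map_mul, map_inv, h1, map_mul, map_mul, map_inv]
              rw [this]; exact Subgroup.subset_closure (Set.mem_insert_of_mem _ rfl)
        have he1 : π (g * y₀ * g⁻¹) * π (g * y₀ * g⁻¹) = 1 := by
          rw [← map_mul]
          have : g * y₀ * g⁻¹ * (g * y₀ * g⁻¹) = g * (y₀ * y₀) * g⁻¹ := by group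
          rw [this, hY2 y₀ hy₀]
          simp
        exact no_two_invol_gen (π y₀) (π (g * y₀ * g⁻¹)) (hE2 _ ⟨y₀, hy₀, rfl⟩) he1 hgen u w hu4 hnc2
    · subst hp2
      obtain ⟨π, hπs, hπk⟩ := hquot _ e
      have hY2 : ∀ y ∈ YH, y * y = 1 := by
        intro y hy
        apply Subtype.ext
        have := hYpow _ ((hmemYH y).1 hy)
        rw [pow_two] at this; exact this
      have hE2 : ∀ t ∈ YH.map π, t * t = 1 := by
        rintro _ ⟨y, hy, rfl⟩
        rw [← map_mul, hY2 y hy, map_one]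
      have hE1 : YH.map π ≠ ⊥ := by
        intro h0
        apply hS.not_le_A
        intro y hy
        rw [← hπk, MonoidHom.mem_ker]
        have : π y ∈ YH.map π := ⟨y, hy, rfl⟩
        rw [h0] at this
        exact Subgroup.mem_bot.1 this
      obtain ⟨hR1, hR2⟩ := dihedral_R hr hr2 (YH.map π) hE2 hE1
      exact fpf_of_R hS hAHp hY2 π hπs hπk hR1 hR2 ⟨h, hh⟩ hnpH a' ha'AH hfixH
  rw [hCH] at key
  have h1 := Subgroup.mem_inf.1 key
  refine Subgroup.mem_inf.2 ⟨(hmemYH _).1 h1.1, ?_⟩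
  rw [Subgroup.mem_centralizer_iff]
  intro l hl
  have := Subgroup.mem_center_iff.1 h1.2 ⟨l, hl⟩
  exact congrArg Subtype.val this

end Cfsg.Agent.Lib.Helper16.FrakL
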