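import Mathlib
import Cfsg.Agent.Lib.Helper16.FrakL6

set_option autoImplicit false

namespace Cfsg.Agent.Lib.Helper16.FrakL

open Cfsg Cfsg.Agent.Lib.Helper16.Basic Cfsg.Agent.Lib.Helper16.PReduced2
open Cfsg.Agent.S2301 Cfsg.Agent.Lib.Helper13 Cfsg.Agent.Lib.Helper13.SL2Syl
open Cfsg.Agent.Lib.Helper16.SL2Quad Cfsg.Agent.Lib.Helper16.SL2Fpf

def R3 {X : Type*} [Group X] (p : ℕ) (E : Subgroup X) : Prop :=
  ∀ V : Subgroup X, V ≤ Subgroup.normalizer (E : Set X) →
    (∀ n ∈ Subgroup.normalizer (E : Set X), ∀ v ∈ V, n * v * n⁻¹ ∈ V) →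
    (∀ v ∈ V, v ^ p = 1) → V ≠ ⊥ → V = E

theorem dMat_val {F : Type*} [Field F] {a : F} (ha : a ≠ 0) :
    (nMat a * nMat (-1)).1 = !![a, 0; 0, a⁻¹] := by
  show (nMat a).1 * (nMat (-1 : F)).1 = _
  rw [nMat_val ha, nMat_val (neg_ne_zero.mpr one_ne_zero)]
  ext i j
  fin_cases i <;> fin_cases j <;> simp [Matrix.mul_apply, Fin.sum_univ_two]

theorem sl2_R3 {p : ℕ} [Fact p.Prime] {F : Type*} [Field F] [Fintype F] [CharP F p] :
    R3 p (US F) := by
  classical
  intro V hVN hVn hVp hV1
  obtain ⟨P₀, hP₀⟩ := exists_sylow_US (F := F) p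
  have hVU : V ≤ US F := by
    intro v hv
    have h1 : IsPGroup p (Subgroup.zpowers v) :=
      isPGroup_zpowers (j := 1) (by rw [pow_one]; exact hVp v hv)
    have h2 : Subgroup.zpowers v ≤ Subgroup.normalizer ((US F : Subgroup _) : Set _) := by
      rw [Subgroup.zpowers_le]; exact hVN hv
    have h3 : IsPGroup p (US F ⊔ Subgroup.zpowers v : Subgroup _) := by
      apply IsPGroup.to_sup_of_normal_left' _ h1 h2
      rw [← hP₀]; exact P₀.isPGroup'
    have h4 : (US F ⊔ Subgroup.zpowers v : Subgroup _) = (P₀ : Subgroup _) :=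
      P₀.is_maximal' h3 (by rw [hP₀]; exact le_sup_left)
    rw [← hP₀, ← h4]
    exact (le_sup_right : Subgroup.zpowers v ≤ _) (Subgroup.mem_zpowers v)
  apply le_antisymm hVU
  obtain ⟨⟨v, hv⟩, hv1⟩ := (Subgroup.ne_bot_iff_exists_ne_one).1 hV1
  obtain ⟨t, rfl⟩ := exists_of_mem_US (hVU hv)
  have ht : t ≠ 0 := by
    rintro rfl
    apply hv1
    apply Subtype.ext
    exact uMat_zero
  have hsq : ∀ a : F, uMat (a ^ 2 * t) ∈ V := by
    intro a
    by_cases ha : a = 0
    · rw [ha]
      have : uMat ((0 : F) ^ 2 * t) = 1 := by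
        rw [zero_pow (by norm_num), zero_mul, uMat_zero]
      rw [this]; exact V.one_mem
    · have hd : nMat a * nMat (-1) ∈ SL2Ind.BS F := by
        rw [SL2Ind.mem_BS_iff, dMat_val ha]; simp
      have h1 := hVn _ (BS_le_normalizer hd) _ hv
      rw [conj_uMat_of_mem_BS hd, dMat_val ha] at h1
      have e : (!![a, 0; 0, a⁻¹] : Matrix (Fin 2) (Fin 2) F) 0 0 * t
          / (!![a, 0; 0, a⁻¹] : Matrix (Fin 2) (Fin 2) F) 1 1 = a ^ 2 * t := by
        simp
        field_simp
      rw [e] at h1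
      exact h1
  have hinv : ∀ s : F, (uMat s)⁻¹ = uMat (-s) := by
    intro s
    apply inv_eq_of_mul_eq_one_right
    rw [uMat_mul, add_neg_cancel, uMat_zero]
  have hall : ∀ c : F, uMat (c * t) ∈ V := by
    intro c
    by_cases h2 : (2 : F) = 0
    · have hchar : ringChar F = 2 := by
        apply CharP.ringChar_of_prime_eq_zero Nat.prime_two
        exact_mod_cast h2
      obtain ⟨a, ha⟩ := FiniteField.isSquare_of_char_two hchar c
      rw [ha, ← pow_two]
      exact hsq a
    · have e : c * t = ((c + 1) / 2) ^ 2 * t + -(((c - 1) / 2) ^ 2 * t) := by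
        field_simp
        ring
      rw [e, ← uMat_mul, ← hinv]
      exact V.mul_mem (hsq _) (V.inv_mem (hsq _))
  intro x hx
  obtain ⟨s, rfl⟩ := exists_of_mem_US hx
  have := hall (s / t)
  rw [div_mul_cancel₀ s ht] at this
  exact this

open DihedralGroup in
theorem dihedral_R3 {n : ℕ} (hn : n.Prime) (hn2 : n ≠ 2) (E : Subgroup (DihedralGroup n))
    (hE2 : ∀ t ∈ E, t * t = 1) (hE1 : E ≠ ⊥) (V : Subgroup (DihedralGroup n))
    (hVN : V ≤ Subgroup.normalizer (E : Set (DihedralGroup n))) (hV1 : V ≠ ⊥) : V = E := by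
  haveI : Fact n.Prime := ⟨hn⟩
  have h2ne : (2 : ZMod n) ≠ 0 := by
    intro h
    have h' : ((2 : ℕ) : ZMod n) = 0 := by exact_mod_cast h
    rw [ZMod.natCast_eq_zero_iff] at h'
    exact hn2 ((Nat.prime_dvd_prime_iff_eq hn Nat.prime_two).1 h')
  have hdbl : ∀ k : ZMod n, k + k = 0 → k = 0 := by
    intro k hk
    have : (2 : ZMod n) * k = 0 := by rw [two_mul]; exact hk
    rcases mul_eq_zero.1 this with h | h
    · exact absurd h h2ne
    · exact h
  have hrot : ∀ k : ZMod n, r k ∈ E → k = 0 := by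
    intro k hk
    have := hE2 _ hk
    rw [r_mul_r, one_def] at this
    exact hdbl k (r.inj this)
  obtain ⟨i, hi⟩ : ∃ i, sr i ∈ E := by
    obtain ⟨⟨t, ht⟩, ht1⟩ := (Subgroup.ne_bot_iff_exists_ne_one).1 hE1
    cases t with
    | r k =>
      exfalso
      apply ht1
      apply Subtype.ext
      show r k = 1
      rw [hrot k ht]; rfl
    | sr i => exact ⟨i, ht⟩
  have hEel : ∀ e ∈ E, e = 1 ∨ e = sr i := by
    intro e he
    cases e with
    | r k => left; rw [hrot k he]; rfl
    | sr j =>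
      right
      have h1 : sr i * sr j ∈ E := E.mul_mem hi he
      rw [sr_mul_sr] at h1
      have := hrot _ h1
      rw [sub_eq_zero.1 this]
  have hNE : ∀ x ∈ Subgroup.normalizer (E : Set (DihedralGroup n)), x = 1 ∨ x = sr i := by
    intro x hx
    have h1 := (Subgroup.mem_normalizer_iff.1 hx (sr i)).1 hi
    have h2 : x * sr i * x⁻¹ = sr i := by
      rcases hEel _ h1 with h | h
      · exfalso
        have : sr i = x⁻¹ * (x * sr i * x⁻¹) * x := by group
        rw [h] at this
        have h3 : (sr i : DihedralGroup n) = 1 := by rw [this]; group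
        rw [one_def] at h3
        cases h3
      · exact h
    have h3 : x * sr i = sr i * x := by
      calc x * sr i = (x * sr i * x⁻¹) * x := by group
        _ = sr i * x := by rw [h2]
    cases x with
    | r k =>
      left
      rw [r_mul_sr, sr_mul_r] at h3
      have h4 := sr.inj h3
      have h5 : k + k = 0 := by linear_combination (-1 : ZMod n) * h4
      rw [hdbl k h5]; rfl
    | sr j =>
      right
      rw [sr_mul_sr, sr_mul_sr] at h3
      have h4 := r.inj h3
      have h5 : (j - i) + (j - i) = 0 := by linear_combination (-1 : ZMod n) * h4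
      rw [sub_eq_zero.1 (hdbl _ h5)]
  apply le_antisymm
  · intro v hv
    rcases hNE v (hVN hv) with h | h
    · rw [h]; exact E.one_mem
    · rw [h]; exact hi
  · obtain ⟨⟨v, hv⟩, hv1⟩ := (Subgroup.ne_bot_iff_exists_ne_one).1 hV1
    have hvsr : v = sr i := by
      rcases hNE v (hVN hv) with h | h
      · exfalso; apply hv1; apply Subtype.ext; exact h
      · exact h
    intro e he
    rcases hEel e he with h | h
    · rw [h]; exact V.one_mem
    · rw [h, ← hvsr]; exact hv

end Cfsg.Agent.Lib.Helper16.FrakL
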