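import Mathlib
import Cfsg.Agent.Lib.Helper16.FrakL7

set_option autoImplicit false

namespace Cfsg.Agent.Lib.Helper16.FrakL

open Cfsg Cfsg.Agent.Lib.Helper16.Basic Cfsg.Agent.Lib.Helper16.PReduced2
open Cfsg.Agent.S2301 Cfsg.Agent.Lib.Helper13 Cfsg.Agent.Lib.Helper13.SL2Syl

theorem frakL_uniq {G : Type*} [Group G] [Finite G] {p : ℕ} [Fact p.Prime] (M L : Subgroup G)
    (hSz3 : ∀ (F : Type) [Field F] [Fintype F] (m : ℕ), 1 ≤ m →
      Fintype.card F = 2 ^ (2 * m + 1) →
      ∀ E : Subgroup ↥(Cfsg.Lie.Sz F (2 ^ (m + 1))), (∀ t ∈ E, t * t = 1) →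
        Nat.card E = 2 ^ (2 * m + 1) → R3 2 E)
    (hL : Cfsg.IsInFrakL p M L) (NL : Subgroup G)
    (hNL : NL = L ⊓ Subgroup.normalizer (((Cfsg.largestPReducedOf p M) : Subgroup G) : Set G))
    [hn : (((Cfsg.pCoreOf p L)).subgroupOf NL).Normal] :
    let Ybar : Subgroup (↥NL ⧸ ((Cfsg.pCoreOf p L)).subgroupOf NL) :=
      (((Cfsg.largestPReducedOf p M)).subgroupOf NL).map
        (QuotientGroup.mk' (((Cfsg.pCoreOf p L)).subgroupOf NL));
    Ybar ≠ ⊥ ∧ Ybar.Normal ∧ Cfsg.IsElementaryAbelian p Ybar ∧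
      ∀ (V : Subgroup (↥NL ⧸ ((Cfsg.pCoreOf p L)).subgroupOf NL)), V.Normal →
        Cfsg.IsElementaryAbelian p V → V ≠ ⊥ → V = Ybar := by
  classical
  have hpp : p.Prime := Fact.out
  have hPR := pr_largest (p := p) M
  obtain ⟨Y, hYdef⟩ : ∃ Y, Y = Cfsg.largestPReducedOf p M := ⟨_, rfl⟩
  rw [← hYdef] at hPR hNL ⊢
  unfold Cfsg.IsInFrakL at hL
  rw [← hYdef] at hL
  obtain ⟨hYL, hAcl, hAN, hmin, hchar, ⟨hlt, hmax⟩, hcases⟩ := hL
  have hYcomm : ∀ y ∈ Y, ∀ y' ∈ Y, y * y' = y' * y := by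
    intro y hy y' hy'
    exact congrArg Subtype.val (hPR.el.1.is_comm.comm ⟨y, hy⟩ ⟨y', hy'⟩)
  have hYpow : ∀ y ∈ Y, y ^ p = 1 := hPR.el.2
  have hYp : IsPGroup p Y := hPR.isPGroup
  obtain ⟨AH, hAH⟩ : ∃ AH : Subgroup ↥L, AH = Cfsg.pCore p ↥L := ⟨_, rfl⟩
  obtain ⟨YH, hYH⟩ : ∃ YH : Subgroup ↥L, YH = Y.subgroupOf L := ⟨_, rfl⟩
  obtain ⟨CH, hCH⟩ : ∃ CH : Subgroup ↥L, CH = YH ⊓ Subgroup.center ↥L := ⟨_, rfl⟩
  have hmemYH : ∀ x : ↥L, x ∈ YH ↔ (x : G) ∈ Y := by
    intro x; rw [hYH, Subgroup.mem_subgroupOf]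
  have hAHn : AH.Normal := by rw [hAH]; exact pCore_normal' (p := p) ↥L
  have hAHp : IsPGroup p AH := by rw [hAH]; exact pCore_isPGroup
  have hmemAH : ∀ x : ↥L, x ∈ AH ↔ (x : G) ∈ Cfsg.pCoreOf p L := by
    intro x
    rw [hAH]
    constructor
    · intro hx; exact ⟨x, hx, rfl⟩
    · rintro ⟨x', hx', hxx⟩
      have : x' = x := Subtype.ext hxx
      rw [← this]; exact hx'
  have hYHp : IsPGroup p YH := by rw [hYH]; exact hYp.comap_subtype
  have hCHn : CH.Normal := by
    constructor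
    intro c hc x
    rw [hCH] at hc ⊢
    have h1 := (Subgroup.mem_center_iff.1 (Subgroup.mem_inf.1 hc).2) x
    have e : x * c * x⁻¹ = c := by rw [h1]; group
    rw [e]; exact hc
  have hCHp : IsPGroup p CH := by
    apply hYHp.to_le
    rw [hCH]; exact inf_le_left
  have hnc : Subgroup.normalClosure ((YH : Subgroup ↥L) : Set ↥L) = ⊤ := by
    rw [hYH]; exact hmin.1
  have hS : Setup AH YH CH := by
    refine ⟨?_, ?_, ?_, ?_, ?_, ?_, ?_, ?_, ?_, ?_, ?_⟩
    · intro x a ha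
      exact hAHn.conj_mem a ha x
    · intro y hy y' hy'
      apply Subtype.ext
      exact hYcomm _ ((hmemYH y).1 hy) _ ((hmemYH y').1 hy')
    · intro a ha y hy
      rw [hmemYH] at hy ⊢
      have h1 : (a : G) ∈ Subgroup.normalizer (Y : Set G) := hAN ((hmemAH a).1 ha)
      exact (Subgroup.mem_normalizer_iff.1 h1 _).1 hy
    · intro K hK hKn z
      haveI : K.Normal := ⟨fun k hk x => hKn x k hk⟩
      have h1 : Subgroup.normalClosure ((YH : Subgroup ↥L) : Set ↥L) ≤ K :=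
        Subgroup.normalClosure_le_normal hK
      rw [hnc] at h1
      exact h1 (Subgroup.mem_top z)
    · intro K hK ⟨z, hz⟩ k hk y hy
      have hXL : K.map L.subtype ≤ L := Subgroup.map_subtype_le K
      have hYX : Y ≤ K.map L.subtype := by
        intro y0 hy0
        exact ⟨⟨y0, hYL hy0⟩, hK ((hmemYH _).2 hy0), rfl⟩
      have hne : K.map L.subtype ≠ L := by
        intro h0
        apply hz
        have : (z : G) ∈ K.map L.subtype := by rw [h0]; exact z.2
        obtain ⟨z', hz', hzz⟩ := this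
        have : z' = z := Subtype.ext hzz
        rw [← this]; exact hz'
      have h1 := hmax _ hYX (lt_of_le_of_ne hXL hne)
      have h2 : (k : G) ∈ Subgroup.normalizer (Y : Set G) :=
        (Subgroup.mem_inf.1 (h1 ⟨k, hk, rfl⟩)).2
      rw [hmemYH] at hy ⊢
      exact (Subgroup.mem_normalizer_iff.1 h2 _).1 hy
    · intro hall
      obtain ⟨x, hxL, hxN⟩ := SetLike.exists_of_lt hlt
      apply hxN
      refine Subgroup.mem_inf.2 ⟨hxL, ?_⟩
      apply mem_normalizer_of
      · intro d hd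
        have := hall ⟨x, hxL⟩ ⟨d, hYL hd⟩ ((hmemYH _).2 hd)
        exact (hmemYH _).1 this
      · intro d hd
        have := hall ⟨x, hxL⟩⁻¹ ⟨d, hYL hd⟩ ((hmemYH _).2 hd)
        have h3 := (hmemYH _).1 this
        simpa using h3
    · intro D hD hDn
      haveI : D.Normal := ⟨fun d hd x => hDn x d hd⟩
      have h1 : AH = Subgroup.normalClosure
          (((Y ⊓ Cfsg.pCoreOf p L).subgroupOf L : Subgroup ↥L) : Set ↥L) := by
        apply Subgroup.map_injective L.subtype_injective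
        rw [hAH]
        exact hAcl
      rw [h1]
      apply Subgroup.normalClosure_le_normal
      intro d hd
      rw [SetLike.mem_coe, Subgroup.mem_subgroupOf] at hd
      exact hD d ((hmemYH d).2 (Subgroup.mem_inf.1 hd).1) ((hmemAH d).2 (Subgroup.mem_inf.1 hd).2)
    · rw [hCH]; exact inf_le_left
    · rw [hAH]; exact le_pCore hCHn hCHp
    · intro c hc x
      rw [hCH] at hc
      exact Subgroup.mem_center_iff.1 (Subgroup.mem_inf.1 hc).2 x
    · intro c hc hz
      rw [hCH]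
      exact Subgroup.mem_inf.2 ⟨hc, Subgroup.mem_center_iff.2 hz⟩
  have hrel : (Y ⊓ Cfsg.pCoreOf p L).relIndex Y = AH.relIndex YH := by
    rw [Subgroup.inf_relIndex_left]
    have h1 : AH.map L.subtype = Cfsg.pCoreOf p L := by rw [hAH]; rfl
    have h2 : YH.map L.subtype = Y := by rw [hYH]; exact Subgroup.map_subgroupOf_eq_of_le hYL
    rw [← h1]
    conv_lhs => rw [← h2]
    rw [Subgroup.relIndex_map_map_of_injective _ _ L.subtype_injective]
  have hquot : ∀ (X : Type) [Group X] (e : ↥L ⧸ Cfsg.pCore p ↥L ≃* X),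
      ∃ π : ↥L →* X, Function.Surjective π ∧ π.ker = AH := by
    intro X _ e
    refine ⟨e.toMonoidHom.comp (QuotientGroup.mk' (Cfsg.pCore p ↥L)), ?_, ?_⟩
    · intro z
      obtain ⟨q, hq⟩ := e.surjective z
      obtain ⟨x, hx⟩ := QuotientGroup.mk_surjective q
      exact ⟨x, by
        show e (QuotientGroup.mk x) = z
        rw [hx, hq]⟩
    · ext x
      rw [MonoidHom.mem_ker, hAH]
      show e (QuotientGroup.mk x) = 1 ↔ _
      constructor
      · intro h0
        have : (QuotientGroup.mk x : ↥L ⧸ Cfsg.pCore p ↥L) = 1 := by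
          apply e.injective; rw [h0, map_one]
        exact (QuotientGroup.eq_one_iff x).1 this
      · intro h0
        rw [(QuotientGroup.eq_one_iff x).2 h0, map_one]
  intro Ybar
  have hYbar : Ybar = (Y.subgroupOf NL).map
      (QuotientGroup.mk' (((Cfsg.pCoreOf p L)).subgroupOf NL)) := rfl
  clear_value Ybar
  have hNLL : NL ≤ L := by rw [hNL]; exact inf_le_left
  have hNLN : NL ≤ Subgroup.normalizer (Y : Set G) := by rw [hNL]; exact inf_le_right
  have hYNL : Y ≤ NL := by rw [hNL]; exact le_inf hYL Subgroup.le_normalizer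
  obtain ⟨ι, hι⟩ : ∃ ι : ↥NL →* ↥L, ∀ n : ↥NL, ((ι n : ↥L) : G) = (n : G) :=
    ⟨Subgroup.inclusion hNLL, fun n => rfl⟩
  have hιN : ∀ n : ↥NL, ι n ∈ Subgroup.normalizer ((YH : Subgroup ↥L) : Set ↥L) := by
    intro n
    rw [Subgroup.mem_normalizer_iff]
    intro y
    rw [hmemYH, hmemYH]
    have := Subgroup.mem_normalizer_iff.1 (hNLN n.2) (y : G)
    rw [this]
    have e : (((ι n * y * (ι n)⁻¹ : ↥L)) : G) = (n : G) * (y : G) * (n : G)⁻¹ := by
      show ((ι n : ↥L) : G) * (y : G) * ((ι n : ↥L) : G)⁻¹ = _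
      rw [hι]
    rw [e]
  have hY1 : Ybar ≠ ⊥ := by
    obtain ⟨y₀, hy₀, hy₀A⟩ : ∃ y₀ ∈ YH, y₀ ∉ AH := by
      by_contra hc; push_neg at hc; exact hS.not_le_A hc
    intro h0
    have h1 : QuotientGroup.mk' (((Cfsg.pCoreOf p L)).subgroupOf NL)
        ⟨(y₀ : G), hYNL ((hmemYH y₀).1 hy₀)⟩ ∈ Ybar := by
      rw [hYbar]
      exact ⟨_, Subgroup.mem_subgroupOf.2 ((hmemYH y₀).1 hy₀), rfl⟩
    rw [h0, Subgroup.mem_bot] at h1
    have h2 := (QuotientGroup.eq_one_iff _).1 h1
    rw [Subgroup.mem_subgroupOf] at h2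
    exact hy₀A ((hmemAH y₀).2 h2)
  have hY2 : Ybar.Normal := by
    rw [hYbar]
    haveI : (Y.subgroupOf NL).Normal := Subgroup.normal_subgroupOf_of_le_normalizer hNLN
    exact Subgroup.Normal.map this _ (QuotientGroup.mk'_surjective _)
  have hY3 : Cfsg.IsElementaryAbelian p Ybar := by
    subst hYbar
    refine ⟨⟨⟨fun a b => ?_⟩⟩, ?_⟩
    · apply Subtype.ext
      obtain ⟨y, hy, hya⟩ := a.2
      obtain ⟨y', hy', hyb⟩ := b.2
      show (a : ↥NL ⧸ ((Cfsg.pCoreOf p L)).subgroupOf NL) * b = b * a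
      rw [← hya, ← hyb, ← map_mul, ← map_mul]
      congr 1
      apply Subtype.ext
      exact hYcomm _ (Subgroup.mem_subgroupOf.1 hy) _ (Subgroup.mem_subgroupOf.1 hy')
    · intro a ha
      obtain ⟨y, hy, rfl⟩ := ha
      rw [← map_pow]
      have : y ^ p = 1 := by
        apply Subtype.ext
        exact hYpow _ (Subgroup.mem_subgroupOf.1 hy)
      rw [this, map_one]
  refine ⟨hY1, hY2, hY3, ?_⟩
  have hX : ∃ (X : Type) (_ : Group X) (π : ↥L →* X), Function.Surjective π ∧ π.ker = AH ∧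
      R3 p (YH.map π) := by
    rcases hcases with ⟨F, instF, instFt, hFcard, ⟨e⟩⟩ |
      ⟨hp2, F, instF, instFt, m, hF, hFrel, ⟨e⟩⟩ | ⟨hp2, r, hr, hr2, ⟨e⟩⟩
    · letI := instF
      letI := instFt
      have hcardF : Fintype.card F = AH.relIndex YH := by rw [hFcard, hrel]
      have hdvd : Fintype.card F ∣ Nat.card YH := by
        rw [hcardF]; exact Subgroup.relIndex_dvd_card _ _
      obtain ⟨k, hk⟩ := hYHp.exists_card_eq
      rw [hk] at hdvd
      obtain ⟨n, -, hn⟩ := (Nat.dvd_prime_pow hpp).1 hdvd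
      haveI hchar : CharP F p := Cfsg.Agent.Lib.Helper16.NatSL2.charP_of_card n hn
      obtain ⟨φ₀, hφ₀s, hφ₀k⟩ := hquot _ e
      have hcardE : Nat.card (YH.map φ₀) = Fintype.card F := by
        rw [← Subgroup.relIndex_ker, hφ₀k, hcardF]
      obtain ⟨φ, hφs, hφk, hYU1, hYU2⟩ := exists_aligned (p := p) φ₀ hφ₀s hYHp hcardE
      refine ⟨_, inferInstance, φ, hφs, hφk.trans hφ₀k, ?_⟩
      have hEU : YH.map φ = US F := by
        ext z
        constructor
        · rintro ⟨y, hy, rfl⟩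
          obtain ⟨t, ht⟩ := hYU2 y hy
          rw [ht]; exact uMat_mem t
        · intro hz
          obtain ⟨t, rfl⟩ := exists_of_mem_US hz
          obtain ⟨y, hy, hyt⟩ := hYU1 t
          exact ⟨y, hy, hyt⟩
      rw [hEU]
      exact sl2_R3
    · letI := instF
      letI := instFt
      subst hp2
      obtain ⟨π, hπs, hπk⟩ := hquot _ e
      have hcardE : Nat.card (YH.map π) = Fintype.card F := by
        rw [← Subgroup.relIndex_ker, hπk, ← hrel, ← hFrel]
      have hY2 : ∀ y ∈ YH, y * y = 1 := by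
        intro y hy
        apply Subtype.ext
        have := hYpow _ ((hmemYH y).1 hy)
        rw [pow_two] at this; exact this
      have hE2 : ∀ t ∈ YH.map π, t * t = 1 := by
        rintro _ ⟨y, hy, rfl⟩
        rw [← map_mul, hY2 y hy, map_one]
      by_cases hm : 1 ≤ m
      · exact ⟨_, inferInstance, π, hπs, hπk,
          hSz3 F m hm hF (YH.map π) hE2 (by rw [hcardE, hF])⟩
      · exfalso
        have hm0 : m = 0 := by omega
        subst hm0
        have hF2 : Fintype.card F = 2 := by rw [hF]; norm_num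
        obtain ⟨u, w, hu4, hnc2⟩ := sz2_elements' hF2 (2 ^ (0 + 1)) (by norm_num)
        obtain ⟨g, hg⟩ := hS.exists_genPair
        obtain ⟨y₀, hy₀, hy₀A⟩ : ∃ y₀ ∈ YH, y₀ ∉ AH := by
          by_contra hc; push_neg at hc; exact hS.not_le_A hc
        have hπy₀ : π y₀ ≠ 1 := by
          intro h0; apply hy₀A; rw [← hπk]; exact MonoidHom.mem_ker.2 h0
        have hc2 : Nat.card (YH.map π) = 2 := by rw [hcardE, hF2]
        obtain ⟨z, hz, huniq⟩ := (Nat.card_eq_two_iff' (1 : ↥(YH.map π))).1 hc2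
        have hE : ∀ y ∈ YH, π y = 1 ∨ π y = π y₀ := by
          intro y hy
          by_cases h1 : π y = 1
          · left; exact h1
          · right
            have e1 : (⟨π y, ⟨y, hy, rfl⟩⟩ : ↥(YH.map π)) = z :=
              huniq _ (fun h0 => h1 (congrArg Subtype.val h0))
            have e2 : (⟨π y₀, ⟨y₀, hy₀, rfl⟩⟩ : ↥(YH.map π)) = z :=
              huniq _ (fun h0 => hπy₀ (congrArg Subtype.val h0))
            exact congrArg Subtype.val (e1.trans e2.symm)
        have hgen : ∀ z : ↥(Cfsg.Lie.Sz F (2 ^ (0 + 1))),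
            z ∈ Subgroup.closure ({π y₀, π (g * y₀ * g⁻¹)} : Set ↥(Cfsg.Lie.Sz F (2 ^ (0 + 1)))) := by
          intro z
          obtain ⟨x, rfl⟩ := hπs z
          refine hg ((Subgroup.closure ({π y₀, π (g * y₀ * g⁻¹)} :
            Set ↥(Cfsg.Lie.Sz F (2 ^ (0 + 1))))).comap π) ?_ ?_ x
          · intro y hy
            rw [Subgroup.mem_comap]
            rcases hE y hy with h1 | h1
            · rw [h1]; exact Subgroup.one_mem _
            · rw [h1]; exact Subgroup.subset_closure (Set.mem_insert _ _)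
          · intro y hy
            rw [Subgroup.mem_comap]
            rcases hE y hy with h1 | h1
            · have : π (g * y * g⁻¹) = 1 := by
                rw [map_mul, map_mul, map_inv, h1]; group
              rw [this]; exact Subgroup.one_mem _
            · have : π (g * y * g⁻¹) = π (g * y₀ * g⁻¹) := by
                rw [map_mul, map_mul, map_inv, h1, map_mul, map_mul, map_inv]
              rw [this]; exact Subgroup.subset_closure (Set.mem_insert_of_mem _ rfl)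
        have he1 : π (g * y₀ * g⁻¹) * π (g * y₀ * g⁻¹) = 1 := by
          rw [← map_mul]
          have : g * y₀ * g⁻¹ * (g * y₀ * g⁻¹) = g * (y₀ * y₀) * g⁻¹ := by group
          rw [this, hY2 y₀ hy₀]
          simp
        exact no_two_invol_gen (π y₀) (π (g * y₀ * g⁻¹)) (hE2 _ ⟨y₀, hy₀, rfl⟩) he1 hgen u w hu4 hnc2
    · subst hp2
      obtain ⟨π, hπs, hπk⟩ := hquot _ e
      have hY2 : ∀ y ∈ YH, y * y = 1 := by
        intro y hy
        apply Subtype.ext
        have := hYpow _ ((hmemYH y).1 hy)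
        rw [pow_two] at this; exact this
      have hE2 : ∀ t ∈ YH.map π, t * t = 1 := by
        rintro _ ⟨y, hy, rfl⟩
        rw [← map_mul, hY2 y hy, map_one]
      have hE1 : YH.map π ≠ ⊥ := by
        intro h0
        apply hS.not_le_A
        intro y hy
        rw [← hπk, MonoidHom.mem_ker]
        have : π y ∈ YH.map π := ⟨y, hy, rfl⟩
        rw [h0] at this
        exact Subgroup.mem_bot.1 this
      refine ⟨_, inferInstance, π, hπs, hπk, ?_⟩
      intro V hVN _ _ hV1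
      exact dihedral_R3 hr hr2 (YH.map π) hE2 hE1 V hVN hV1
  obtain ⟨X, instX, π, hπs, hπk, hR3⟩ := hX
  letI := instX
  have hk : ((Cfsg.pCoreOf p L)).subgroupOf NL ≤ (π.comp ι).ker := by
    intro n hn'
    rw [Subgroup.mem_subgroupOf] at hn'
    rw [MonoidHom.mem_ker, MonoidHom.comp_apply]
    have : ι n ∈ AH := (hmemAH (ι n)).2 (by rw [hι]; exact hn')
    rw [← hπk] at this
    exact MonoidHom.mem_ker.1 this
  obtain ⟨ψ, hψ⟩ : ∃ ψ : (↥NL ⧸ ((Cfsg.pCoreOf p L)).subgroupOf NL) →* X,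
      ∀ n : ↥NL, ψ (QuotientGroup.mk n) = π (ι n) :=
    ⟨QuotientGroup.lift _ (π.comp ι) hk, fun n => rfl⟩
  have hψinj : Function.Injective ψ := by
    rw [injective_iff_map_eq_one]
    intro q hq
    obtain ⟨n, rfl⟩ := QuotientGroup.mk_surjective q
    rw [hψ] at hq
    have h1 : ι n ∈ AH := by rw [← hπk]; exact MonoidHom.mem_ker.2 hq
    rw [QuotientGroup.eq_one_iff, Subgroup.mem_subgroupOf]
    have h2 := (hmemAH (ι n)).1 h1
    rw [hι] at h2
    exact h2
  have hYbarmap : Ybar.map ψ = YH.map π := by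
    ext z
    constructor
    · rintro ⟨q, hq, rfl⟩
      rw [hYbar] at hq
      obtain ⟨y, hy, rfl⟩ := hq
      refine ⟨ι y, (hmemYH _).2 (by rw [hι]; exact Subgroup.mem_subgroupOf.1 hy), ?_⟩
      exact (hψ y).symm
    · rintro ⟨y, hy, rfl⟩
      have hyY := (hmemYH y).1 hy
      refine ⟨QuotientGroup.mk (⟨(y : G), hYNL hyY⟩ : ↥NL), ?_, ?_⟩
      · rw [hYbar]
        exact ⟨_, Subgroup.mem_subgroupOf.2 hyY, rfl⟩
      · rw [hψ]
        congr 1
        apply Subtype.ext
        rw [hι]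
  intro V hVn hVel hV1
  apply Subgroup.map_injective hψinj
  rw [hYbarmap]
  apply hR3
  · rintro _ ⟨q, hq, rfl⟩
    obtain ⟨n, rfl⟩ := QuotientGroup.mk_surjective q
    rw [hψ]
    exact Subgroup.le_normalizer_map π (Subgroup.mem_map_of_mem π (hιN n))
  · intro nb hnb v hv
    obtain ⟨q, hq, rfl⟩ := hv
    obtain ⟨x, rfl⟩ := hπs nb
    obtain ⟨z, hz⟩ := exists_not_norm hS π hπk
    have hKY : YH ≤ (Subgroup.normalizer ((YH.map π : Subgroup X) : Set X)).comap π := by
      intro y hy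
      exact Subgroup.mem_comap.2 (Subgroup.le_normalizer (Subgroup.mem_map_of_mem π hy))
    have hmax' := hS.max _ hKY ⟨z, fun h0 => hz (Subgroup.mem_comap.1 h0)⟩
    have hxN : (x : G) ∈ Subgroup.normalizer (Y : Set G) := by
      apply mem_normalizer_of
      · intro d hd
        have := hmax' x (Subgroup.mem_comap.2 hnb) ⟨d, hYL hd⟩ ((hmemYH _).2 hd)
        exact (hmemYH _).1 this
      · intro d hd
        have := hmax' x⁻¹ (Subgroup.mem_comap.2 (by rw [map_inv]; exact Subgroup.inv_mem _ hnb))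
          ⟨d, hYL hd⟩ ((hmemYH _).2 hd)
        have h3 := (hmemYH _).1 this
        simpa using h3
    have hxNL : (x : G) ∈ NL := by
      rw [hNL]; exact Subgroup.mem_inf.2 ⟨x.2, hxN⟩
    have hιx : ι ⟨(x : G), hxNL⟩ = x := by
      apply Subtype.ext
      rw [hι]
    refine ⟨QuotientGroup.mk (⟨(x : G), hxNL⟩ : ↥NL) * q * (QuotientGroup.mk (⟨(x : G), hxNL⟩ : ↥NL))⁻¹,
      hVn.conj_mem q hq _, ?_⟩
    rw [map_mul, map_mul, map_inv, hψ, hιx]
  · rintro _ ⟨q, hq, rfl⟩
    rw [← map_pow, hVel.2 q hq, map_one]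
  · intro h0
    obtain ⟨⟨q, hq⟩, hq1⟩ := (Subgroup.ne_bot_iff_exists_ne_one).1 hV1
    apply hq1
    apply Subtype.ext
    show q = 1
    have h1 : ψ q ∈ V.map ψ := ⟨q, hq, rfl⟩
    rw [h0, Subgroup.mem_bot] at h1
    exact hψinj (by rw [h1, map_one])

end Cfsg.Agent.Lib.Helper16.FrakL
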