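import Mathlib
import Cfsg.Prelude.Def_LocalEven
import Cfsg.Agent.Lib.Helper13.SL2Syl
import Cfsg.Agent.Lib.Helper21.BaerSuzuki
import Cfsg.Agent.Lib.Helper9.Cores

set_option autoImplicit false

namespace Cfsg.Agent.Lib.Helper16.QdOver

open Cfsg Cfsg.Agent.S2301 Cfsg.Agent.Lib.Helper13 Cfsg.Agent.Lib.Helper13.SL2Syl

variable {F : Type*} [Field F]

theorem mem_qdOver_iff (M : Matrix.SpecialLinearGroup (Fin 3) F) :
    M ∈ Cfsg.qdOver F ↔ M.1 2 0 = 0 ∧ M.1 2 1 = 0 ∧ M.1 2 2 = 1 := by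
  constructor
  · intro hM
    refine Subgroup.closure_induction (p := fun M _ => M.1 2 0 = 0 ∧ M.1 2 1 = 0 ∧ M.1 2 2 = 1)
      ?_ ?_ ?_ ?_ hM
    · intro x hx; exact hx
    · simp
    · intro x y _ _ hx hy
      obtain ⟨a0, a1, a2⟩ := hx
      obtain ⟨b0, b1, b2⟩ := hy
      refine ⟨?_, ?_, ?_⟩ <;>
      · show (x.1 * y.1) 2 _ = _
        simp [Matrix.mul_apply, Fin.sum_univ_three, a0, a1, a2, b0, b1, b2]
    · intro x _ hx
      obtain ⟨a0, a1, a2⟩ := hx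
      have h : x.1 * (x⁻¹).1 = 1 := by
        rw [← Matrix.SpecialLinearGroup.coe_mul, mul_inv_cancel]; rfl
      have h0 := congrFun (congrFun h 2) 0
      have h1 := congrFun (congrFun h 2) 1
      have h2 := congrFun (congrFun h 2) 2
      simp [Matrix.mul_apply, Fin.sum_univ_three, a0, a1, a2] at h0 h1 h2
      exact ⟨h0, h1, h2⟩
  · intro h
    exact Subgroup.subset_closure h

theorem row2 (M : Cfsg.qdOver F) : M.1.1 2 0 = 0 ∧ M.1.1 2 1 = 0 ∧ M.1.1 2 2 = 1 :=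
  (mem_qdOver_iff M.1).mp M.2

theorem coe_mul2 (M N : Cfsg.qdOver F) : (M * N).1.1 = M.1.1 * N.1.1 := rfl

theorem coe_one2 : (1 : Cfsg.qdOver F).1.1 = 1 := rfl

theorem mul_entry (M N : Cfsg.qdOver F) (i j : Fin 3) :
    (M * N).1.1 i j = M.1.1 i 0 * N.1.1 0 j + M.1.1 i 1 * N.1.1 1 j + M.1.1 i 2 * N.1.1 2 j := by
  rw [coe_mul2, Matrix.mul_apply, Fin.sum_univ_three]

theorem det_block (M : Cfsg.qdOver F) :
    M.1.1 0 0 * M.1.1 1 1 - M.1.1 0 1 * M.1.1 1 0 = 1 := by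
  have h := M.1.2
  rw [Matrix.det_fin_three] at h
  obtain ⟨h0, h1, h2⟩ := row2 M
  rw [h0, h1, h2] at h
  linear_combination h

theorem ext_entries (M N : Cfsg.qdOver F) (h00 : M.1.1 0 0 = N.1.1 0 0)
    (h01 : M.1.1 0 1 = N.1.1 0 1) (h02 : M.1.1 0 2 = N.1.1 0 2) (h10 : M.1.1 1 0 = N.1.1 1 0)
    (h11 : M.1.1 1 1 = N.1.1 1 1) (h12 : M.1.1 1 2 = N.1.1 1 2) : M = N := by
  obtain ⟨a0, a1, a2⟩ := row2 M
  obtain ⟨b0, b1, b2⟩ := row2 N
  apply Subtype.ext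
  apply Subtype.ext
  ext i j
  fin_cases i <;> fin_cases j
  · exact h00
  · exact h01
  · exact h02
  · exact h10
  · exact h11
  · exact h12
  · exact a0.trans b0.symm
  · exact a1.trans b1.symm
  · exact a2.trans b2.symm

theorem blk_mat_mul (M N : Cfsg.qdOver F) :
    !![(M * N).1.1 0 0, (M * N).1.1 0 1; (M * N).1.1 1 0, (M * N).1.1 1 1] =
      !![M.1.1 0 0, M.1.1 0 1; M.1.1 1 0, M.1.1 1 1] *
        !![N.1.1 0 0, N.1.1 0 1; N.1.1 1 0, N.1.1 1 1] := by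
  obtain ⟨b0, b1, b2⟩ := row2 N
  rw [Matrix.mul_fin_two, mul_entry, mul_entry, mul_entry, mul_entry, b0, b1]
  simp only [mul_zero, add_zero]

theorem blk_mat_one :
    !![(1 : Cfsg.qdOver F).1.1 0 0, (1 : Cfsg.qdOver F).1.1 0 1;
      (1 : Cfsg.qdOver F).1.1 1 0, (1 : Cfsg.qdOver F).1.1 1 1] = 1 := by
  rw [coe_one2]
  ext i j
  fin_cases i <;> fin_cases j <;> simp

/-- the upper-left block homomorphism `Qd(F) → SL₂(F)` -/
def blk : Cfsg.qdOver F →* Matrix.SpecialLinearGroup (Fin 2) F where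
  toFun M := ⟨!![M.1.1 0 0, M.1.1 0 1; M.1.1 1 0, M.1.1 1 1], by
    rw [Matrix.det_fin_two_of]; exact det_block M⟩
  map_one' := Subtype.ext blk_mat_one
  map_mul' M N := Subtype.ext (blk_mat_mul M N)

theorem blk_00 (M : Cfsg.qdOver F) : (blk M).1 0 0 = M.1.1 0 0 := rfl
theorem blk_01 (M : Cfsg.qdOver F) : (blk M).1 0 1 = M.1.1 0 1 := rfl
theorem blk_10 (M : Cfsg.qdOver F) : (blk M).1 1 0 = M.1.1 1 0 := rfl
theorem blk_11 (M : Cfsg.qdOver F) : (blk M).1 1 1 = M.1.1 1 1 := rfl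

theorem blk_eq_one_iff (M : Cfsg.qdOver F) :
    blk M = 1 ↔ M.1.1 0 0 = 1 ∧ M.1.1 0 1 = 0 ∧ M.1.1 1 0 = 0 ∧ M.1.1 1 1 = 1 := by
  constructor
  · intro h
    have h' : (blk M).1 = 1 := by rw [h]; rfl
    refine ⟨?_, ?_, ?_, ?_⟩
    · rw [← blk_00, h']; rfl
    · rw [← blk_01, h']; rfl
    · rw [← blk_10, h']; rfl
    · rw [← blk_11, h']; rfl
  · rintro ⟨h00, h01, h10, h11⟩
    apply Subtype.ext
    ext i j
    fin_cases i <;> fin_cases j
    · exact (blk_00 M).trans h00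
    · exact (blk_01 M).trans h01
    · exact (blk_10 M).trans h10
    · exact (blk_11 M).trans h11

/-- block-diagonal embedding of `SL₂(F)` -/
def dg (A : Matrix.SpecialLinearGroup (Fin 2) F) : Cfsg.qdOver F :=
  ⟨⟨!![A.1 0 0, A.1 0 1, 0; A.1 1 0, A.1 1 1, 0; 0, 0, 1], by
    have h := A.2
    rw [Matrix.det_fin_two] at h
    simp [Matrix.det_fin_three]
    linear_combination h⟩, (mem_qdOver_iff _).mpr ⟨rfl, rfl, rfl⟩⟩

theorem blk_dg (A : Matrix.SpecialLinearGroup (Fin 2) F) : blk (dg A) = A := by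
  apply Subtype.ext
  ext i j
  fin_cases i <;> fin_cases j <;> rfl

theorem dg_02 (A : Matrix.SpecialLinearGroup (Fin 2) F) : (dg A).1.1 0 2 = 0 := rfl
theorem dg_12 (A : Matrix.SpecialLinearGroup (Fin 2) F) : (dg A).1.1 1 2 = 0 := rfl

theorem blk_surjective : Function.Surjective (blk (F := F)) := fun A => ⟨dg A, blk_dg A⟩

/-- translations -/
def tr (z : Fin 2 → F) : Cfsg.qdOver F :=
  ⟨⟨!![1, 0, z 0; 0, 1, z 1; 0, 0, 1], by
    simp [Matrix.det_fin_three]⟩, (mem_qdOver_iff _).mpr ⟨rfl, rfl, rfl⟩⟩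

theorem tr_00 (z : Fin 2 → F) : (tr z).1.1 0 0 = 1 := rfl
theorem tr_01 (z : Fin 2 → F) : (tr z).1.1 0 1 = 0 := rfl
theorem tr_02 (z : Fin 2 → F) : (tr z).1.1 0 2 = z 0 := rfl
theorem tr_10 (z : Fin 2 → F) : (tr z).1.1 1 0 = 0 := rfl
theorem tr_11 (z : Fin 2 → F) : (tr z).1.1 1 1 = 1 := rfl
theorem tr_12 (z : Fin 2 → F) : (tr z).1.1 1 2 = z 1 := rfl
theorem tr_20 (z : Fin 2 → F) : (tr z).1.1 2 0 = 0 := rfl
theorem tr_21 (z : Fin 2 → F) : (tr z).1.1 2 1 = 0 := rfl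
theorem tr_22 (z : Fin 2 → F) : (tr z).1.1 2 2 = 1 := rfl

theorem blk_tr (z : Fin 2 → F) : blk (tr z) = 1 := by
  rw [blk_eq_one_iff]
  exact ⟨rfl, rfl, rfl, rfl⟩

theorem eq_tr_of_blk (M : Cfsg.qdOver F) (h : blk M = 1) :
    M = tr ![M.1.1 0 2, M.1.1 1 2] := by
  obtain ⟨h00, h01, h10, h11⟩ := (blk_eq_one_iff M).mp h
  exact ext_entries _ _ h00 h01 rfl h10 h11 rfl

theorem tr_mul (z z' : Fin 2 → F) : tr z * tr z' = tr (z + z') := by
  apply ext_entries <;> rw [mul_entry] <;>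
    simp only [tr_00, tr_01, tr_02, tr_10, tr_11, tr_12, tr_20, tr_21, tr_22, Pi.add_apply] <;>
    ring

theorem tr_zero : tr (0 : Fin 2 → F) = 1 := by
  apply ext_entries <;>
    simp only [tr_00, tr_01, tr_02, tr_10, tr_11, tr_12, coe_one2, Pi.zero_apply] <;> simp

theorem tr_pow (z : Fin 2 → F) (k : ℕ) : tr z ^ k = tr (k • z) := by
  induction k with
  | zero => rw [pow_zero, zero_smul, tr_zero]
  | succ k ih => rw [pow_succ, ih, tr_mul, succ_nsmul]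

theorem ker_isPGroup (p : ℕ) [Fact p.Prime] [CharP F p] : IsPGroup p (blk (F := F)).ker := by
  intro g
  refine ⟨1, ?_⟩
  apply Subtype.ext
  rw [pow_one, Subgroup.coe_pow, Subgroup.coe_one, eq_tr_of_blk g.1 g.2, tr_pow]
  have h0 : p • ![(g.1).1.1 0 2, (g.1).1.1 1 2] = 0 := by
    ext i
    rw [Pi.smul_apply, nsmul_eq_mul, CharP.cast_eq_zero F p, zero_mul]; rfl
  rw [h0, tr_zero]

theorem normal_p_trivial [Fintype F] (p : ℕ) [Fact p.Prime] [CharP F p]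
    (N : Subgroup (Matrix.SpecialLinearGroup (Fin 2) F)) (hNn : N.Normal) (hNp : IsPGroup p N) :
    N = ⊥ := by
  classical
  obtain ⟨P₀, hP₀⟩ := exists_sylow_US (F := F) p
  obtain ⟨P, hP⟩ := hNp.exists_le_sylow
  obtain ⟨g, hg⟩ := MulAction.exists_smul_eq (Matrix.SpecialLinearGroup (Fin 2) F) P P₀
  have hNU : N ≤ US F := by
    intro n hn
    rw [← hP₀, ← hg]
    show n ∈ (g • P : Sylow p _)
    rw [Cfsg.Agent.Lib.Helper21.BaerSuzuki.mem_smul_sylow]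
    apply hP
    have := hNn.conj_mem n hn g⁻¹
    rwa [inv_inv] at this
  rw [eq_bot_iff]
  intro n hn
  rw [Subgroup.mem_bot]
  obtain ⟨x, hx⟩ := exists_of_mem_US (hNU hn)
  obtain ⟨w, hw⟩ : ∃ w : Matrix.SpecialLinearGroup (Fin 2) F, w.1 = !![0, -1; 1, 0] :=
    ⟨⟨!![0, -1; 1, 0], by rw [Matrix.det_fin_two_of]; ring⟩, rfl⟩
  obtain ⟨y, hy⟩ := exists_of_mem_US (hNU (hNn.conj_mem n hn w))
  rw [hx] at hy
  have h1 := mul_inv_eq_iff_eq_mul.mp hy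
  have h2 : (w * uMat x).1 1 1 = (uMat y * w).1 1 1 := by rw [h1]
  rw [Matrix.SpecialLinearGroup.coe_mul, Matrix.SpecialLinearGroup.coe_mul, hw, uMat_val,
    uMat_val] at h2
  simp [Matrix.mul_apply, Fin.sum_univ_two] at h2
  rw [hx, h2, uMat_zero]

theorem pCore_eq_ker [Fintype F] (p : ℕ) [Fact p.Prime] [CharP F p] :
    Cfsg.pCore p (Cfsg.qdOver F) = (blk (F := F)).ker := by
  apply le_antisymm
  · intro x hx
    rw [MonoidHom.mem_ker]
    have hN : ((Cfsg.pCore p (Cfsg.qdOver F)).map (blk (F := F))) = ⊥ := by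
      apply normal_p_trivial p
      · exact Subgroup.Normal.map (Cfsg.pCore_normal p _) _ blk_surjective
      · exact (Cfsg.Agent.Lib.Helper9.pCore_isPGroup p _).map _
    have h1 : blk x ∈ (Cfsg.pCore p (Cfsg.qdOver F)).map (blk (F := F)) :=
      Subgroup.mem_map_of_mem _ hx
    rw [hN, Subgroup.mem_bot] at h1
    exact h1
  · exact Cfsg.Agent.Lib.Helper9.le_pCore (MonoidHom.normal_ker _) (ker_isPGroup p)

end Cfsg.Agent.Lib.Helper16.QdOver
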