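import Mathlib
import Cfsg.Agent.Lib.Helper3.SzR
import Cfsg.Agent.Lib.Helper16.FrakL7

set_option autoImplicit false
set_option linter.unusedSectionVars false

namespace Cfsg.Agent.Lib.Helper16.SzR3

open Matrix Cfsg.Agent.Lib.Helper3.Sz1 Cfsg.Agent.Lib.Helper3.Sz2 Cfsg.Agent.Lib.Helper3.Sz3
  Cfsg.Agent.Lib.Helper3.Sz4 Cfsg.Agent.Lib.Helper3.Sz5 Cfsg.Agent.Lib.Helper3.Sz6
  Cfsg.Agent.Lib.Helper3.Sz7 Cfsg.Agent.Lib.Helper3.Sz9 Cfsg.Agent.Lib.Helper3.Sz10
  Cfsg.Agent.Lib.Helper3.Sz11 Cfsg.Agent.Lib.Helper3.SzR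
open Cfsg.Agent.Lib.Helper16.FrakL

/-- transport of the uniqueness property along an isomorphism. -/
theorem R3_of_equiv {G G' : Type*} [Group G] [Group G'] (e : G ≃* G') {p q : ℕ}
    (hR : ∀ E : Subgroup G, (∀ t, t ∈ E → t * t = 1) → Nat.card E = q → R3 p E) :
    ∀ E' : Subgroup G', (∀ t, t ∈ E' → t * t = 1) → Nat.card E' = q → R3 p E' := by
  intro E' hE2' hEc'
  let E : Subgroup G := E'.comap e.toMonoidHom
  have hmem : ∀ t : G, t ∈ E ↔ e t ∈ E' := fun t => Iff.rfl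
  have hE2 : ∀ t, t ∈ E → t * t = 1 := by
    intro t ht
    apply e.injective
    rw [map_mul, map_one]
    exact hE2' _ ((hmem t).mp ht)
  have hEc : Nat.card E = q := by
    rw [← hEc']
    apply Nat.card_congr
    exact
      { toFun := fun t => ⟨e t.1, (hmem t.1).mp t.2⟩
        invFun := fun t' => ⟨e.symm t'.1, (hmem _).mpr (by rw [e.apply_symm_apply]; exact t'.2)⟩
        left_inv := fun t => Subtype.ext (e.symm_apply_apply _)
        right_inv := fun t' => Subtype.ext (e.apply_symm_apply _) }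
  have hnorm : ∀ x : G, x ∈ Subgroup.normalizer (E : Set G) ↔
      e x ∈ Subgroup.normalizer (E' : Set G') := by
    intro x
    rw [Subgroup.mem_normalizer_iff, Subgroup.mem_normalizer_iff]
    constructor
    · intro h g'
      have h1 := h (e.symm g')
      rw [hmem, hmem, map_mul, map_mul, map_inv, e.apply_symm_apply] at h1
      exact h1
    · intro h g
      have h1 := h (e g)
      rw [hmem, hmem, map_mul, map_mul, map_inv]
      exact h1
  have h3 := hR E hE2 hEc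
  intro V' hVN' hVn' hVp' hV1'
  let V : Subgroup G := V'.comap e.toMonoidHom
  have hmemV : ∀ t : G, t ∈ V ↔ e t ∈ V' := fun t => Iff.rfl
  have hVE : V = E := by
    apply h3 V
    · intro v hv
      rw [hnorm]
      exact hVN' ((hmemV v).mp hv)
    · intro n hn v hv
      rw [hmemV, map_mul, map_mul, map_inv]
      exact hVn' _ ((hnorm n).mp hn) _ ((hmemV v).mp hv)
    · intro v hv
      apply e.injective
      rw [map_pow, map_one]
      exact hVp' _ ((hmemV v).mp hv)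
    · intro hbot
      apply hV1'
      rw [Subgroup.eq_bot_iff_forall]
      intro v' hv'
      have h4 : e.symm v' ∈ V := by
        rw [hmemV, e.apply_symm_apply]
        exact hv'
      rw [hbot, Subgroup.mem_bot] at h4
      have h5 := congrArg e h4
      rw [e.apply_symm_apply, map_one] at h5
      exact h5
  ext x'
  have h4 : e.symm x' ∈ V ↔ e.symm x' ∈ E := by rw [hVE]
  rw [hmemV, hmem, e.apply_symm_apply] at h4
  exact h4

variable {F : Type*} [Field F] [Fintype F] {m : ℕ}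

/-- conjugation of a central translation by a diagonal element. -/
theorem DHom_u0 (hm : 1 ≤ m) (hF : Fintype.card F = 2 ^ (2 * m + 1)) (k : Fˣ) (b : F) :
    DHom hm hF k * u hm hF 0 b * (DHom hm hF k)⁻¹ =
      u hm hF 0 ((k : F) ^ (2 ^ (m + 1) + 2) * b) := by
  rw [mul_inv_eq_iff_eq_mul]
  apply Subtype.ext
  show D (2 ^ (m + 1)) k * T (2 ^ (m + 1)) 0 b =
    T (2 ^ (m + 1)) 0 ((k : F) ^ (2 ^ (m + 1) + 2) * b) * D (2 ^ (m + 1)) k
  rw [D_T hm hF k 0 b, mul_zero]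

/-- `k ↦ k ^ (s + 2)` is onto the non-zero elements. -/
theorem exists_pow_s2 (hm : 1 ≤ m) (hF : Fintype.card F = 2 ^ (2 * m + 1)) {c : F} (hc : c ≠ 0) :
    ∃ k : Fˣ, (k : F) ^ (2 ^ (m + 1) + 2) = c := by
  have hs := hyp_of_card hm hF
  have hinj : Function.Injective (powMonoidHom (2 ^ (m + 1) + 2) : Fˣ →* Fˣ) := by
    rw [injective_iff_map_eq_one]
    intro k hk
    apply Units.ext
    apply pow_s2_eq_one hs
    have h1 := congrArg Units.val hk
    rw [powMonoidHom_apply, Units.val_pow_eq_pow_val] at h1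
    rw [h1]
    rfl
  have hsurj := Finite.injective_iff_surjective.mp hinj
  obtain ⟨k, hk⟩ := hsurj (Units.mk0 c hc)
  refine ⟨k, ?_⟩
  have h1 := congrArg Units.val hk
  rw [powMonoidHom_apply, Units.val_pow_eq_pow_val] at h1
  rw [h1]
  rfl

/-- the uniqueness property in the ovoid model. -/
theorem sz_R3_ovoid (hm : 1 ≤ m) (hF : Fintype.card F = 2 ^ (2 * m + 1))
    (E : Subgroup ↥(Cfsg.Sz F m)) (hE2 : ∀ t, t ∈ E → t * t = 1)
    (hEc : Nat.card E = 2 ^ (2 * m + 1)) : R3 2 E := by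
  classical
  have hs := hyp_of_card hm hF
  have hfin : Finite (Matrix.SpecialLinearGroup (Fin 4) F) := finite_SL
  have hp2 : Fact (Nat.Prime 2) := ⟨Nat.prime_two⟩
  have hpg : IsPGroup 2 E := IsPGroup.of_card hEc
  obtain ⟨P, hP⟩ := hpg.exists_le_sylow
  obtain ⟨γ, hγ⟩ := sylow_conj hm hF P
  -- every element of `E` is `γ u(0,b) γ⁻¹`
  have hE1 : ∀ t ∈ E, ∃ b : F, t = γ * u hm hF 0 b * γ⁻¹ := by
    intro t ht
    obtain ⟨a, b, hab⟩ := (hγ t).mp (hP ht)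
    have h1 : u hm hF a b * u hm hF a b = 1 := by
      rw [← hab]
      calc γ⁻¹ * t * γ * (γ⁻¹ * t * γ) = γ⁻¹ * (t * t) * γ := by group
        _ = 1 := by rw [hE2 t ht]; group
    have ha := a_zero_of_sq hm hF h1
    refine ⟨b, ?_⟩
    rw [← ha, ← hab]
    group
  choose! β hβ using hE1
  have hinj : Function.Injective (fun t : E => β t.1) := by
    intro t t' h
    apply Subtype.ext
    have h' : β t.1 = β t'.1 := h
    rw [hβ t.1 t.2, hβ t'.1 t'.2, h']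
  have hbij : Function.Bijective (fun t : E => β t.1) := by
    apply hinj.bijective_of_nat_card_le
    rw [hEc, Nat.card_eq_fintype_card, hF]
  have hE3 : ∀ b : F, γ * u hm hF 0 b * γ⁻¹ ∈ E := by
    intro b
    obtain ⟨t, ht⟩ := hbij.2 b
    have ht' : β t.1 = b := ht
    have h1 := hβ t.1 t.2
    rw [ht'] at h1
    rw [← h1]
    exact t.2
  -- a non-identity element of `E` fixes only `γ∞`
  have hfixE : ∀ t ∈ E, t ≠ 1 → ∀ p ∈ Cfsg.suzukiOvoid F m, t.1 • p = p →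
      p = γ.1 • Cfsg.suzukiPointInfinity F := by
    intro t ht ht1 p hp hfix
    have ht' := hβ t ht
    have hb : ¬ ((0 : F) = 0 ∧ β t = 0) := by
      rintro ⟨_, hb⟩
      apply ht1
      rw [ht', hb, u_zero]
      group
    have hfix' : (γ.1 * T (2 ^ (m + 1)) 0 (β t) * γ.1⁻¹) • p = p := by
      have e : t.1 = γ.1 * T (2 ^ (m + 1)) 0 (β t) * γ.1⁻¹ := by
        conv_lhs => rw [ht']
        rfl
      rw [← e]
      exact hfix
    rw [mul_smul, mul_smul] at hfix'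
    have h1 : T (2 ^ (m + 1)) 0 (β t) • (γ.1⁻¹ • p) = γ.1⁻¹ • p :=
      (smul_eq_iff_eq_inv_smul _).mp hfix'
    have h2 := T_fix hm hF hb (smul_mem_ovoid (inv_mem γ.2) hp) h1
    exact inv_smul_eq_iff.mp h2
  -- elements fixing `γ∞` normalise `E`
  have hnorm1 : ∀ y : ↥(Cfsg.Sz F m),
      y.1 • (γ.1 • Cfsg.suzukiPointInfinity F) = γ.1 • Cfsg.suzukiPointInfinity F →
      ∀ g ∈ E, y * g * y⁻¹ ∈ E := by
    intro y hy g hg
    have hg' := hβ g hg
    have hn : (γ⁻¹ * y * γ).1 • Cfsg.suzukiPointInfinity F = Cfsg.suzukiPointInfinity F := by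
      show (γ.1⁻¹ * y.1 * γ.1) • _ = _
      rw [mul_smul, mul_smul, hy, inv_smul_smul]
    obtain ⟨a', b', h1⟩ := norm_of_fix hm hF (γ⁻¹ * y * γ) hn (u hm hF 0 (β g)) ⟨0, β g, rfl⟩
    have h2 : u hm hF a' b' * u hm hF a' b' = 1 := by
      rw [← h1]
      calc (γ⁻¹ * y * γ) * u hm hF 0 (β g) * (γ⁻¹ * y * γ)⁻¹ *
            ((γ⁻¹ * y * γ) * u hm hF 0 (β g) * (γ⁻¹ * y * γ)⁻¹)
          = (γ⁻¹ * y * γ) * (u hm hF 0 (β g) * u hm hF 0 (β g)) * (γ⁻¹ * y * γ)⁻¹ := by group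
        _ = 1 := by rw [u0_sq]; group
    have ha' := a_zero_of_sq hm hF h2
    have h3 : y * g * y⁻¹ = γ * u hm hF 0 b' * γ⁻¹ := by
      rw [← ha', ← h1]
      conv_lhs => rw [hg']
      group
    rw [h3]
    exact hE3 b'
  have hnorm : ∀ y : ↥(Cfsg.Sz F m),
      y.1 • (γ.1 • Cfsg.suzukiPointInfinity F) = γ.1 • Cfsg.suzukiPointInfinity F →
      y ∈ Subgroup.normalizer (E : Set ↥(Cfsg.Sz F m)) := by
    intro y hy
    rw [Subgroup.mem_normalizer_iff]
    intro g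
    constructor
    · exact hnorm1 y hy g
    · intro hg
      have hy' : (y⁻¹).1 • (γ.1 • Cfsg.suzukiPointInfinity F) =
          γ.1 • Cfsg.suzukiPointInfinity F := by
        show y.1⁻¹ • _ = _
        rw [inv_smul_eq_iff, hy]
      have h1 := hnorm1 y⁻¹ hy' _ hg
      have e : y⁻¹ * (y * g * y⁻¹) * y⁻¹⁻¹ = g := by group
      rw [e] at h1
      exact h1
  -- elements of `N(E)` fix `γ∞`
  obtain ⟨b1, hb10, _⟩ := exists_ne_zero_one (F := F) hm hF
  obtain ⟨t0, ht0⟩ : ∃ t0, t0 = γ * u hm hF 0 b1 * γ⁻¹ := ⟨_, rfl⟩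
  have ht0E : t0 ∈ E := by
    rw [ht0]
    exact hE3 b1
  have ht01 : t0 ≠ 1 := by
    intro h
    have h1 : u hm hF 0 b1 = 1 := by
      have e : u hm hF 0 b1 = γ⁻¹ * t0 * γ := by rw [ht0]; group
      rw [e, h]
      group
    rw [← u_zero hm hF] at h1
    exact hb10 (u_inj hm hF h1).2
  have hfixt0 : t0.1 • (γ.1 • Cfsg.suzukiPointInfinity F) = γ.1 • Cfsg.suzukiPointInfinity F := by
    rw [ht0]
    show (γ.1 * T (2 ^ (m + 1)) 0 b1 * γ.1⁻¹) • _ = _
    rw [mul_smul, mul_smul, inv_smul_smul, T_pInf]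
  have hfixN : ∀ y ∈ Subgroup.normalizer (E : Set ↥(Cfsg.Sz F m)),
      y.1 • (γ.1 • Cfsg.suzukiPointInfinity F) = γ.1 • Cfsg.suzukiPointInfinity F := by
    intro y hy
    have h1 : y * t0 * y⁻¹ ∈ E := (Subgroup.mem_normalizer_iff.mp hy t0).mp ht0E
    have h2 : y * t0 * y⁻¹ ≠ 1 := by
      intro h
      apply ht01
      have e : t0 = y⁻¹ * (y * t0 * y⁻¹) * y := by group
      rw [e, h]
      group
    have h3 : (y * t0 * y⁻¹).1 • (y.1 • (γ.1 • Cfsg.suzukiPointInfinity F)) =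
        y.1 • (γ.1 • Cfsg.suzukiPointInfinity F) := by
      show (y.1 * t0.1 * y.1⁻¹) • _ = _
      rw [mul_smul, mul_smul, inv_smul_smul, hfixt0]
    exact hfixE _ h1 h2 _ (smul_mem_ovoid y.2 (smul_mem_ovoid γ.2 (pInf_mem m))) h3
  -- now the uniqueness
  intro V hVN hVn hVp hV1
  have hVE : V ≤ E := by
    intro v hv
    by_cases hv1 : v = 1
    · rw [hv1]; exact E.one_mem
    have hv2 : v * v = 1 := by rw [← pow_two]; exact hVp v hv
    have hpg' : IsPGroup 2 (Subgroup.zpowers v) := by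
      apply IsPGroup.of_card (n := 1)
      rw [Nat.card_zpowers, pow_one]
      exact orderOf_eq_prime (by rw [pow_two]; exact hv2) hv1
    obtain ⟨P', hP'⟩ := hpg'.exists_le_sylow
    obtain ⟨γ', hγ'⟩ := sylow_conj hm hF P'
    obtain ⟨a, b, hab⟩ := (hγ' v).mp (hP' (Subgroup.mem_zpowers v))
    have h1 : u hm hF a b * u hm hF a b = 1 := by
      rw [← hab]
      calc γ'⁻¹ * v * γ' * (γ'⁻¹ * v * γ') = γ'⁻¹ * (v * v) * γ' := by group
        _ = 1 := by rw [hv2]; group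
    have ha := a_zero_of_sq hm hF h1
    subst ha
    have hv_eq : v = γ' * u hm hF 0 b * γ'⁻¹ := by
      rw [← hab]
      group
    have hb : ¬ ((0 : F) = 0 ∧ b = 0) := by
      rintro ⟨_, hb⟩
      apply hv1
      rw [hv_eq, hb, u_zero]
      group
    have hfv := hfixN v (hVN hv)
    have hfv' : (γ'.1 * T (2 ^ (m + 1)) 0 b * γ'.1⁻¹) • (γ.1 • Cfsg.suzukiPointInfinity F) =
        γ.1 • Cfsg.suzukiPointInfinity F := by
      have e : v.1 = γ'.1 * T (2 ^ (m + 1)) 0 b * γ'.1⁻¹ := by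
        conv_lhs => rw [hv_eq]
        rfl
      rw [← e]
      exact hfv
    rw [mul_smul, mul_smul] at hfv'
    have h2 : T (2 ^ (m + 1)) 0 b • (γ'.1⁻¹ • (γ.1 • Cfsg.suzukiPointInfinity F)) =
        γ'.1⁻¹ • (γ.1 • Cfsg.suzukiPointInfinity F) :=
      (smul_eq_iff_eq_inv_smul _).mp hfv'
    have h3 := T_fix hm hF hb
      (smul_mem_ovoid (inv_mem γ'.2) (smul_mem_ovoid γ.2 (pInf_mem m))) h2
    -- `γ⁻¹ γ'` fixes `∞`
    have h4 : (γ⁻¹ * γ').1 • Cfsg.suzukiPointInfinity F = Cfsg.suzukiPointInfinity F := by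
      show (γ.1⁻¹ * γ'.1) • _ = _
      rw [mul_smul, inv_smul_eq_iff]
      exact (inv_smul_eq_iff.mp h3).symm
    obtain ⟨a', b', h5⟩ := norm_of_fix hm hF (γ⁻¹ * γ') h4 (u hm hF 0 b) ⟨0, b, rfl⟩
    have h6 : u hm hF a' b' * u hm hF a' b' = 1 := by
      rw [← h5]
      calc (γ⁻¹ * γ') * u hm hF 0 b * (γ⁻¹ * γ')⁻¹ *
            ((γ⁻¹ * γ') * u hm hF 0 b * (γ⁻¹ * γ')⁻¹)
          = (γ⁻¹ * γ') * (u hm hF 0 b * u hm hF 0 b) * (γ⁻¹ * γ')⁻¹ := by group
        _ = 1 := by rw [u0_sq]; group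
    have ha' := a_zero_of_sq hm hF h6
    have h7 : v = γ * u hm hF 0 b' * γ⁻¹ := by
      rw [← ha', ← h5]
      conv_lhs => rw [hv_eq]
      group
    rw [h7]
    exact hE3 b'
  apply le_antisymm hVE
  obtain ⟨v, hv, hv1⟩ : ∃ v ∈ V, v ≠ 1 := by
    by_contra hcon
    push_neg at hcon
    apply hV1
    rw [Subgroup.eq_bot_iff_forall]
    exact hcon
  have hv' := hβ v (hVE hv)
  have hb0 : β v ≠ 0 := by
    intro h
    apply hv1
    rw [hv', h, u_zero]
    group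
  intro t ht
  have ht' := hβ t ht
  by_cases hc : β t = 0
  · rw [ht', hc, u_zero]
    have e : γ * (1 : ↥(Cfsg.Sz F m)) * γ⁻¹ = 1 := by group
    rw [e]
    exact V.one_mem
  have hq : β t * (β v)⁻¹ ≠ 0 := mul_ne_zero hc (inv_ne_zero hb0)
  obtain ⟨k, hk⟩ := exists_pow_s2 hm hF hq
  have hy : γ * DHom hm hF k * γ⁻¹ ∈ Subgroup.normalizer (E : Set ↥(Cfsg.Sz F m)) := by
    apply hnorm
    show (γ.1 * D (2 ^ (m + 1)) k * γ.1⁻¹) • (γ.1 • Cfsg.suzukiPointInfinity F) = _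
    rw [mul_smul, mul_smul, inv_smul_smul, D_pInf]
  have h1 := hVn _ hy v hv
  have h2 : γ * DHom hm hF k * γ⁻¹ * v * (γ * DHom hm hF k * γ⁻¹)⁻¹ = t := by
    rw [ht']
    conv_lhs => rw [hv']
    calc γ * DHom hm hF k * γ⁻¹ * (γ * u hm hF 0 (β v) * γ⁻¹) * (γ * DHom hm hF k * γ⁻¹)⁻¹
        = γ * (DHom hm hF k * u hm hF 0 (β v) * (DHom hm hF k)⁻¹) * γ⁻¹ := by group
      _ = γ * u hm hF 0 (β t) * γ⁻¹ := by
          rw [DHom_u0, hk, inv_mul_cancel_right₀ hb0]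
  rw [← h2]
  exact h1

/-- the uniqueness property for the Lie-type model of the Suzuki group. -/
theorem sz_R3 (hm : 1 ≤ m) (hF : Fintype.card F = 2 ^ (2 * m + 1))
    (E : Subgroup (Cfsg.Lie.Sz F (2 ^ (m + 1)))) (hE2 : ∀ t, t ∈ E → t * t = 1)
    (hEc : Nat.card E = 2 ^ (2 * m + 1)) : R3 2 E :=
  R3_of_equiv (Cfsg.Agent.Lib.Helper14.SzLink.szEquiv hm hF)
    (fun E hE2 hEc => sz_R3_ovoid hm hF E hE2 hEc) E hE2 hEc

end Cfsg.Agent.Lib.Helper16.SzR3
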